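import Cfsg.Agent.BH.Row2L.Defs
import Cfsg.Agent.BH.RowO.Mv
import Cfsg.Agent.BH.RowO.E2

/-!
# BH (S4524), the prime `2`: the pure boxes `A3`, `A2` (helper89)
-/

set_option autoImplicit false
set_option linter.unusedSectionVars false

namespace Cfsg.Agent.BH.R2

open Cfsg Subgroup Cfsg.Agent.TO Cfsg.Agent.BH.RO
open Cfsg.Agent.KM.Ev (Om)

namespace PA

section pure

variable {V : Type} [Group V]

/-- the fixed points -/
def Fx (k : MulAut V) : Subgroup V := k.toMonoidHom.eqLocus (MonoidHom.id V)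

theorem mem_Fx {k : MulAut V} {x : V} : x ∈ Fx k ↔ k x = x := Iff.rfl

theorem two {Q A B : Subgroup V} (h : ∀ t ∈ Q, t ∈ A ∨ t ∈ B) : Q ≤ A ∨ Q ≤ B := by
  by_contra hc
  rw [not_or, SetLike.not_le_iff_exists, SetLike.not_le_iff_exists] at hc
  obtain ⟨⟨b, hb, hb'⟩, a, ha, ha'⟩ := hc
  rcases h _ (mul_mem ha hb) with k | k
  · exact hb' ((mul_mem_cancel_left ((h a ha).resolve_right ha')).1 k)
  · exact ha' ((mul_mem_cancel_right ((h b hb).resolve_left hb')).1 k)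

theorem only {Q A B C : Subgroup V} (h : ∀ t ∈ Q, t ∈ A ∨ t ∈ B ∨ t ∈ C) (hB : ¬ Q ≤ B) (hC : ¬ Q ≤ C) :
    ∃ a ∈ Q, a ∈ A ∧ a ∉ B ∧ a ∉ C := by
  by_contra hc
  push Not at hc
  refine (two (A := B) (B := C) fun t ht => ?_).elim hB hC
  rcases h t ht with k | k
  · exact or_iff_not_imp_left.2 (hc t ht k)
  · exact k

theorem third {Q A B C : Subgroup V} (h : ∀ t ∈ Q, t ∈ A ∨ t ∈ B ∨ t ∈ C) {c : V} (hc : c ∈ Q) (c1 : c ∉ A) (c2 : c ∉ B)
    (c3 : c ∈ C) {x : V} (hx : x ∈ Q) (x1 : x ∈ A) (x2 : x ∈ B) : x ∈ C := by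
  rcases h _ (mul_mem hx hc) with k | k | k
  · exact (c1 ((mul_mem_cancel_left x1).1 k)).elim
  · exact (c2 ((mul_mem_cancel_left x2).1 k)).elim
  · exact (mul_mem_cancel_right c3).1 k

theorem cos {Q A B C : Subgroup V} (h : ∀ t ∈ Q, t ∈ A ∨ t ∈ B ∨ t ∈ C) {a b g : V} (ha : a ∈ Q) (hb : b ∈ Q) (hg : g ∈ Q)
    (a1 : a ∈ A) (a2 : a ∉ B) (b1 : b ∉ A) (b2 : b ∈ B) (g1 : g ∈ A) (g2 : g ∉ B) : a⁻¹ * g ∈ A ∧ a⁻¹ * g ∈ C := by
  have k : ∀ x ∈ Q, x ∈ A → x ∉ B → b * x ∈ C := fun x hx x1 x2 => by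
    rcases h _ (mul_mem hb hx) with k | k | k
    · exact (b1 ((mul_mem_cancel_right x1).1 k)).elim
    · exact (x2 ((mul_mem_cancel_left b2).1 k)).elim
    · exact k
  refine ⟨mul_mem (inv_mem a1) g1, ?_⟩
  have h1 := mul_mem (inv_mem (k a ha a1 a2)) (k g hg g1 g2)
  rwa [mul_inv_rev, mul_assoc, inv_mul_cancel_left] at h1

/-- a union of three proper subgroups -/
theorem three {Q A B C : Subgroup V} (h : ∀ t ∈ Q, t ∈ A ∨ t ∈ B ∨ t ∈ C) (hA : ¬ Q ≤ A) (hB : ¬ Q ≤ B) (hC : ¬ Q ≤ C) :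
    (A ⊓ B ⊓ C).relIndex Q ≤ 4 ∧ A ≠ ⊥ ∧ B ≠ ⊥ ∧ C ≠ ⊥ := by
  have h1 : ∀ t ∈ Q, t ∈ B ∨ t ∈ A ∨ t ∈ C := fun t ht => by have := h t ht; tauto
  have h2 : ∀ t ∈ Q, t ∈ C ∨ t ∈ A ∨ t ∈ B := fun t ht => by have := h t ht; tauto
  have h3 : ∀ t ∈ Q, t ∈ A ∨ t ∈ C ∨ t ∈ B := fun t ht => by have := h t ht; tauto
  have h4 : ∀ t ∈ Q, t ∈ B ∨ t ∈ C ∨ t ∈ A := fun t ht => by have := h t ht; tauto
  obtain ⟨a, ha, a1, a2, a3⟩ := only h hB hC
  obtain ⟨b, hb, b2, b1, b3⟩ := only h1 hA hC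
  obtain ⟨c, hc, c3, c1, c2⟩ := only h2 hA hB
  refine ⟨?_, fun e => a2 (by rw [e, mem_bot] at a1; exact a1 ▸ one_mem B),
    fun e => b1 (by rw [e, mem_bot] at b2; exact b2 ▸ one_mem A), fun e => c1 (by rw [e, mem_bot] at c3; exact c3 ▸ one_mem A)⟩
  let f : Fin 4 → Q ⧸ (A ⊓ B ⊓ C).subgroupOf Q := ![(1 : Q), (⟨a, ha⟩ : Q), (⟨b, hb⟩ : Q), (⟨c, hc⟩ : Q)]
  have hf : Function.Surjective f := fun y => by
    obtain ⟨⟨g, hg⟩, rfl⟩ := QuotientGroup.mk_surjective y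
    by_cases g1 : g ∈ A <;> by_cases g2 : g ∈ B
    · exact ⟨0, QuotientGroup.eq.2 (show (1 : V)⁻¹ * g ∈ A ⊓ B ⊓ C by
        rw [inv_one, one_mul]; exact ⟨⟨g1, g2⟩, third h hc c1 c2 c3 hg g1 g2⟩)⟩
    · obtain ⟨k1, k2⟩ := cos h ha hb hg a1 a2 b1 b2 g1 g2
      exact ⟨1, QuotientGroup.eq.2 (show a⁻¹ * g ∈ A ⊓ B ⊓ C from
        ⟨⟨k1, third h3 hb b1 b3 b2 (mul_mem (inv_mem ha) hg) k1 k2⟩, k2⟩)⟩
    · obtain ⟨k1, k2⟩ := cos h1 hb ha hg b2 b1 a2 a1 g2 g1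
      exact ⟨2, QuotientGroup.eq.2 (show b⁻¹ * g ∈ A ⊓ B ⊓ C from
        ⟨⟨third h4 ha a2 a3 a1 (mul_mem (inv_mem hb) hg) k1 k2, k1⟩, k2⟩)⟩
    · obtain ⟨k1, k2⟩ := cos h2 hc ha hg c3 c1 a3 a1 (((h g hg).resolve_left g1).resolve_left g2) g1
      exact ⟨3, QuotientGroup.eq.2 (show c⁻¹ * g ∈ A ⊓ B ⊓ C from
        ⟨⟨third h4 ha a2 a3 a1 (mul_mem (inv_mem hc) hg) k2 k1, k2⟩, k1⟩)⟩
  exact (Nat.card_le_card_of_surjective f hf).trans (by simp)

variable [Finite V]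

/-- the covering lemma -/
theorem cover {Q : Subgroup V} {X : Subgroup (MulAut V)} {α : MulAut V} (hα : ∀ u ∈ Q, α u ∈ Q) (hX : (CQ Q).relIndex X ≤ 3)
    (h : ∀ t ∈ Q, ∃ x ∈ X, x (α t) = t ∧ ∃ u ∈ Q, x (α u) ≠ u) :
    ∃ R ≤ Q, R.relIndex Q ≤ 4 ∧ ∀ x ∈ X, ∀ r ∈ R, x r = r := by
  classical
  have _ : Finite (MulAut V) := Finite.of_injective _ MulEquiv.toEquiv_injective
  obtain ⟨e⟩ : Nonempty (X ⧸ (CQ Q).subgroupOf X ↪ Fin 3) :=
    have := Fintype.ofFinite (X ⧸ (CQ Q).subgroupOf X)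
    Function.Embedding.nonempty_of_card_le (by rw [Fintype.card_fin, ← Nat.card_eq_fintype_card]; exact hX)
  obtain ⟨f, hf⟩ : ∃ f : Fin 3 → X, ∀ x : X, ∃ i, ∀ u ∈ Q, (f i).1 u = x.1 u := by
    refine ⟨fun i => (Function.invFun e i).out, fun x => ⟨e x, fun u hu => ?_⟩⟩
    beta_reduce
    rw [Function.leftInverse_invFun e.injective]
    obtain ⟨c, hc⟩ := QuotientGroup.mk_out_eq_mul ((CQ Q).subgroupOf X) x
    rw [hc, coe_mul, MulAut.mul_apply, show c.1.1 u = u from (mem_fixingSubgroup_iff _).1 (mem_subgroupOf.1 c.2) u hu]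
  let H : Fin 3 → Subgroup V := fun i => if Q ≤ Fx ((f i).1 * α) then ⊥ else Fx ((f i).1 * α)
  obtain ⟨x₀, -, -, u₀, hu₀, h0⟩ := h 1 (one_mem Q)
  have h1 : ∀ i, ¬ Q ≤ H i := fun i k => by
    simp only [H] at k
    split_ifs at k with k1
    · rw [mem_bot.1 (k hu₀), map_one, map_one] at h0
      exact h0 rfl
    · exact k1 k
  have h2 : ∀ t ∈ Q, ∃ i, t ∈ H i := fun t ht => by
    obtain ⟨x, hx, k1, u, hu, k2⟩ := h t ht
    obtain ⟨i, hi⟩ := hf ⟨x, hx⟩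
    refine ⟨i, ?_⟩
    simp only [H]
    rw [if_neg fun k => k2 ((hi _ (hα u hu)).symm.trans (k hu))]
    exact (hi _ (hα t ht)).trans k1
  obtain ⟨k0, k1⟩ := three (A := H 0) (B := H 1) (C := H 2) (fun t ht => by
    obtain ⟨i, hi⟩ := h2 t ht
    fin_cases i
    exacts [Or.inl hi, Or.inr (Or.inl hi), Or.inr (Or.inr hi)]) (h1 0) (h1 1) (h1 2)
  have h3 : ∀ i, H i = Fx ((f i).1 * α) := fun i => by
    have k2 : H i ≠ ⊥ := by
      fin_cases i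
      exacts [k1.1, k1.2.1, k1.2.2]
    exact if_neg fun k => k2 (if_pos k)
  have h4 : ∀ x ∈ X, ∀ r ∈ (H 0 ⊓ H 1 ⊓ H 2) ⊓ Q, x (α r) = r := fun x hx r hr => by
    obtain ⟨i, hi⟩ := hf ⟨x, hx⟩
    have k2 : r ∈ H i := by
      fin_cases i
      exacts [hr.1.1.1, hr.1.1.2, hr.1.2]
    rw [h3] at k2
    exact (hi _ (hα r hr.2)).symm.trans k2
  refine ⟨_, inf_le_right, by rwa [inf_relIndex_right], fun x hx r hr => ?_⟩
  have k2 := h4 x hx r hr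
  rwa [show α r = r from h4 1 (one_mem X) r hr] at k2

variable (h2 : ∀ x : V, x * x = 1)
include h2

theorem inv_eq (x : V) : x⁻¹ = x := inv_eq_of_mul_eq_one_right (h2 x)

theorem comm (x y : V) : x * y = y * x := by rw [← inv_eq h2 (x * y), mul_inv_rev, inv_eq h2, inv_eq h2]

theorem sq_fix {k : MulAut V} {U W : Subgroup V} (hU : U ≤ Fx k) (hW : ∀ x ∈ W, k x ∈ W) (hi : U.relIndex W ≤ 2) :
    W ≤ Fx (k * k) := fun x hx => by
  show k (k x) = x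
  have h0 : U.relIndex W ≠ 0 := index_ne_zero_of_finite
  by_cases h1 : U.relIndex W = 1
  · have h3 : k x = x := hU (relIndex_eq_one.1 h1 hx)
    rw [h3, h3]
  have h3 : x * k x ∈ U := (mul_mem_iff_of_index_two (H := U.subgroupOf W) (a := ⟨x, hx⟩) (b := ⟨k x, hW x hx⟩)
    (show U.relIndex W = 2 by omega)).2 ⟨fun h => show k x ∈ U by rwa [show k x = x from hU h],
      fun h => show x ∈ U by rw [← k.injective (show k (k x) = k x from hU h)]; exact h⟩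
  have h4 : k (x * k x) = x * k x := hU h3
  rw [map_mul, comm h2 x] at h4
  exact mul_left_cancel h4

theorem sq_one {k : MulAut V} (hi : (Fx k).index ≤ 2) : k * k = 1 :=
  MulEquiv.ext fun x => sq_fix h2 le_rfl (W := ⊤) (fun _ _ => trivial) (by rwa [relIndex_top_right]) (mem_top x)

theorem card_le {G : Subgroup (MulAut V)} (ho : ∀ g ∈ G, g * g = 1 → g = 1) {U : Subgroup V} (hU : ∀ g ∈ G, U ≤ Fx g)
    (hi : U.index ≤ 4) : Nat.card G ≤ 3 := by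
  have _ : Finite (MulAut V) := Finite.of_injective _ MulEquiv.toEquiv_injective
  by_cases ht : U = ⊤
  · rw [show G = ⊥ from eq_bot_iff.2 fun g hg => MulEquiv.ext fun x => hU g hg (ht ▸ mem_top x), card_bot]
    omega
  obtain ⟨w, -, hw⟩ := SetLike.exists_of_lt (lt_top_iff_ne_top.2 ht)
  have key : ∀ k ∈ G, w⁻¹ * k w ∈ U → k = 1 := fun k hk h => by
    have h1 : k (w⁻¹ * k w) = w⁻¹ * k w := hU k hk h
    have h3 : w ∈ Fx (k * k) := by
      rw [map_mul, inv_eq h2, comm h2 w] at h1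
      exact mul_left_cancel h1
    have h4 : U < Fx (k * k) := lt_of_le_of_ne (hU _ (mul_mem hk hk)) fun e => hw (e ▸ h3)
    have h5 := index_strictAnti h4
    obtain ⟨d, hd⟩ := index_dvd_of_le h4.le
    refine ho k hk (ho _ (mul_mem hk hk) (sq_one h2 ?_))
    rcases d with _ | _ | d
    · exact absurd hd index_ne_zero_of_finite
    · omega
    · nlinarith
  let f : Option G → V ⧸ U := fun o => o.elim ((1 : V) : V ⧸ U) fun g => (g.1 w : V)
  have k0 : ∀ g ∈ G, g w ∉ U := fun g hg h => hw (by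
    have h1 : g⁻¹ (g w) = g w := hU _ (inv_mem hg) h
    rw [MulAut.inv_apply_self] at h1
    exact h1 ▸ h)
  have hf : Function.Injective f := by
    rintro (_ | g) (_ | g') e
    · rfl
    · exact (k0 _ g'.2 (by simpa using QuotientGroup.eq.1 e)).elim
    · exact (k0 _ g.2 (by simpa using QuotientGroup.eq.1 e.symm)).elim
    · have h1 : (g.1 w)⁻¹ * g'.1 w ∈ U := QuotientGroup.eq.1 e
      have h3 : g.1⁻¹ ((g.1 w)⁻¹ * g'.1 w) = (g.1 w)⁻¹ * g'.1 w := hU _ (inv_mem g.2) h1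
      rw [← h3, map_mul, map_inv, MulAut.inv_apply_self] at h1
      rw [Subtype.ext (inv_mul_eq_one.1 (key _ (mul_mem (inv_mem g.2) g'.2) h1))]
  have h1 := Nat.card_le_card_of_injective f hf
  rw [Finite.card_option] at h1
  have h3 : Nat.card (V ⧸ U) ≤ 4 := hi
  omega

theorem idx_two (h8 : Nat.card V ≤ 8) {a : MulAut V} (ha : a * a = 1) : (Fx a).index ≤ 2 := by
  let ψ : V →* V := MonoidHom.mk' (fun v => v * a v) fun x y => by
    rw [map_mul, mul_assoc, mul_assoc, ← mul_assoc y, comm h2 y, mul_assoc]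
  have h1 : ψ.ker = Fx a := Subgroup.ext fun v =>
    ⟨fun h => ((inv_eq h2 v).symm.trans (inv_eq_of_mul_eq_one_right h)).symm, fun h => show v * a v = 1 by
      rw [show a v = v from h, h2]⟩
  have h3 : ψ.range ≤ Fx a := by
    rintro _ ⟨v, rfl⟩
    show a (v * a v) = v * a v
    rw [map_mul, ← MulAut.mul_apply, ha, MulAut.one_apply, comm h2]
  have h4 := card_le_of_le h3
  rw [← index_ker, h1] at h4
  have h5 := (Fx a).index_mul_card
  nlinarith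

/-- a group of odd order which is normalised by an involution -/
theorem three_of_inv (h8 : Nat.card V ≤ 8) {G : Subgroup (MulAut V)} (ho : ∀ g ∈ G, g * g = 1 → g = 1) {a : MulAut V}
    (ha : a * a = 1) (h1 : a ≠ 1) (hn : ∀ g ∈ G, a * g * a⁻¹ ∈ G) : Nat.card G ≤ 3 := by
  have _ : Finite (MulAut V) := Finite.of_injective _ MulEquiv.toEquiv_injective
  have i0 : (Fx a).index ≠ 0 := index_ne_zero_of_finite
  have i1 : (Fx a).index ≠ 1 := fun e => h1 (MulEquiv.ext fun x => (index_eq_one.1 e).ge (mem_top x))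
  have i2 : (Fx a).index = 2 := by have := idx_two h2 h8 ha; omega
  obtain ⟨w, -, hw⟩ := SetLike.exists_of_lt (lt_top_iff_ne_top.2 fun e => i1 (index_eq_one.2 e))
  have hC : ∀ c ∈ G, a * c * a⁻¹ = c → c = 1 := fun c hc e => by
    have e1 : ∀ x, a (c x) = c (a x) := fun x => by rw [← MulAut.mul_apply, ← MulAut.mul_apply, mul_inv_eq_iff_eq_mul.1 e]
    have e2 : a (w * c w) = w * c w := (mul_mem_iff_of_index_two i2).2 ⟨fun h => (hw h).elim, fun h =>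
      (hw (c.injective ((e1 w).symm.trans h))).elim⟩
    have e3 : w * a w ∈ Fx c := by
      show c (w * a w) = w * a w
      rw [map_mul] at e2 ⊢
      rw [← e1, eq_inv_mul_of_mul_eq e2, inv_eq h2, comm h2 (c w), mul_assoc, mul_assoc, h2, mul_one, comm h2]
    have e4 : w * a w ≠ 1 := fun h => hw ((inv_eq h2 w).symm.trans (inv_eq_of_mul_eq_one_right h)).symm
    have e5 : w * a w ∈ Fx a := by
      show a (w * a w) = w * a w
      rw [map_mul, ← MulAut.mul_apply, ha, MulAut.one_apply, comm h2]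
    have e6 := relIndex_mul_index (zpowers_le.2 e5)
    have e7 := (zpowers (w * a w)).index_mul_card
    rw [Nat.card_zpowers, orderOf_eq_prime (p := 2) (by rw [pow_two, h2]) e4] at e7
    have e8 := sq_fix h2 (zpowers_le.2 e3) (W := Fx a) (fun x hx => (e1 x).trans (congrArg c hx)) (by rw [i2] at e6; omega)
    exact ho c hc (ho _ (mul_mem hc hc) (sq_one h2 ((index_antitone e8).trans i2.le)))
  let φ : G →* G := ((MulAut.conj a).toMonoidHom.comp G.subtype).codRestrict G fun g => hn g g.2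
  have f1 : MonoidHom.FixedPointFree φ := fun g e => Subtype.ext (hC g g.2 (congrArg Subtype.val e))
  have f2 : Function.Involutive φ := fun g => Subtype.ext (by
    show a * (a * g * a⁻¹) * a⁻¹ = g
    rw [inv_eq_of_mul_eq_one_right ha, ← mul_assoc, ← mul_assoc, ha, one_mul, mul_assoc, ha, mul_one])
  by_cases h0 : G = ⊥
  · rw [h0, card_bot]
    omega
  obtain ⟨g, hg⟩ := ne_bot_iff_exists_ne_one.1 h0
  have e1 : a * g * a⁻¹ = (g : MulAut V)⁻¹ := congrArg Subtype.val (congrFun (f1.coe_eq_inv_of_involutive f2) g)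
  have e2 : a * g * (a * g) = 1 := by
    rw [inv_eq_of_mul_eq_one_right ha] at e1
    rw [← mul_assoc, e1, inv_mul_cancel]
  have e3 : Fx a ⊓ Fx (a * g) ≤ Fx g.1 := fun x hx => a.injective (hx.2.trans (show a x = x from hx.1).symm)
  have e4 : (Fx g.1).index ≤ 4 := (index_antitone e3).trans (index_inf_le.trans
    (Nat.mul_le_mul i2.le (idx_two h2 h8 e2)))
  have e5 : ¬ (Fx g.1).index ≤ 2 := fun h => hg (Subtype.ext (ho _ g.2 (sq_one h2 h)))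
  have e6 := (Fx g.1).index_mul_card
  have e7 : ¬ 2 < (Fx g.1 : Set V).ncard := fun h => by
    have h3 : 2 < Nat.card (Fx g.1) := h
    nlinarith
  refine card_le h2 ho (fun k hk x hx => by_contra fun h3 => e7 ?_) e4
  have e8 : g.1 * k = k * g.1 := congrArg Subtype.val (f1.commute_all_of_involutive f2 g ⟨k, hk⟩)
  have e9 : x ≠ 1 := fun h => h3 (h ▸ one_mem _)
  refine (Set.two_lt_ncard_iff (Set.toFinite _)).2 ⟨1, x, k x, one_mem _, hx, ?_, e9.symm,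
    fun h => e9 (k.injective (by rw [← h, map_one])), fun h => h3 h.symm⟩
  show g.1 (k x) = k x
  rw [← MulAut.mul_apply, e8, MulAut.mul_apply, show g.1 x = x from hx]

end pure

variable {S : Type} [Group S] [Finite S] {Q E : Subgroup S} {Γ Γ₀ : Subgroup (MulAut S)}

theorem exists_al (h : Sh 2 Q E Γ Γ₀) : ∃ α ∈ Γ, PElt 2 α ∧ (∃ u ∈ Q, α u ≠ u) ∧ (∀ u ∈ Q, α (α u) = u) ∧
    ∀ t ∈ Q, ∃ γ ∈ Γ, α (γ t) = γ t := by
  obtain ⟨-, -, -, h1, -, α, k1, k2, k3, -⟩ := boxMv 2 S Q E Γ Γ₀ h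
  obtain ⟨a1, a2, a3⟩ := h1 α k1 k2 k3
  exact ⟨α, k1, k3, a1, fun u hu => by have := a2 u hu; rwa [pow_two] at this, a3⟩

theorem ix_of (h : Sh 2 Q E Γ Γ₀) {X : Subgroup (MulAut S)} (hE : ∀ s ∈ E, MulAut.conj s ∈ X) (hX : (CQ Q).relIndex X ≤ 3)
    (hc : ∀ α ∈ Γ, PElt 2 α → ∀ γ ∈ Γ, ∃ x ∈ X, ∀ u ∈ Q, (γ⁻¹ * α * γ) u = x (α u)) : Ix Q E := by
  obtain ⟨α, k1, k2, ⟨u, hu, k3⟩, -, k4⟩ := exists_al h
  obtain ⟨R, r1, r2, r3⟩ := cover (α := α) (fun u hu => (h.nrm α k1 u).2 hu) hX fun t ht => by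
    obtain ⟨γ, hγ, e⟩ := k4 t ht
    obtain ⟨x, hx, e'⟩ := hc α k1 k2 γ hγ
    have h1 := (h.nrm _ (inv_mem hγ) u).2 hu
    refine ⟨x, hx, ?_, _, h1, fun e'' => k3 ?_⟩
    · rw [← e' t ht, MulAut.mul_apply, MulAut.mul_apply, e, MulAut.inv_apply_self]
    · rw [← e' _ h1, MulAut.mul_apply, MulAut.mul_apply, MulAut.apply_inv_self] at e''
      exact γ⁻¹.injective e''
  exact ⟨R, r1, r2, fun t ht r hr => r3 _ (hE t ht) r hr⟩

theorem gen (h : Sh 2 Q E Γ Γ₀) {X : Subgroup (MulAut S)} (hE : ∀ s ∈ E, MulAut.conj s ∈ X)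
    (hc : ∀ α ∈ Γ, ∀ β ∈ Γ, β * α * β⁻¹ * α⁻¹ ∈ X) (hX : (CQ Q).relIndex X ≤ 3) : Ix Q E :=
  ix_of h hE hX fun α hα _ γ hγ => ⟨_, hc α hα γ⁻¹ (inv_mem hγ), fun u _ => by
    rw [inv_inv, MulAut.mul_apply _ _ α⁻¹, MulAut.inv_apply_self]⟩

/-- coprime action -/
theorem cop (h : Sh 2 Q E Γ Γ₀) {d : MulAut S} (hd : d ∈ Γ₀) (h1 : ∀ u ∈ Q, u * u = 1 → d u = u) : ∀ u ∈ Q, d u = u := by
  obtain ⟨m, hm, h3⟩ := E2.reg_pow h hd
  have hc : ∀ u ∈ Q, ∀ v ∈ Q, u * v = v * u := fun u hu v hv => mem_centralizer_iff.1 (h.ab hv) u hu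
  have key : ∀ k : ℕ, ∀ u ∈ Q, u ^ 2 ^ k = 1 → d u = u := by
    intro k
    induction k with
    | zero => intro u _ e; rw [pow_zero, pow_one] at e; rw [e, map_one]
    | succ k ih =>
      intro u hu e
      have h4 := ih (u * u) (mul_mem hu hu) (by rw [← pow_two, ← pow_mul, ← pow_succ', e])
      have h5 := (h.nrm d (h.le hd) u).2 hu
      obtain ⟨z, hz⟩ : ∃ z, z = u⁻¹ * d u := ⟨_, rfl⟩
      have z1 : z ∈ Q := hz ▸ mul_mem (inv_mem hu) h5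
      have z2 : d u = u * z := by rw [hz, mul_inv_cancel_left]
      have z3 : z * z = 1 := by
        rw [map_mul, z2, mul_assoc, ← mul_assoc z, ← hc u hu z z1, mul_assoc, ← mul_assoc] at h4
        exact mul_eq_left.1 h4
      have z4 : ∀ j : ℕ, (d ^ j) u = u * z ^ j := fun j => by
        induction j with
        | zero => simp
        | succ j ihj => rw [pow_succ', MulAut.mul_apply, ihj, map_mul, map_pow, h1 z z1 z3, z2, pow_succ', mul_assoc]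
      have z5 : z ^ m = 1 := mul_eq_left.1 ((z4 m).symm.trans (h3 u hu))
      rw [z2, eq_one_of_pow (l := 2) (k := 1) (by rw [pow_one, pow_two, z3]) z5 hm, mul_one]
  intro u hu
  obtain ⟨k, hk⟩ := h.pg ⟨u, hu⟩
  exact key k u hu (congrArg Subtype.val hk)

end PA

/-- **[A3]** -/
theorem boxA3 : BoxA3 := by
  refine ⟨fun S _ _ Q E Γ Γ₀ h X _ h1 h2 h3 => PA.gen h h1 h2 h3, fun S _ _ Q E Γ Γ₀ h hN h3 => ?_⟩
  refine PA.ix_of h (X := E.map (MulAut.conj : S →* MulAut S)) (fun s hs => ⟨s, hs, rfl⟩) ?_ fun α hα hp γ hγ => ?_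
  · rw [← relIndex_comap]
    refine le_of_eq_of_le (congrArg (relIndex · E) (Subgroup.ext fun s => ?_)) h3
    rw [mem_comap, mem_fixingSubgroup_iff, mem_centralizer_iff]
    exact forall₂_congr fun u _ => mul_inv_eq_iff_eq_mul.trans eq_comm
  · obtain ⟨s, hs, e⟩ := E2.exists_cj h hN hα hp hγ
    exact ⟨_, ⟨s, hs, rfl⟩, e⟩

/-- **[A2]** -/
theorem boxA2 : BoxA2 := fun S _ _ Q E Γ Γ₀ h h8 => by
  refine PA.gen h h.inn0 (fun α hα β hβ => by simpa using E2.comm_mem h hα (inv_mem hβ)) ?_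
  have hc : ∀ u ∈ Q, ∀ v ∈ Q, u * v = v * u := fun u hu v hv => mem_centralizer_iff.1 (h.ab hv) u hu
  let O : Subgroup S :=
    { carrier := Om Q
      mul_mem' := fun {a b} ha hb => ⟨mul_mem ha.1 hb.1, by
        rw [mul_assoc, ← mul_assoc b, ← hc a ha.1 b hb.1, mul_assoc, hb.2, mul_one, ha.2]⟩
      one_mem' := ⟨one_mem Q, one_mul 1⟩
      inv_mem' := fun {a} ha => ⟨inv_mem ha.1, by rw [← mul_inv_rev, ha.2, inv_one]⟩ }
  have hO : ∀ α ∈ Γ, ∀ x, α x ∈ O ↔ x ∈ O := fun α hα x =>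
    and_congr (h.nrm α hα x) (by rw [← map_mul, map_eq_one_iff α α.injective])
  have hk : ∀ d : Γ, d.1 ∈ Γ₀ → resQ hO d = 1 → ∀ u ∈ Q, d.1 u = u := fun d hd e =>
    PA.cop h hd fun u hu h1 => (resQ_eq_one hO).1 e u ⟨hu, h1⟩
  obtain ⟨α, k1, -, ⟨u, hu, k3⟩, k4, k5⟩ := PA.exists_al h
  have h3 := PA.three_of_inv (V := O) (fun x => Subtype.ext x.2.2) h8 (G := (Γ₀.subgroupOf Γ).map (resQ hO)) (by
      rintro _ ⟨d, hd, rfl⟩ e
      obtain ⟨m, hm, h1⟩ := E2.reg_pow h (mem_subgroupOf.1 hd)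
      refine eq_one_of_pow (l := 2) (k := 1) (by rw [pow_one, pow_two, e]) ?_ hm
      rw [← map_pow, resQ_eq_one]
      exact fun v hv => h1 v hv.1) (a := resQ hO ⟨α, k1⟩)
    (by rw [← map_mul, resQ_eq_one]; exact fun v hv => k4 v hv.1) (fun e => k3 (by
      obtain ⟨γ, hγ, e1⟩ := k5 u hu
      have e2 := hk ⟨_, h.le (E2.comm_mem h k1 hγ)⟩ (E2.comm_mem h k1 hγ) (by
        show resQ hO ((⟨γ, hγ⟩ : Γ)⁻¹ * ⟨α, k1⟩ * ⟨γ, hγ⟩ * (⟨α, k1⟩ : Γ)⁻¹) = 1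
        rw [map_mul, map_mul, map_mul, map_inv, map_inv, e]
        group) _ ((h.nrm α k1 u).2 hu)
      change γ⁻¹ (α (γ (α⁻¹ (α u)))) = α u at e2
      rw [MulAut.inv_apply_self, e1, MulAut.inv_apply_self] at e2
      exact e2.symm)) (by
      rintro _ ⟨d, hd, rfl⟩
      exact ⟨_, h.normal.conj_mem d hd ⟨α, k1⟩, by rw [map_mul, map_mul, map_inv]⟩)
  rw [← relIndex_ker, ← inf_relIndex_right] at h3
  have _ : Finite (MulAut S) := Finite.of_injective _ MulEquiv.toEquiv_injective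
  rw [← relIndex_subgroupOf h.le]
  refine (relIndex_le_of_le_left (fun d hd => ?_) index_ne_zero_of_finite).trans h3
  exact mem_subgroupOf.2 ((mem_fixingSubgroup_iff _).2 (hk d hd.2 hd.1))

end Cfsg.Agent.BH.R2
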