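import Cfsg.Agent.BH.Row2L.Defs
import Cfsg.Agent.KM.Two.MainN

/-!
# BH, the prime `2`: the box `BoxCN` (helper62)
-/

set_option autoImplicit false
set_option linter.unusedSectionVars false
set_option maxHeartbeats 400000

namespace Cfsg.Agent.BH.R2.CN

open Subgroup Cfsg Cfsg.Agent.TO Cfsg.Agent.KM.Two

variable {R : Type} [Ring R] [StarRing R] [Finite R] {a b c g i j i' j' u x y z : unitary R}
  {J E P : Subgroup (unitary R)} {ν : unitary R →* ℤˣ × ℤˣ} {K : ℕ}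

/-- quaternion pairs -/
structure QP (E : Subgroup (unitary R)) (i j : unitary R) : Prop where
  mi : i ∈ E
  mj : j ∈ E
  ii : i * i = -1
  jj : j * j = -1
  ij : i * j = -(j * i)

/-- commutation up to the sign -/
def Sc (a b : unitary R) : Prop := Commute a b ∨ a * b = -(b * a)

/-- the centraliser of a pair -/
def Cp (E : Subgroup (unitary R)) (i j : unitary R) : Subgroup (unitary R) := E ⊓ centralizer {i, j}

theorem mem_Cp : g ∈ Cp E i j ↔ g ∈ E ∧ Commute g i ∧ Commute g j := and_congr_right fun _ =>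
  ⟨fun h => ⟨(h i (by simp)).symm, (h j (by simp)).symm⟩, fun h => by
    rintro _ (rfl | rfl)
    exacts [h.1.symm, h.2.symm]⟩

theorem exists_q (ij : i * j = -(j * i)) (h1 : Sc g i) (h2 : Sc g j) :
    ∃ q, (q = 1 ∨ q = i ∨ q = j ∨ q = i * j) ∧ Commute (q * g) i ∧ Commute (q * g) j := by
  have ji : j * i = -(i * j) := by rw [ij, neg_neg]
  rcases h1 with h1 | h1 <;> rcases h2 with h2 | h2
  · exact ⟨1, .inl rfl, by rwa [one_mul], by rwa [one_mul]⟩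
  · exact ⟨i, by simp, (Commute.refl i).mul_left h1, by
      show i * g * j = j * (i * g)
      rw [mul_assoc, h2, mul_neg, ← mul_assoc, ij, neg_mul, neg_neg, mul_assoc]⟩
  · exact ⟨j, by simp, by
      show j * g * i = i * (j * g)
      rw [mul_assoc, h1, mul_neg, ← mul_assoc, ji, neg_mul, neg_neg, mul_assoc], (Commute.refl j).mul_left h2⟩
  · refine ⟨i * j, by simp, ?_, ?_⟩
    · show i * j * g * i = i * (i * j * g)
      rw [mul_assoc, h1, mul_neg, mul_assoc, ← mul_assoc j, ji, neg_mul, mul_neg, neg_neg]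
    · show i * j * g * j = j * (i * j * g)
      rw [mul_assoc, h2, mul_neg, ← mul_assoc, ← mul_assoc, ← mul_assoc, ji, neg_mul, neg_mul]

theorem not_comm (two : IsUnit (2 : R)) (h0 : (1 : R) ≠ 0) (h : x * y = -(y * x)) : ¬ Commute x y := fun k =>
  anti_ne two h0 (congrArg Subtype.val h) (congrArg Subtype.val k)

/-- the Hurwitz unit -/
theorem hur (two : IsUnit (2 : R)) (q : QP E i j) : ∃ g : unitary R, ν g = 1 ∧ g * i * g⁻¹ = j ∧ g * j * g⁻¹ = i * j ∧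
    ∀ a, Commute a i → Commute a j → Commute a g := by
  obtain ⟨u, hu⟩ := two.exists_left_inv
  have hu' : 2 * u = 1 := mul_eq_one_comm.1 hu
  have u1 : ∀ x, Commute u x := fun x => by
    have h1 : Commute (2 : R) x := Commute.ofNat_left 2 x
    calc u * x = u * x * (2 * u) := by rw [hu', mul_one]
      _ = x * u := by rw [← mul_assoc, mul_assoc u, ← h1.eq, ← mul_assoc, hu, one_mul]
  have u2 : star u = u := by
    have h1 := congrArg star hu
    rw [star_mul, star_ofNat, star_one] at h1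
    exact two.mul_left_cancel (h1.trans hu'.symm)
  have a1 : star (i : R) = -i := by rw [← KM.Two.coe_inv, inv_eq_of_mul_eq_one_right (show i * -i = 1 by simp [q.ii])]; rfl
  have b1 : star (j : R) = -j := by rw [← KM.Two.coe_inv, inv_eq_of_mul_eq_one_right (show j * -j = 1 by simp [q.jj])]; rfl
  have a2 : (i : R) * i = -1 := congrArg Subtype.val q.ii
  have b2 : (j : R) * j = -1 := congrArg Subtype.val q.jj
  have c1 : (j : R) * i = -(i * j) := neg_eq_iff_eq_neg.1 (congrArg Subtype.val q.ij).symm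
  have r2 : ∀ x : R, x * j * j = -x := fun x => by rw [mul_assoc, b2, mul_neg, mul_one]
  have r3 : ∀ x : R, x * j * i = -(x * i * j) := fun x => by rw [mul_assoc, c1, mul_neg, mul_assoc]
  have h1 : (-1 - i - j - i * j : R) * (-1 + i + j + i * j) = 2 * (2 * 1) := by
    rw [two_mul, two_mul]
    simp only [mul_add, sub_mul, neg_mul, mul_neg, ← mul_assoc, r2, r3, a2, b2, c1, neg_neg, one_mul, mul_one]
    abel
  let h : unitary R := ⟨u * (-1 + i + j + i * j), mem_uni (by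
    rw [star_mul, u2, show star (-1 + i + j + i * j : R) = -1 - i - j - i * j by
      rw [star_add, star_add, star_add, star_neg, star_mul, a1, b1, star_one, neg_mul_neg, c1]; abel, ← (u1 _).eq,
      mul_assoc u, ← mul_assoc _ u, ← (u1 _).eq, mul_assoc u, h1, ← mul_assoc u 2, hu, one_mul, ← mul_assoc u 2, hu, one_mul])⟩
  have h2 : h * i = i * j * h := Subtype.ext (by
    show u * _ * (i : R) = i * j * (u * _)
    rw [← mul_assoc _ u, ← (u1 _).eq, mul_assoc u, mul_assoc u]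
    congr 1
    simp only [mul_add, add_mul, neg_mul, mul_neg, ← mul_assoc, r2, r3, a2, b2, c1, neg_neg, one_mul, mul_one]
    abel)
  have h3 : h * j = i * h := Subtype.ext (by
    show u * _ * (j : R) = i * (u * _)
    rw [← mul_assoc _ u, ← (u1 _).eq, mul_assoc u, mul_assoc u]
    congr 1
    simp only [mul_add, add_mul, neg_mul, mul_neg, ← mul_assoc, r2, a2, b2, one_mul, mul_one]
    abel)
  have h4 : h * h * j = i * j * (h * h) := by rw [mul_assoc, h3, ← mul_assoc, h2, mul_assoc]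
  refine ⟨h * h, by rw [map_mul]; exact (by decide : ∀ v : ℤˣ × ℤˣ, v * v = 1) _, mul_inv_eq_iff_eq_mul.2 ?_,
    mul_inv_eq_iff_eq_mul.2 h4, fun a k1 k2 => ?_⟩
  · rw [mul_assoc, h2, ← mul_assoc, ← mul_assoc, h2, mul_assoc _ h j, h3, ← mul_assoc, q.ij, neg_mul, mul_assoc j, q.ii,
      mul_neg, mul_one, neg_neg, mul_assoc]
  · have k3 : Commute (a : R) i := congrArg Subtype.val k1
    have k4 : Commute (a : R) j := congrArg Subtype.val k2
    have k5 : Commute a h := Subtype.ext ((u1 _).symm.mul_right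
      ((((Commute.one_right _).neg_right.add_right k3).add_right k4).add_right (k3.mul_right k4)))
    exact k5.mul_right k5

theorem conj_mem (q : QP E i j) (h1 : g * i * g⁻¹ = j) (h2 : g * j * g⁻¹ = i * j)
    (h3 : ∀ a, Commute a i → Commute a j → Commute a g) (k1 : Sc c i) (k2 : Sc c j) : g * c * g⁻¹ * c⁻¹ ∈ E := by
  obtain ⟨r, e, e1, e2⟩ := exists_q q.ij k1 k2
  have h4 : r ∈ E ∧ g * r * g⁻¹ ∈ E := by
    rcases e with rfl | rfl | rfl | rfl
    · exact ⟨one_mem _, by rw [mul_one, mul_inv_cancel]; exact one_mem _⟩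
    · exact ⟨q.mi, h1 ▸ q.mj⟩
    · exact ⟨q.mj, h2 ▸ mul_mem q.mi q.mj⟩
    · exact ⟨mul_mem q.mi q.mj, by rw [← conj_mul, h1, h2]; exact mul_mem q.mj (mul_mem q.mi q.mj)⟩
  rw [show g * c * g⁻¹ * c⁻¹ = (g * r * g⁻¹)⁻¹ * (g * (r * c) * g⁻¹) * c⁻¹ by group, ← (h3 _ e1 e2).eq,
    mul_inv_cancel_right, mul_assoc, mul_inv_cancel_right]
  exact mul_mem (inv_mem h4.2) h4.1

theorem card_two {H : Type} [Group H] {W : Subgroup H} {m : H} (h1 : m ∈ W) (h2 : m ≠ 1) (h3 : ∀ w ∈ W, w = 1 ∨ w = m) :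
    Nat.card W = 2 := (Nat.card_eq_two_iff' (1 : W)).2 ⟨⟨m, h1⟩, fun e => h2 (congrArg Subtype.val e), fun w hw =>
  Subtype.ext ((h3 w w.2).resolve_left fun e => hw (Subtype.ext e))⟩

section SN

variable (h : SN ν J E K) (h0 : (1 : R) ≠ 0)
include h h0

theorem card_Cp (hP : P ≤ E) (hx : x ∈ P) (hy : y ∈ P) (hxy : x * y = -(y * x)) : Nat.card P = Nat.card (Cp P x y) * 4 := by
  have key : ∀ z ∈ E, ∃ s : P →* ℤˣ, ∀ d, s d = 1 ↔ Commute (d : unitary R) z := fun z hz =>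
    (exists_sg (R := R) (H := P) (fun d => KM.Two.cj d) (fun a b => KM.Two.cj_mul (R := R) a b) (fun a => map_neg _) (v := z)
      (fun e => h0 (by rw [← Unitary.coe_star_mul_self z, eq_zero_of_neg h.two e, mul_zero]))
      fun d => (h.hc d (hP d.2) z hz).imp KM.Two.cj_eq_iff.2 fun e => KM.Two.cj_eq_iff.2 (by rw [e, neg_mul])).imp
      fun s hs d => (hs d).trans (KM.Two.cj_eq_iff.trans ⟨fun e => Subtype.ext e, fun e => congrArg Subtype.val e⟩)
  obtain ⟨s, hs⟩ := key x (hP hx)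
  obtain ⟨s', hs'⟩ := key y (hP hy)
  have h1 : (s.prod s').ker = (Cp P x y).subgroupOf P := by
    ext d
    rw [MonoidHom.mem_ker, mem_subgroupOf, mem_Cp, ← hs, ← hs', Prod.ext_iff]
    exact (and_iff_right d.2).symm
  have h2 := not_comm h.two h0 hxy
  have h3 : (s.prod s').range = ⊤ := by
    have e1 : (s.prod s') ⟨x, hx⟩ = (1, -1) := Prod.ext ((hs _).2 (Commute.refl x))
      ((Int.units_eq_one_or _).resolve_left fun e => h2 ((hs' _).1 e))
    have e2 : (s.prod s') ⟨y, hy⟩ = (-1, 1) := Prod.ext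
      ((Int.units_eq_one_or _).resolve_left fun e => h2 ((hs _).1 e).symm) ((hs' _).2 (Commute.refl y))
    refine eq_top_iff.2 fun v _ => ?_
    rcases (by decide : ∀ v : ℤˣ × ℤˣ, v = 1 ∨ v = (1, -1) ∨ v = (-1, 1) ∨ v = (1, -1) * (-1, 1)) v with e | e | e | e
    exacts [e ▸ one_mem _, ⟨_, e1.trans e.symm⟩, ⟨_, e2.trans e.symm⟩, e ▸ mul_mem ⟨_, e1⟩ ⟨_, e2⟩]
  rw [← card_mul_index (s.prod s').ker, index_ker, h3, h1, card_top,
    Nat.card_congr (subgroupOfEquivOfLe (show Cp P x y ≤ P from inf_le_left)).toEquiv]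
  simp

/-- involutions which centralise a quaternion pair are central -/
theorem cen (q : QP E i j) (hz : z ∈ Cp E i j) (z1 : z * z = 1) : z ∈ Z0 E := by
  by_contra h1
  obtain ⟨hz, c1, c2⟩ := mem_Cp.1 hz
  obtain ⟨v, hv, z2⟩ := h.exists_anti hz h1
  obtain ⟨e, he, hze, h5⟩ := exists_pj h.two z1
  have h6 : ∀ {g : unitary R}, Commute z g → Commute (g : R) e := fun hg => (h5 _ (congrArg Subtype.val hg)).symm
  have z2' : (z : R) * v = -(v * z) := congrArg Subtype.val z2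
  have pr : ∀ {a b : unitary R}, Commute z a → Commute z b → (cut a e : R) * cut b e * e = (a * b : unitary R) * e :=
    fun ha hb => by rw [← coe_mul', ← cut_mul he (h6 ha) (h6 hb), cut_e he (h6 (ha.mul_right hb))]
  obtain ⟨t, ht⟩ := quat h.two he (cut_ce he (h6 c2)) (cut_ce he (h6 c1)) (cut_e' he (h6 c2)) (cut_e' he (h6 c1))
    (by rw [pr c2 c2, q.jj]; exact neg_one_mul e) (by rw [pr c1 c1, q.ii]; exact neg_one_mul e)
    (by rw [pr c1 c2, pr c2 c1, q.ij]; exact neg_mul _ e)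
  have h2 := congrArg ν ht
  rw [map_mul, map_mul, map_mul, mul_comm, mul_left_inj, left_eq_mul] at h2
  have g3 : (i : R) * i = -1 := congrArg Subtype.val q.ii
  refine anti_ne h.two h0 z2' ?_
  rw [hze, show e = 0 from eq_zero_of_neg h.two ?_, mul_zero, sub_zero]
  · exact Commute.one_left _
  rw [← neg_one_mul, ← g3, mul_assoc]
  rcases h.cutN hz he hze hv z2' q.mi (h6 c1) (.inr q.ii) h2 with g5 | g5
  · rw [g5, g5]
  · rw [g5, mul_neg, g5, neg_neg]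

/-- a non-commuting pair in `Cp E i j` is a quaternion pair -/
theorem qp_of (q : QP E i j) (hB : ∀ u ∈ E, u * u = 1 ∨ u * u = -1) (hx : x ∈ Cp E i j) (hy : y ∈ Cp E i j)
    (hxy : x * y = -(y * x)) : QP E x y :=
  ⟨hx.1, hy.1, (hB x hx.1).resolve_left fun e => not_comm h.two h0 hxy (comm_Z0 (cen h h0 q hx e) hy.1).symm,
    (hB y hy.1).resolve_left fun e => not_comm h.two h0 hxy (comm_Z0 (cen h h0 q hy e) hx.1), hxy⟩

end SN

/-- two commuting quaternion pairs -/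
structure FP (E : Subgroup (unitary R)) (i j i' j' : unitary R) : Prop where
  q : QP E i j
  q' : QP E i' j'
  c1 : Commute i i'
  c2 : Commute i j'
  c3 : Commute j i'
  c4 : Commute j j'
  zz : ∀ w ∈ Z0 E, w = 1 ∨ w = -1
  sq : ∀ u ∈ E, u * u = 1 ∨ u * u = -1

theorem FP.symm (F : FP E i j i' j') : FP E i' j' i j :=
  ⟨F.q', F.q, F.c1.symm, F.c3.symm, F.c2.symm, F.c4.symm, F.zz, F.sq⟩

theorem dih (hx : x ∈ P) (hy : y ∈ P) (hxy : x * y = -(y * x)) (h1 : x * x = 1 ∨ x * x = -1) (h2 : y * y = 1 ∨ y * y = -1) :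
    QP P x y ∨ ∃ a ∈ P, ∃ c ∈ P, a * a = 1 ∧ c * c = -1 ∧ a * c = -(c * a) ∧
      ∀ g, Commute g x → Commute g y → Commute g a ∧ Commute g c := by
  rcases h1 with h1 | h1 <;> rcases h2 with h2 | h2
  · refine .inr ⟨x, hx, x * y, mul_mem hx hy, h1, ?_, by rw [mul_assoc, hxy, mul_neg, neg_inj],
      fun g k1 k2 => ⟨k1, k1.mul_right k2⟩⟩
    nth_rewrite 1 [hxy]
    rw [neg_mul, mul_assoc, ← mul_assoc x, h1, one_mul, h2]
  · exact .inr ⟨x, hx, y, hy, h1, h2, hxy, fun g k1 k2 => ⟨k1, k2⟩⟩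
  · exact .inr ⟨y, hy, x, hx, h2, h1, by rw [hxy, neg_neg], fun g k1 k2 => ⟨k2, k1⟩⟩
  · exact .inl ⟨hx, hy, h1, h2, hxy⟩

section SN

variable (h : SN ν J E K) (h0 : (1 : R) ≠ 0)
include h h0

theorem core (hx : x ∈ E) (hy : y ∈ E) (hxy : x * y = -(y * x)) :
    (∃ i j i' j', FP E i j i' j') ∨ ((Z0 E).relIndex E ≤ 4 ∧ ∀ w ∈ Z0 E, ∀ w' ∈ Z0 E, w * w = 1 → w' * w' = 1 →
      w = 1 ∨ w = -1 ∨ w' = 1 ∨ w' = -1 ∨ w' = w ∨ w' = -w) := by
  have hxy' : (x : R) * y = -(y * x) := congrArg Subtype.val hxy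
  by_cases h4 : (Z0 E).relIndex E ≤ 4
  · exact .inr ⟨h4, fun w hw w' hw' => h.invA hx hy hxy' hw hw'⟩
  left
  have hB : ∀ w ∈ Z0 E, w * w = 1 → w = 1 ∨ w = -1 := fun w hw h1 => by
    obtain ⟨e, he, e1⟩ := exists_gd h.two hw h1
    by_contra h2
    refine h4 (h.idxA he (fun e0 => h2 (.inl (Subtype.ext ?_))) fun e0 => h2 (.inr (Subtype.ext ?_)))
    · rw [e1, e0, mul_zero, sub_zero, OneMemClass.coe_one]
    · rw [e1, ← sub_eq_zero.1 e0, Unitary.coe_neg, OneMemClass.coe_one]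
      noncomm_ring
  obtain ⟨s, s1⟩ := h.sgn h0 hx
  obtain ⟨s', s2⟩ := h.sgn h0 hy
  obtain ⟨u, hu, u1, u2, u3⟩ : ∃ u ∈ E, Commute u x ∧ Commute u y ∧ u ∉ Z0 E := by
    by_contra h1
    refine h4 ((Nat.le_of_dvd (Nat.pos_of_ne_zero index_ne_zero_of_finite) (index_dvd_of_le (H := (s.prod s').ker)
      fun d hd => ?_)).trans (index_ker_le _))
    by_contra h2
    exact h1 ⟨d, d.2, Subtype.ext (s1 d (congrArg Prod.fst hd)), Subtype.ext (s2 d (congrArg Prod.snd hd)), h2⟩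
  have h1 : ∀ c ∈ Z0 E, c * c ≠ -1 := fun c hc h1 => u3 (h.caseB1 h0 hB hc h1 hx hy hxy hu u1 u2)
  have h2 : ∀ k : ℕ, ∀ w ∈ Z0 E, w ^ 2 ^ k = 1 → w * w = 1 := fun k => by
    induction k with
    | zero => intro w _ hw; rw [pow_zero, pow_one] at hw; rw [hw, mul_one]
    | succ k ih =>
      intro w hw hk
      exact (hB _ (mul_mem hw hw) (ih _ (mul_mem hw hw) (by rw [← pow_two, ← pow_mul, ← pow_succ', hk]))).resolve_right
        (h1 w hw)
  have h3 : ∀ u ∈ E, u * u = 1 ∨ u * u = -1 := fun u hu => hB _ (h.sq_mem hu) (h2 K _ (h.sq_mem hu) (h.pg _ (mul_mem hu hu)))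
  have h5 : ∀ w ∈ Z0 E, w = 1 ∨ w = -1 := fun w hw => hB w hw (h2 K w hw (h.pg w hw.1))
  obtain ⟨b, hb, b1, b2, b3⟩ : ∃ b ∈ E, u * b = -(b * u) ∧ Commute b x ∧ Commute b y := by
    obtain ⟨b, hb, b1⟩ := h.exists_anti hu u3
    obtain ⟨r, e, e1, e2⟩ := exists_q hxy (h.hc' hb hx) (h.hc' hb hy)
    have h6 : r ∈ E ∧ Commute u r := by
      rcases e with rfl | rfl | rfl | rfl
      exacts [⟨one_mem _, Commute.one_right _⟩, ⟨hx, u1⟩, ⟨hy, u2⟩, ⟨mul_mem hx hy, u1.mul_right u2⟩]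
    exact ⟨r * b, mul_mem h6.1 hb, by rw [← mul_assoc, h6.2.eq, mul_assoc, b1, mul_neg, mul_assoc], e1, e2⟩
  rcases dih hx hy hxy (h3 x hx) (h3 y hy) with q | ⟨a, ha, c, hc, a1, c1, ac, k⟩
  · exact ⟨x, y, u, b, q, qp_of h h0 q h3 (mem_Cp.2 ⟨hu, u1, u2⟩) (mem_Cp.2 ⟨hb, b2, b3⟩) b1, u1.symm, b2.symm, u2.symm,
      b3.symm, h5, h3⟩
  rcases dih hu hb b1 (h3 u hu) (h3 b hb) with q | ⟨a', ha', c', hc', a1', c1', ac', k'⟩
  · exact ⟨u, b, x, y, q, qp_of h h0 q h3 (mem_Cp.2 ⟨hx, u1.symm, b2.symm⟩) (mem_Cp.2 ⟨hy, u2.symm, b3.symm⟩) hxy, u1, u2, b2,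
      b3, h5, h3⟩
  obtain ⟨k1, k2⟩ := k' a (k u u1 u2).1.symm (k b b2 b3).1.symm
  obtain ⟨k3, k4⟩ := k' c (k u u1 u2).2.symm (k b b2 b3).2.symm
  have key : ∀ {a c c' : unitary R}, a ∈ E → c ∈ E → c' ∈ E → a * a = 1 → c * c = -1 → c' * c' = -1 → a * c = -(c * a) →
      Commute a c' → Commute c c' → QP E c (a * c') := fun {a c c'} ha hc hc' a1 c1 c1' ac k2 k4 =>
    ⟨hc, mul_mem ha hc', c1, by rw [k2.symm.mul_mul_mul_comm, a1, c1', one_mul],
      by rw [mul_assoc, ← k4.eq, ← mul_assoc a, ac, neg_mul, neg_neg, mul_assoc]⟩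
  refine ⟨c, a * c', c', a' * c, key ha hc hc' a1 c1 c1' ac k2 k4, key ha' hc' hc a1' c1' c1 ac' k3.symm k4.symm, k4,
    k3.mul_right (Commute.refl c), k2.mul_left (Commute.refl c'), ?_, h5, h3⟩
  show a * c' * (a' * c) = a' * c * (a * c')
  rw [mul_assoc, ← mul_assoc c', ← neg_neg (c' * a'), ← ac', neg_mul, mul_neg, mul_assoc a', ← k4.eq, ← mul_assoc a, k1.eq,
    mul_assoc a', ← mul_assoc a, ac, neg_mul, mul_neg, neg_neg, mul_assoc, mul_assoc]

variable (F : FP E i j i' j')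
include F

theorem triv (h1 : g ∈ Cp E i j) (h2 : g ∈ Cp E i' j') : g = 1 ∨ g = -1 := by
  obtain ⟨hg, k1, k2⟩ := mem_Cp.1 h2
  refine F.zz g (cen h h0 F.q h1 ((F.sq g hg).resolve_right fun e => ?_))
  have h3 := cen h h0 F.q (mul_mem h1 (mem_Cp.2 ⟨F.q'.mi, F.c1.symm, F.c3.symm⟩))
    (by rw [k1.symm.mul_mul_mul_comm, e, F.q'.ii, neg_mul_neg, mul_one])
  exact not_comm h.two h0 F.q'.ij (by simpa using (k2.inv_left.mul_left (comm_Z0 h3 F.q'.mj).symm))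

omit h h0 in
theorem q_mem {r : unitary R} (e : r = 1 ∨ r = i ∨ r = j ∨ r = i * j) : r ∈ Cp E i' j' ∧ (r = 1 ∨ r * r = -1) ∧
    (∀ S : Subgroup (unitary R), i ∈ S → j ∈ S → r ∈ S) := by
  have h1 : i ∈ Cp E i' j' := mem_Cp.2 ⟨F.q.mi, F.c1, F.c2⟩
  have h2 : j ∈ Cp E i' j' := mem_Cp.2 ⟨F.q.mj, F.c3, F.c4⟩
  rcases e with rfl | rfl | rfl | rfl
  · exact ⟨one_mem _, .inl rfl, fun S _ _ => one_mem S⟩
  · exact ⟨h1, .inr F.q.ii, fun _ k _ => k⟩
  · exact ⟨h2, .inr F.q.jj, fun _ _ k => k⟩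
  · refine ⟨mul_mem h1 h2, .inr ?_, fun _ k k' => mul_mem k k'⟩
    nth_rewrite 1 [F.q.ij]
    rw [neg_mul, mul_assoc, ← mul_assoc i, F.q.ii, neg_mul, one_mul, mul_neg, F.q.jj, neg_neg]

theorem mem_of (hg : g ∈ Cp E i' j') {S : Subgroup (unitary R)} (h1 : i ∈ S) (h2 : j ∈ S) : g ∈ S := by
  obtain ⟨r, e, e1, e2⟩ := exists_q F.q.ij (h.hc' hg.1 F.q.mi) (h.hc' hg.1 F.q.mj)
  obtain ⟨k1, -, k2⟩ := q_mem F e
  refine (mul_mem_cancel_left (k2 S h1 h2)).1 ?_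
  rcases triv h h0 F (mem_Cp.2 ⟨mul_mem k1.1 hg.1, e1, e2⟩) (mul_mem k1 hg) with k | k <;> rw [k]
  exacts [one_mem _, F.q.ii ▸ mul_mem h1 h1]

theorem comm (hg : g ∈ Cp E i' j') (hc : c ∈ Cp E i j) : Commute g c :=
  mem_centralizer_singleton_iff.1 (mem_of h h0 F hg (mem_centralizer_singleton_iff.2 (mem_Cp.1 hc).2.1.symm)
    (mem_centralizer_singleton_iff.2 (mem_Cp.1 hc).2.2.symm))

theorem card8 : Nat.card (Cp E i j) = 8 := by
  rw [card_Cp h h0 (P := Cp E i j) inf_le_left (mem_Cp.2 ⟨F.q'.mi, F.c1.symm, F.c3.symm⟩) (mem_Cp.2 ⟨F.q'.mj, F.c2.symm, F.c4.symm⟩) F.q'.ij,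
    card_two (m := -1) (mem_Cp.2 ⟨mem_Cp.2 ⟨h.hm, Commute.neg_one_left _, Commute.neg_one_left _⟩, Commute.neg_one_left _,
      Commute.neg_one_left _⟩) (fun e => not_comm h.two h0 (x := 1) (y := 1) (by rw [mul_one, e]) (Commute.refl 1))
      fun w hw => triv h h0 F hw.1 ⟨hw.1.1, hw.2⟩]

theorem qq : QQ E := by
  refine ⟨i, j, i', j', F.q.ii, F.q.jj, F.q.ij, F.q'.ii, F.q'.jj, F.q'.ij, F.c1, F.c2, F.c3, F.c4,
    le_antisymm (fun g hg => ?_) ((closure_le _).2 ?_), by rw [card_Cp h h0 le_rfl F.q.mi F.q.mj F.q.ij, card8 h h0 F]⟩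
  · obtain ⟨r, e, e1, e2⟩ := exists_q F.q.ij (h.hc' hg F.q.mi) (h.hc' hg F.q.mj)
    obtain ⟨k1, -, k2⟩ := q_mem F e
    exact (mul_mem_cancel_left (k2 _ (subset_closure (by simp)) (subset_closure (by simp)))).1
      (mem_of h h0 F.symm (mem_Cp.2 ⟨mul_mem k1.1 hg, e1, e2⟩) (subset_closure (by simp)) (subset_closure (by simp)))
  · rintro _ (rfl | rfl | rfl | rfl)
    exacts [F.q.mi, F.q.mj, F.q'.mi, F.q'.mj]

theorem split (hg : g ∈ E) (g1 : g * g = -1) : g ∈ Cp E i j ∨ g ∈ Cp E i' j' := by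
  obtain ⟨r, e, e1, e2⟩ := exists_q F.q.ij (h.hc' hg F.q.mi) (h.hc' hg F.q.mj)
  obtain ⟨k1, k2, -⟩ := q_mem F e
  have h1 : r * g ∈ Cp E i j := mem_Cp.2 ⟨mul_mem k1.1 hg, e1, e2⟩
  refine k2.imp (fun k => by rwa [k, one_mul] at h1) fun k => (mul_mem_cancel_left k1).1 ?_
  have h2 : Commute r g := by simpa using (Commute.refl r).inv_right.mul_right (comm h h0 F k1 h1)
  have h3 := cen h h0 F.q h1 (by rw [h2.symm.mul_mul_mul_comm, k, g1, neg_mul_neg, mul_one])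
  exact mem_Cp.2 ⟨h1.1, (comm_Z0 h3 F.q'.mi).symm, (comm_Z0 h3 F.q'.mj).symm⟩

theorem mv (h1 : ∀ d ∈ E, g * d * g⁻¹ ∈ E) (h2 : ∀ d ∈ E, g⁻¹ * d * g⁻¹⁻¹ ∈ E) :
    (∀ d ∈ Cp E i j, g * d * g⁻¹ ∈ Cp E i j) ∨ ∀ d ∈ Cp E i' j', g * d * g⁻¹ ∈ Cp E i j := by
  have h3 : ∀ {d a : unitary R}, Commute d (g⁻¹ * a * g⁻¹⁻¹) → Commute (g * d * g⁻¹) a := fun {d a} k => by
    simpa [mul_assoc] using k.conj g
  have h4 : ∀ {a : unitary R}, a * a = -1 → g⁻¹ * a * g⁻¹⁻¹ * (g⁻¹ * a * g⁻¹⁻¹) = -1 := fun k => by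
    rw [conj_mul, k, mul_neg, mul_one, neg_mul, mul_inv_cancel]
  have h5 : ¬ Commute (g⁻¹ * i * g⁻¹⁻¹) (g⁻¹ * j * g⁻¹⁻¹) := fun k => not_comm h.two h0 F.q.ij (by simpa [mul_assoc] using h3 k)
  rcases split h h0 F (h2 i F.q.mi) (h4 F.q.ii) with k | k <;> rcases split h h0 F (h2 j F.q.mj) (h4 F.q.jj) with k' | k'
  · exact .inr fun d hd => mem_Cp.2 ⟨h1 d hd.1, h3 (comm h h0 F hd k), h3 (comm h h0 F hd k')⟩
  · exact absurd (comm h h0 F k' k).symm h5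
  · exact absurd (comm h h0 F k k') h5
  · exact .inl fun d hd => mem_Cp.2 ⟨h1 d hd.1, h3 (comm h h0 F k hd).symm, h3 (comm h h0 F k' hd).symm⟩

theorem fix2 (h1 : ∀ d ∈ E, g * d * g⁻¹ ∈ E) (h2 : ∀ d ∈ E, g⁻¹ * d * g⁻¹⁻¹ ∈ E) {d : unitary R} (hd : d ∈ Cp E i j) :
    g * (g * d * g⁻¹) * g⁻¹ ∈ Cp E i j := by
  rcases mv h h0 F h1 h2 with k | k
  · exact k _ (k d hd)
  rcases mv h h0 F.symm h1 h2 with k' | k'
  · have h3 : i ∈ Cp E i' j' := mem_Cp.2 ⟨F.q.mi, F.c1, F.c2⟩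
    have h4 : Commute (g * i * g⁻¹) (g * j * g⁻¹) := by
      rcases triv h h0 F (k i h3) (k' i h3) with e | e <;> rw [e]
      exacts [Commute.one_left _, Commute.neg_one_left _]
    exact absurd ((Commute.conj_iff g).1 h4) (not_comm h.two h0 F.q.ij)
  · exact k _ (k' d hd)

end SN

theorem four_le {G : Type} [Group G] [Finite G] {H L : Subgroup G} {a b c : G} (ha : a ∈ L) (hb : b ∈ L) (hc : c ∈ L)
    (h1 : a ∉ H) (h2 : b ∉ H) (h3 : c ∉ H) (h4 : a⁻¹ * b ∉ H) (h5 : a⁻¹ * c ∉ H) (h6 : b⁻¹ * c ∉ H) : 3 < H.relIndex L := by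
  have h : ∀ {x y : L}, (x : G)⁻¹ * y ∉ H → (x : L ⧸ H.subgroupOf L) ≠ y := fun {x y} k e =>
    k (mem_subgroupOf.1 ((QuotientGroup.eq (a := x) (b := y)).1 e))
  rw [relIndex, index, ← Set.ncard_univ, Set.three_lt_ncard_iff]
  exact ⟨(1 : L), (⟨a, ha⟩ : L), (⟨b, hb⟩ : L), (⟨c, hc⟩ : L), trivial, trivial, trivial, trivial, h (by simpa), h (by simpa),
    h (by simpa), h h4, h h5, h h6⟩

section G

variable {Y G : Type} [Group Y] [Finite Y] [Group G] [Finite G] {f : Fm R Y} {π : Y →* G} {M : Ideal AlgInt}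
  {B : Set (IrrCharacter G)} {D : Subgroup G} {θ : G → ℂ} (hπ : Function.Surjective π)
  (hk : ∀ y, π y = 1 ↔ (f.j y : R) = 1 ∨ (f.j y : R) = -1)
include hk

theorem pm {a c : Y} (e : π a = π c) : f.j a = f.j c ∨ f.j a = -f.j c := by
  have h2 := (hk (a * c⁻¹)).1 (by rw [map_mul, map_inv, e, mul_inv_cancel])
  rw [map_mul, map_inv] at h2
  exact h2.imp (fun e => mul_inv_eq_one.1 (Subtype.ext e)) fun e => by
    rw [← neg_one_mul]; exact mul_inv_eq_iff_eq_mul.1 (Subtype.ext e)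

theorem sc_of {c : Y} (hc : π c ∈ Ce D) (hx : x ∈ (D.comap π).map f.j) : Sc (f.j c) x := by
  obtain ⟨d, hd, rfl⟩ := hx
  rw [Sc, commute_iff_eq, ← map_mul, ← map_mul]
  exact pm hk (by rw [map_mul, map_mul]; exact (hc _ hd).symm)

theorem card_img (h0 : (1 : R) ≠ 0) (h1 : P ≤ f.j.range) (h2 : -1 ∈ P) :
    Nat.card P = 2 * Nat.card ((P.comap f.j).map π) := by
  obtain ⟨m, hm⟩ := h1 h2
  nth_rewrite 1 [← map_comap_eq_self h1]
  rw [card_map_of_injective f.inj, ← card_mul_index (π.ker.subgroupOf (P.comap f.j)), ← relIndex, relIndex_ker,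
    card_two (W := π.ker.subgroupOf (P.comap f.j)) (m := ⟨m, show f.j m ∈ P from hm ▸ h2⟩)
      ((hk m).2 (.inr (congrArg Subtype.val hm))) (fun e => not_comm f.two h0 (x := 1) (y := 1) (by
        rw [mul_one, ← hm, show m = 1 from congrArg Subtype.val e, map_one]) (Commute.refl 1))
      fun w hw => ((hk w).1 hw).imp (fun e => Subtype.ext (f.inj (Subtype.ext (e.trans (by simp)))))
        fun e => Subtype.ext (f.inj (Subtype.ext (e.trans (congrArg Subtype.val hm).symm)))]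

omit hk in
theorem nrm {s : Y} (hs : π s ∈ normalizer (D : Set G)) (d : unitary R) (hd : d ∈ (D.comap π).map f.j) :
    f.j s * d * (f.j s)⁻¹ ∈ (D.comap π).map f.j := by
  obtain ⟨d, hd, rfl⟩ := hd
  rw [← map_inv, ← map_mul, ← map_mul]
  refine mem_map_of_mem _ (show π _ ∈ D from ?_)
  rw [map_mul, map_mul, map_inv]
  exact (mem_normalizer_iff.1 hs _).1 hd

include hπ

/-- the Hurwitz unit fixes the root -/
theorem hur_In (h : Can 2 M B D θ) (q : QP ((D.comap π).map f.j) i j) : ∃ y, π y ∈ In D θ ∧ f.j y * i * (f.j y)⁻¹ = j ∧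
    ∀ a, Commute a i → Commute a j → Commute a (f.j y) := by
  obtain ⟨g, h1, h2, h3, h4⟩ := hur (ν := f.ν) f.two q
  obtain ⟨y, rfl⟩ := f.ker g h1
  have h5 : ∀ c, π c ∈ Ce D → π y * π c * (π y)⁻¹ * (π c)⁻¹ ∈ D := fun c hc => by
    have h5 := conj_mem q h2 h3 h4 (sc_of hk hc q.mi) (sc_of hk hc q.mj)
    rw [← map_inv, ← map_inv, ← map_mul, ← map_mul, ← map_mul, mem_map_iff_mem f.inj, mem_comap] at h5
    simpa only [map_mul, map_inv] using h5
  have h6 : π y ∈ normalizer (D : Set G) := mem_normalizer_fintype fun d hd => by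
    obtain ⟨d, rfl⟩ := hπ d
    simpa using mul_mem (h5 d (h.ab hd)) hd
  refine ⟨y, ⟨fun x => (mem_normalizer_iff.1 h6 x).symm, fun g => ?_⟩, h2, h4⟩
  show θ (π y * g * (π y)⁻¹) = θ g
  by_cases hg : g ∈ Ce D
  · obtain ⟨g, rfl⟩ := hπ g
    rw [← h.mul' (h5 g hg) (π g), inv_mul_cancel_right]
  · rw [h.zero g hg, h.zero _ fun e => hg (by simpa [mul_assoc] using conj_Ce (inv_mem h6) e)]

theorem s9 (h : Can 2 M B D θ) (h0 : (1 : R) ≠ 0) (hN : SN f.ν f.j.range ((D.comap π).map f.j) K)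
    (F : FP ((D.comap π).map f.j) i j i' j') : S9 D (In D θ) := by
  have hD := map_comap_eq_self_of_surjective hπ D
  refine ⟨?_, fun u hu => ?_, ⟨((Cp ((D.comap π).map f.j) i j).comap f.j).map π, ?_, ?_, fun t ht => ?_⟩, ?_⟩
  · have h1 := card_img hk h0 hN.le hN.hm
    obtain ⟨_, _, _, _, -, -, -, -, -, -, -, -, -, -, -, h2⟩ := qq hN h0 F
    rw [comap_map_eq_self_of_injective f.inj, hD, h2] at h1
    omega
  · obtain ⟨u, rfl⟩ := hπ u
    rw [← map_mul, hk, map_mul]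
    exact (F.sq _ (mem_map_of_mem _ hu)).imp (congrArg Subtype.val) (congrArg Subtype.val)
  · rintro _ ⟨y, hy, rfl⟩
    exact (mem_map_iff_mem f.inj).1 hy.1
  · have h1 := card_img hk h0 (P := Cp ((D.comap π).map f.j) i j) (inf_le_left.trans hN.le)
      (mem_Cp.2 ⟨hN.hm, Commute.neg_one_left _, Commute.neg_one_left _⟩)
    rw [card8 hN h0 F] at h1
    omega
  · obtain ⟨n, hn, h1⟩ := exists_pow_Ce h ht
    obtain ⟨s, rfl⟩ := hπ t
    obtain ⟨m, rfl⟩ : ∃ m, n = 2 * m + 1 := ⟨n / 2, by omega⟩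
    refine fun v => (mem_normalizer_iff.1 ((mul_mem_cancel_left (pow_mem (x := π s ^ 2) ?_ m)).1 ?_) v).1
    · refine mem_normalizer_fintype ?_
      rintro _ ⟨y, hy, rfl⟩
      refine ⟨s * (s * y * s⁻¹) * s⁻¹, ?_, by simp only [map_mul, map_inv, pow_two, mul_inv_rev, mul_assoc]⟩
      simpa only [SetLike.mem_coe, mem_comap, map_mul, map_inv] using fix2 hN h0 F (nrm (In_le_norm ht))
        (by rw [← map_inv]; exact nrm (by rw [map_inv]; exact inv_mem (In_le_norm ht))) hy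
    · rw [← pow_mul, ← pow_succ]
      refine mem_normalizer_fintype ?_
      rintro _ ⟨y, hy, rfl⟩
      rw [← h1 _ ((mem_map_iff_mem f.inj).1 hy.1), mul_inv_cancel_right]
      exact mem_map_of_mem _ hy
  · obtain ⟨y, y1, y2, y3⟩ := hur_In hπ hk h F.q
    obtain ⟨z, z1, z2, z3⟩ := hur_In hπ hk h F.q'
    have key : ∀ {c : Y} {x w : unitary R}, x ∈ (D.comap π).map f.j → f.j c * x * (f.j c)⁻¹ = w → x * w = -(w * x) →
        π c ∉ Ce D := fun {c x w} hx e1 e2 hc => not_comm f.two h0 e2 (by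
      rw [← e1]
      rcases sc_of hk hc hx with e | e
      · rw [e.eq, mul_inv_cancel_right]
      · rw [e, neg_mul, mul_inv_cancel_right]
        exact (Commute.refl x).neg_right)
    have c1 := z3 i F.c1 F.c2
    have c2 := y3 i' F.c1.symm F.c3.symm
    have c3 := y3 j' F.c2.symm F.c4.symm
    have k1 := key F.q.mi y2 F.q.ij
    have k2 := key F.q'.mi z2 F.q'.ij
    refine four_le y1 z1 (mul_mem z1 y1) k1 k2 ?_ ?_ ?_ (by rwa [inv_mul_cancel_left])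
    · rw [← map_mul]
      exact key F.q'.mi (by rw [map_mul, mul_assoc (f.j z), ← c2.eq, mul_inv_rev, ← z2]; group) F.q'.ij
    · rw [← map_inv, ← map_mul]
      refine key F.q'.mi ?_ F.q'.ij
      rw [map_mul, map_inv, show (f.j y)⁻¹ * f.j z * i' * ((f.j y)⁻¹ * f.j z)⁻¹ = (f.j y)⁻¹ * (f.j z * i' * (f.j z)⁻¹) * f.j y by
        group, z2, mul_assoc, c3.eq, inv_mul_cancel_left]
    · rw [← map_inv, ← map_mul, ← map_mul]
      refine key F.q'.mi ?_ F.q'.ij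
      rw [map_mul, map_mul, map_inv, show (f.j y)⁻¹ * (f.j z * f.j y) * i' * ((f.j y)⁻¹ * (f.j z * f.j y))⁻¹ =
        (f.j y)⁻¹ * (f.j z * (f.j y * i' * (f.j y)⁻¹) * (f.j z)⁻¹) * f.j y by group, ← c2.eq, mul_inv_cancel_right, z2,
        mul_assoc, c3.eq, inv_mul_cancel_left]

end G

end Cfsg.Agent.BH.R2.CN

namespace Cfsg.Agent.BH.R2

open Subgroup Cfsg Cfsg.Agent.TO Cfsg.Agent.KM.Two CN

theorem boxCN : BoxCN := by
  intro R _ _ _ Y _ _ f G _ _ π hπ hk M b D θ h hne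
  obtain ⟨K, hS⟩ := exists_st f hπ (fun y => (hk y).1) h
  have h1 : ∀ a c : Y, π a = π c → f.j a = f.j c ∨ f.j a = -f.j c := fun a c => pm hk
  have h2 : ∀ x ∈ (D.comap π).map f.j, ∀ y ∈ (D.comap π).map f.j, x * y = y * x ∨ x * y = -(y * x) := by
    rintro _ ⟨a, ha, rfl⟩ _ hc
    exact sc_of hk (h.ab ha) hc
  obtain ⟨a, ha, c, hc, h3⟩ : ∃ a ∈ D.comap π, ∃ c ∈ D.comap π, c * a ≠ a * c := by
    by_contra h3
    exact hne fun a ha c hc => by_contra fun e => h3 ⟨a, ha, c, hc, e⟩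
  have h4 : f.j c * f.j a ≠ f.j a * f.j c := fun e => h3 (f.inj (by rw [map_mul, map_mul, e]))
  have h5 := (h2 _ (mem_map_of_mem _ hc) _ (mem_map_of_mem _ ha)).resolve_left h4
  have h0 : (1 : R) ≠ 0 := fun e => h4 (Subtype.ext ((subsingleton_of_zero_eq_one e.symm).elim _ _))
  have h6 : f.j (c * a * (a * c)⁻¹) = -1 := by rw [map_mul, map_inv, map_mul, map_mul, h5, neg_mul, mul_inv_cancel]
  have h7 : c * a * (a * c)⁻¹ ∈ D.comap π := mul_mem (mul_mem hc ha) (inv_mem (mul_mem ha hc))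
  have hN : SN f.ν f.j.range ((D.comap π).map f.j) K := ⟨hS, fun x hx y hy =>
    (h2 x hx y hy).imp (congrArg Subtype.val) (congrArg Subtype.val), ⟨_, h7, h6⟩⟩
  have hD := map_comap_eq_self_of_surjective hπ D
  refine (core hN h0 (mem_map_of_mem _ hc) (mem_map_of_mem _ ha) h5).symm.imp (fun ⟨h8, h9⟩ => ?_)
    fun ⟨_, _, _, _, F⟩ => ⟨qq hN h0 F, s9 hπ hk h h0 hN F⟩
  have h11 : ∀ s, π s ∈ normalizer (D : Set G) → ∀ d ∈ (D.comap π).map f.j, f.j s * d * (f.j s)⁻¹ ∈ (D.comap π).map f.j :=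
    fun s => nrm
  generalize hE : (D.comap π).map f.j = E at h8 h9 hN h11
  refine ⟨((Z0 E).comap f.j).map π, ?_, ?_, ?_⟩
  · rintro _ ⟨y, hy, rfl⟩
    obtain ⟨x, hx, e⟩ := (hE ▸ hy.1 : f.j y ∈ (D.comap π).map f.j)
    exact f.inj e ▸ hx
  · rw [← hD, ← relIndex_comap]
    refine (relIndex_le_of_le_left (le_comap_map _ _) index_ne_zero_of_finite).trans ?_
    rwa [relIndex_comap, hE]
  · rintro t ht _ ⟨y, hy, rfl⟩
    obtain ⟨s, rfl⟩ := hπ t
    obtain ⟨n, hn, h10⟩ := exists_pow_Ce h ht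
    have h12 : ∀ w ∈ Z0 E, f.j s * w * (f.j s)⁻¹ ∈ Z0 E := fun w hw => mem_Z0.2 ⟨h11 s (In_le_norm ht) w hw.1,
      cj_mem_Cm (by rw [← map_inv]; exact h11 _ (by rw [map_inv]; exact inv_mem (In_le_norm ht))) (mem_Z0.1 hw).2⟩
    have h13 : ∀ {σ w : unitary R}, σ * w * σ⁻¹ = w ∨ σ * w * σ⁻¹ = -w → σ * σ * w * (σ * σ)⁻¹ = w := fun {σ w} e => by
      rw [show σ * σ * w * (σ * σ)⁻¹ = σ * (σ * w * σ⁻¹) * σ⁻¹ by group]
      rcases e with e | e
      · rw [e, e]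
      · rw [e, mul_neg, neg_mul, e, neg_neg]
    have h14 : ∀ d ∈ D, Commute (π s ^ n) d := fun d hd => (h10 d hd).symm
    have h15 := fix_of_omega (Z := Z0 E) (t := f.j s * f.j s) (fun x hx y hy => comm_Z0 hy hx.1) (fun w hw => by
      rw [show f.j s * f.j s * w * (f.j s * f.j s)⁻¹ = f.j s * (f.j s * w * (f.j s)⁻¹) * (f.j s)⁻¹ by group]
      exact h12 _ (h12 w hw)) hn (fun w hw => by
      obtain ⟨x, hx, rfl⟩ := (hE ▸ hw.1 : w ∈ (D.comap π).map f.j)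
      rw [(Commute.refl _).mul_pow]
      refine mul_inv_eq_iff_eq_mul.1 (h13 ?_)
      rw [← map_pow, ← map_inv, ← map_mul, ← map_mul]
      exact h1 _ _ (by rw [map_mul, map_mul, map_inv, map_pow, (h14 _ hx).eq, mul_inv_cancel_right]))
      (fun w hw e => h13 (by
        rcases h9 w hw _ (h12 w hw) e (by rw [conj_mul, e, mul_one, mul_inv_cancel]) with e | e | e | e | e | e
        · exact .inl (by simp [e])
        · exact .inl (by simp [e])
        · exact .inl (by rw [e, conj_eq_one_iff.1 e])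
        · exact .inl (by rw [e, ← neg_neg w, conj_eq_one_iff.1 (show f.j s * -w * (f.j s)⁻¹ = 1 by
            rw [mul_neg, neg_mul, e, neg_neg])])
        · exact .inl e
        · exact .inr e)) K _ hy (hN.pg _ hy.1)
    rw [← map_mul, ← map_inv, ← map_mul, ← map_mul] at h15
    have h16 := congrArg π (f.inj h15)
    rw [map_mul, map_mul, map_mul, map_inv, map_mul] at h16
    obtain ⟨x, hx, e⟩ := (hE ▸ hy.1 : f.j y ∈ (D.comap π).map f.j)
    exact mul_inv_eq_iff_eq_mul.2 (comm_of_sq hn (h14 _ (f.inj e ▸ hx)) (mul_inv_eq_iff_eq_mul.1 h16))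

end Cfsg.Agent.BH.R2
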