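import Cfsg.Agent.BH.Row2L.Defs
import Cfsg.Agent.KM.Two.Nab3

/-!
# BH (S4524), the prime `2` : the box `D4x` (helper76)

`i` on the image of `e + i e i⁻¹`, where `e` is a projection of rank two, lies in the kernel of `ν`.
-/

set_option autoImplicit false
set_option linter.unusedSectionVars false

namespace Cfsg.Agent.KM.Two.D4x

open Subgroup Matrix

section ring

variable {R : Type} [Ring R] [StarRing R] [Finite R] {p a b e m : R} {i : unitary R}

/-- a unitary element of the corner ring, extended by the identity -/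
def ex (hp : Pj p) (h1 : p * a = a) (h3 : star a * a = p) : unitary R := ⟨a + (1 - p), mem_uni (by
  have h2 : star a * p = star a := by rw [← hp.st, ← star_mul, h1]
  rw [star_add, Pj.st hp.one_sub, add_mul, mul_add, mul_add, h3, Pj.mm hp.one_sub, mul_sub, sub_mul, mul_one, one_mul, h1, h2]
  abel)⟩

theorem ex_mul (hp : Pj p) (h1 : a * p = a) (h2 : p * b = b) : (a + (1 - p)) * (b + (1 - p)) = a * b + (1 - p) := by
  rw [add_mul, mul_add, mul_add, Pj.mm hp.one_sub, mul_sub, sub_mul, mul_one, one_mul, h1, h2]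
  abel

theorem sq_one : ∀ x : ℤˣ × ℤˣ, x * x = 1 := fun _ => Prod.ext (Int.units_mul_self _) (Int.units_mul_self _)

theorem nu_cut (ν : unitary R →* ℤˣ × ℤˣ) (hi : i * i = -1) (he : Pj e) (h0 : e * cj i e = 0) (m1 : e * m = m)
    (m2 : m * e = m) (m3 : 2 * (star m * m) = e) : ν (cut i (e + cj i e)) = 1 := by
  have i1 : (i : R) * i = -1 := congrArg Subtype.val hi
  have i2 : star (i : R) = -i := by
    rw [← neg_neg (star (i : R)), ← mul_neg_one (star (i : R)), ← i1, ← mul_assoc, Unitary.coe_star_mul_self, one_mul]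
  have i3 : ∀ x, cj i (cj i x) = x := fun x => by
    rw [← cj_mul, hi, cj_apply, Unitary.coe_neg, OneMemClass.coe_one, star_neg, star_one, neg_mul, mul_neg, mul_one, one_mul,
      neg_neg]
  have i4 : ∀ x, Commute (i : R) (x + cj i x) := fun x => cj_eq_iff.1 (by rw [map_add, i3, add_comm])
  have he' := he.cj i
  have h0' : cj i e * e = 0 := by rw [← he.st, cj_star, ← star_mul, h0, star_zero]
  have hf : Pj _ := he.add he' h0
  have t2 : ∀ x : R, Commute 2 x := fun x => Commute.ofNat_left 2 x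
  have m4 : star m * e = star m := by rw [← he.st, ← star_mul, m1]
  have n1 : cj i e * cj i m = cj i m := by rw [← map_mul, m1]
  have n2 : cj i m * cj i e = cj i m := by rw [← map_mul, m2]
  have n3 : 2 * (star (cj i m) * cj i m) = cj i e := by rw [← cj_star, ← map_mul, ← m3, map_mul (cj i) 2, map_ofNat]
  have n4 : star (cj i m) * cj i e = star (cj i m) := by rw [← cj_star, ← map_mul, m4]
  have z1 : ∀ x y : R, x * e = x → cj i e * y = y → x * y = 0 := fun x y hx hy => by
    rw [← hx, ← hy, mul_assoc, ← mul_assoc e, h0, zero_mul, mul_zero]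
  have z2 : ∀ x y : R, x * cj i e = x → e * y = y → x * y = 0 := fun x y hx hy => by
    rw [← hx, ← hy, mul_assoc, ← mul_assoc _ e, h0', zero_mul, mul_zero]
  have w3 : star (2 * (m * m)) * (2 * (m * m)) = e := by
    rw [star_mul, star_ofNat, star_mul, ← (t2 _).eq, mul_assoc, mul_assoc, ← mul_assoc (star m) 2, ← (t2 _).eq, mul_assoc 2,
      ← mul_assoc (star m) m m, ← mul_assoc 2 _ m, m3, m1, m3]
  have w1 : e * (2 * (m * m)) = 2 * (m * m) := by rw [← mul_assoc, ← (t2 _).eq, mul_assoc, ← mul_assoc e, m1]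
  obtain ⟨c, hc⟩ : ∃ c, m + cj i m = c := ⟨_, rfl⟩
  have c0 : Commute (i : R) c := hc ▸ i4 m
  have c1 : (e + cj i e) * c = c := by
    rw [← hc, add_mul, mul_add, mul_add, m1, n1, z1 e _ he.mm n1, z2 _ m he'.mm m1, add_zero, zero_add]
  have c2 : c * (e + cj i e) = c := by
    rw [← hc, add_mul, mul_add, mul_add, m2, n2, z1 m _ m2 he'.mm, z2 _ e n2 he.mm, add_zero, zero_add]
  have c3 : 2 * (star c * c) = e + cj i e := by
    rw [← hc, star_add, add_mul, mul_add (star m), mul_add (star _), z1 _ _ m4 n1, z2 _ _ n4 m1, add_zero, zero_add, mul_add, m3, n3]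
  have c4 : c * c = m * m + cj i (m * m) := by
    rw [← hc, add_mul, mul_add, mul_add, z1 _ _ m2 n1, z2 _ _ n2 m1, add_zero, zero_add, map_mul]
  have f0 := i4 e
  have c5 : (ex he w1 w3 : R) * cj i (ex he w1 w3) = 2 * (c * c) + (1 - (e + cj i e)) := by
    show (2 * (m * m) + (1 - e)) * cj i (2 * (m * m) + (1 - e)) = _
    have k1 : 2 * (m * m) * cj i (2 * (m * m)) = 0 :=
      z1 _ _ (by rw [mul_assoc, mul_assoc, m2]) (by rw [← map_mul, w1])
    have k2 : 2 * (m * m) * cj i e = 0 := z1 _ _ (by rw [mul_assoc, mul_assoc, m2]) he'.mm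
    have k3 : e * cj i (2 * (m * m)) = 0 := z1 _ _ he.mm (by rw [← map_mul, w1])
    rw [map_add, map_sub, map_one, add_mul, mul_add, mul_add, k1, mul_sub, k2, sub_mul, k3, sub_mul, mul_sub e, h0, c4,
      map_mul (cj i) 2, map_ofNat]
    noncomm_ring
  generalize e + cj i e = f at *
  have h1 : f * ((1 + i) * c) = (1 + i) * c := by rw [← mul_assoc, ((Commute.one_right f).add_right f0.symm).eq, mul_assoc, c1]
  have h3 : star ((1 + (i : R)) * c) * ((1 + i) * c) = f := by
    rw [star_mul, star_add, star_one, i2, mul_assoc, ← mul_assoc _ _ c,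
      show (1 + -(i : R)) * (1 + i) = 1 - i * i by noncomm_ring, i1, sub_neg_eq_add, one_add_one_eq_two, ← mul_assoc,
      ← (t2 _).eq, mul_assoc, c3]
  have key : ex hf h1 h3 * ex hf h1 h3 = cut i f * (ex he w1 w3 * (i * ex he w1 w3 * i⁻¹)) := Subtype.ext (by
    rw [coe_mul', coe_mul', coe_mul', ← cj_coe, c5, cut_val hf f0,
      ex_mul hf (by rw [mul_assoc, hf.mm]) (by rw [← mul_assoc, ← (t2 _).eq, mul_assoc, ← mul_assoc f, c1])]
    show ((1 + i) * c + (1 - f)) * ((1 + i) * c + (1 - f)) = _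
    rw [ex_mul hf (by rw [mul_assoc, c2]) h1, mul_assoc, ← mul_assoc c, ((Commute.one_right c).add_right c0.symm).eq,
      mul_assoc, ← mul_assoc, show (1 + (i : R)) * (1 + i) = 2 * i + (1 + i * i) by noncomm_ring, i1, add_neg_cancel, add_zero,
      mul_assoc (i : R) f, ← mul_assoc f, ← (t2 f).eq, mul_assoc 2 f, ← mul_assoc f, c1, ← mul_assoc (i : R), ← (t2 _).eq])
  have := congrArg ν key
  rw [map_mul, map_mul, map_mul, map_mul, map_mul, map_inv, mul_inv_cancel_comm, sq_one, sq_one, mul_one] at this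
  exact this.symm

end ring

section mat

variable {F : Type} [Field F] {ι : Type} [Fintype ι] [DecidableEq ι]

theorem rank_add {p q : Matrix ι ι F} (hp : p * p = p) (hq : q * q = q) (h1 : p * q = 0) (h2 : q * p = 0) :
    (p + q).rank = p.rank + q.rank := by
  have e1 : LinearMap.range (p + q).mulVecLin = LinearMap.range p.mulVecLin ⊔ LinearMap.range q.mulVecLin := by
    refine le_antisymm ?_ (sup_le ?_ ?_)
    · rintro _ ⟨v, rfl⟩
      rw [mulVecLin_apply, add_mulVec]
      exact Submodule.add_mem_sup ⟨v, rfl⟩ ⟨v, rfl⟩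
    · rintro _ ⟨v, rfl⟩
      exact ⟨p *ᵥ v, by rw [mulVecLin_apply, mulVecLin_apply, mulVec_mulVec, add_mul, hp, h2, add_zero]⟩
    · rintro _ ⟨v, rfl⟩
      exact ⟨q *ᵥ v, by rw [mulVecLin_apply, mulVecLin_apply, mulVec_mulVec, add_mul, hq, h1, zero_add]⟩
  have e2 : LinearMap.range p.mulVecLin ⊓ LinearMap.range q.mulVecLin = ⊥ := by
    refine eq_bot_iff.2 ?_
    rintro _ ⟨⟨v, rfl⟩, w, hw⟩
    rw [mulVecLin_apply, mulVecLin_apply] at hw
    rw [Submodule.mem_bot, mulVecLin_apply, ← hp, ← mulVec_mulVec, ← hw, mulVec_mulVec, h1, zero_mulVec]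
  have := Submodule.finrank_sup_add_finrank_inf_eq (LinearMap.range p.mulVecLin) (LinearMap.range q.mulVecLin)
  rwa [e2, finrank_bot, add_zero, ← e1] at this

theorem fact {e : Matrix ι ι F} (he : e * e = e) {n : ℕ} (h : e.rank = n) :
    ∃ (P : Matrix ι (Fin n) F) (Q : Matrix (Fin n) ι F), P * Q = e ∧ Q * P = 1 := by
  let b := Module.finBasisOfFinrankEq F (LinearMap.range e.mulVecLin) h
  refine ⟨LinearMap.toMatrix b (Pi.basisFun F ι) (LinearMap.range e.mulVecLin).subtype,
    LinearMap.toMatrix (Pi.basisFun F ι) b e.mulVecLin.rangeRestrict, ?_, ?_⟩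
  · rw [← LinearMap.toMatrix_comp, LinearMap.subtype_comp_codRestrict, LinearMap.toMatrix_eq_toMatrix', ← toLin'_apply',
      LinearMap.toMatrix'_toLin']
  · rw [← LinearMap.toMatrix_comp, ← LinearMap.toMatrix_id b]
    congr 1
    refine LinearMap.ext ?_
    rintro ⟨_, v, rfl⟩
    refine Subtype.ext ?_
    show e *ᵥ (e *ᵥ v) = e *ᵥ v
    rw [mulVec_mulVec, he]

theorem exists_sq [Finite F] (h2 : (2 : F) ≠ 0) {D : F} (hD : D ≠ 0) : ∃ x y : F, 2 * (x ^ 2 + D * y ^ 2) = 1 := by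
  classical
  have := Fintype.ofFinite F
  obtain ⟨x, y, h⟩ := FiniteField.exists_root_sum_quadratic (R := F) (Polynomial.degree_C_mul_X_pow 2 hD)
    (Polynomial.degree_X_pow_sub_C (n := 2) (by decide) 2⁻¹)
    (FiniteField.odd_card_of_char_ne_two fun k => h2 (by simpa [k] using ringChar.Nat.cast_ringChar (R := F)))
  refine ⟨y, x, ?_⟩
  simp only [Polynomial.eval_mul, Polynomial.eval_C, Polynomial.eval_pow, Polynomial.eval_X, Polynomial.eval_sub] at h
  have := mul_inv_cancel₀ h2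
  linear_combination 2 * h + this

/-- a similitude of a plane with multiplier `1 / 2` -/
theorem exists_sim [Finite F] (h2 : (2 : F) ≠ 0) {G G' : Matrix (Fin 2) (Fin 2) F} (h1 : Gᵀ = G) (h3 : G' * G = 1) :
    ∃ n : Matrix (Fin 2) (Fin 2) F, (2 : F) • (nᵀ * G * n) = G := by
  have hD : G.det ≠ 0 := fun k => by
    have := congrArg det h3
    rw [det_mul, k, mul_zero, det_one] at this
    exact zero_ne_one this
  have s : G 1 0 = G 0 1 := congrFun (congrFun h1 0) 1
  obtain ⟨x, y, h⟩ := exists_sq h2 hD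
  rw [det_fin_two, s] at h
  refine ⟨!![x + y * G 0 1, y * G 1 1; -(y * G 0 0), x - y * G 0 1], ?_⟩
  ext a b
  fin_cases a <;> fin_cases b <;> simp [mul_apply, Fin.sum_univ_two, s]
  · linear_combination G 0 0 * h
  · linear_combination G 0 1 * h
  · linear_combination G 0 1 * h
  · linear_combination G 1 1 * h

theorem exists_m [Finite F] [StarRing (Matrix ι ι F)] {J K : Matrix ι ι F} (h2 : (2 : F) ≠ 0) (hJK : J * K = 1) (hJ : Jᵀ = J)
    (hs : ∀ A : Matrix ι ι F, star A = K * Aᵀ * J) {e : Matrix ι ι F} (he1 : e * e = e) (he2 : star e = e) (h : e.rank = 2) :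
    ∃ m, e * m = m ∧ m * e = m ∧ 2 * (star m * m) = e := by
  obtain ⟨P, Q, rfl, h4⟩ := fact he1 h
  have hKJ : K * J = 1 := mul_eq_one_comm.1 hJK
  rw [hs, transpose_mul] at he2
  obtain ⟨G, hG⟩ : ∃ G, Pᵀ * J * P = G := ⟨_, rfl⟩
  have g1 : Gᵀ = G := by rw [← hG, transpose_mul, transpose_mul, transpose_transpose, hJ, Matrix.mul_assoc]
  have g2 : K * Qᵀ * G = P := by
    rw [← hG, ← Matrix.mul_assoc, ← Matrix.mul_assoc, Matrix.mul_assoc K, he2, Matrix.mul_assoc, h4, Matrix.mul_one]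
  have g3 : Q * (K * Qᵀ) * G = 1 := by rw [Matrix.mul_assoc, g2, h4]
  obtain ⟨n, hn⟩ := exists_sim h2 g1 g3
  refine ⟨P * n * Q, ?_, ?_, ?_⟩
  · rw [← Matrix.mul_assoc, ← Matrix.mul_assoc, Matrix.mul_assoc P Q P, h4, Matrix.mul_one]
  · rw [← Matrix.mul_assoc, Matrix.mul_assoc _ Q P, h4, Matrix.mul_one]
  · have : star (P * n * Q) * (P * n * Q) = K * Qᵀ * (nᵀ * G * n) * Q := by
      rw [hs, ← hG]
      simp only [transpose_mul, Matrix.mul_assoc]
    rw [this, two_mul, ← two_smul F, ← Matrix.smul_mul, ← Matrix.mul_smul, hn, g2]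

theorem rank_cj [Finite F] [StarRing (Matrix ι ι F)] (t : unitary (Matrix ι ι F)) (a : Matrix ι ι F) :
    (cj t a).rank = a.rank := by
  have k : ∀ (t : unitary (Matrix ι ι F)) (a : Matrix ι ι F), (cj t a).rank ≤ a.rank := fun t a =>
    (rank_mul_le_left _ _).trans (rank_mul_le_right _ _)
  exact le_antisymm (k t a) (by simpa only [cj_inv] using k t⁻¹ (cj t a))

end mat

/-- commutators are `± 1` -/
theorem hc_closure {G : Type} [Group G] [HasDistribNeg G] {S : Set G} (h : ∀ x ∈ S, ∀ y ∈ S, x * y = y * x ∨ x * y = -(y * x)) :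
    ∀ x ∈ closure S, ∀ y ∈ closure S, x * y = y * x ∨ x * y = -(y * x) := by
  have k : ∀ y : G, (∀ x ∈ S, x * y = y * x ∨ x * y = -(y * x)) → ∀ x ∈ closure S, x * y = y * x ∨ x * y = -(y * x) := by
    intro y hy x hx
    induction hx using closure_induction with
    | mem x hx => exact hy x hx
    | one => exact .inl (by rw [one_mul, mul_one])
    | mul a b _ _ ia ib =>
      rw [mul_assoc, ← mul_assoc y]
      rcases ia with ia | ia <;> rcases ib with ib | ib <;> simp [ib, ← mul_assoc, ia]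
    | inv a _ ia =>
      rw [inv_mul_eq_iff_eq_mul, inv_mul_eq_iff_eq_mul]
      rcases ia with ia | ia <;> simp [← mul_assoc, ia]
  intro x hx y hy
  refine k y (fun s hs => ?_) x hx
  exact (k s (fun t ht => h t ht s hs) y hy).imp Eq.symm fun e => by rw [e, neg_neg]

theorem main {F : Type} [Field F] [Finite F] {ι : Type} [Fintype ι] [DecidableEq ι] [StarRing (Matrix ι ι F)]
    {J K : Matrix ι ι F} (hι : Fintype.card ι = 8) (hJK : J * K = 1) (hJ : Jᵀ = J)
    (hs : ∀ A : Matrix ι ι F, star A = K * Aᵀ * J) {ν : unitary (Matrix ι ι F) →* ℤˣ × ℤˣ}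
    {H E : Subgroup (unitary (Matrix ι ι F))} {n : ℕ} (h : St ν H E n) {i j i' j' : unitary (Matrix ι ι F)}
    (h1 : i * i = -1) (h2 : j * j = -1) (h3 : i * j = -(j * i)) (h4 : i' * i' = -1) (h5 : j' * j' = -1)
    (h6 : i' * j' = -(j' * i')) (c1 : Commute i i') (c2 : Commute i j') (c3 : Commute j i') (c4 : Commute j j')
    (hE : E = closure {i, j, i', j'}) : False := by
  have hne : Nonempty ι := Fintype.card_pos_iff.1 (by omega)
  have h0 : (2 : F) ≠ 0 := fun k => h.two.ne_zero (by rw [← map_ofNat (algebraMap F (Matrix ι ι F)), k, map_zero])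
  have a1 : j * i = -(i * j) := by rw [h3, neg_neg]
  have a2 : j' * i' = -(i' * j') := by rw [h6, neg_neg]
  have mi : i ∈ E := hE ▸ subset_closure (by simp)
  have mj : j ∈ E := hE ▸ subset_closure (by simp)
  have mi' : i' ∈ E := hE ▸ subset_closure (by simp)
  have hN : SN ν H E n := ⟨h, fun x hx y hy => (hc_closure (S := {i, j, i', j'}) (by
    rintro x (rfl | rfl | rfl | rfl) y (rfl | rfl | rfl | rfl)
    exacts [.inl rfl, .inr h3, .inl c1, .inl c2, .inr a1, .inl rfl, .inl c3, .inl c4, .inl c1.symm, .inl c3.symm, .inl rfl,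
      .inr h6, .inl c2.symm, .inl c4.symm, .inr a2, .inl rfl]) x (hE ▸ hx) y (hE ▸ hy)).imp (congrArg Subtype.val)
    (congrArg Subtype.val), h1 ▸ mul_mem mi mi⟩
  have sq : ∀ a b : unitary (Matrix ι ι F), a * a = -1 → b * b = -1 → Commute a b → a * b * (a * b) = 1 := fun a b k1 k2 k3 => by
    rw [← k3.mul_mul_mul_comm, k1, k2, neg_mul_neg, mul_one]
  have x1 : i * i' * j = -(j * (i * i')) := by rw [mul_assoc, ← c3.eq, ← mul_assoc, h3, neg_mul, mul_assoc]
  have x2 : j * j' * i = -(i * (j * j')) := by rw [mul_assoc, ← c2.eq, ← mul_assoc, a1, neg_mul, mul_assoc]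
  have x3 : Commute (i * i') (j * j') := by
    show i * i' * (j * j') = j * j' * (i * i')
    rw [← mul_assoc, x1, ← mul_assoc (j * j'), x2, neg_mul, neg_mul, mul_assoc, mul_assoc, h6, ← mul_assoc j i, a1]
    simp only [mul_neg, neg_mul, neg_neg, mul_assoc]
  have x4 : Commute (i * i') i := (Commute.refl i).mul_left c1.symm
  obtain ⟨f, hf, f1, f2⟩ := exists_pj h.two (sq i i' h1 h4 c1)
  obtain ⟨p, hp, p1, p2⟩ := exists_pj h.two (sq j j' h2 h5 c4)
  have f3 : Commute (i : Matrix ι ι F) f := (f2 _ (congrArg Subtype.val x4)).symm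
  have f4 : cj j f = 1 - f := cj_eq_iff.2 (anti_pj h.two f1 (congrArg Subtype.val x1))
  have p3 : cj i p = 1 - p := cj_eq_iff.2 (anti_pj h.two p1 (congrArg Subtype.val x2))
  have fp : Commute f p := (p2 _ (f2 _ (congrArg Subtype.val x3)).symm).symm
  have he : Pj (f * p) := hf.mul hp fp
  have e1 : cj i (f * p) = f * (1 - p) := by rw [map_mul, p3, cj_eq_iff.2 f3.eq]
  have e2 : f * p + cj i (f * p) = f := by rw [e1, ← mul_add, add_sub_cancel, mul_one]
  have e3 : f * p * cj i (f * p) = 0 := by rw [e1, ← fp.mul_mul_mul_comm, hp.mul_one_sub_self, mul_zero]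
  have e4 : cj i (f * p) * (f * p) = 0 := by
    rw [e1, ← ((Commute.one_right f).sub_right fp).mul_mul_mul_comm, hp.one_sub_mul_self, mul_zero]
  have r1 := rank_add hf.mm (Pj.mm hf.one_sub) hf.mul_one_sub_self hf.one_sub_mul_self
  rw [add_sub_cancel, rank_one, hι, ← f4, rank_cj] at r1
  have r2 := rank_add he.mm (he.cj i).mm e3 e4
  rw [e2, rank_cj] at r2
  obtain ⟨m, m1, m2, m3⟩ := exists_m h0 hJK hJ hs he.mm he.st (by omega)
  have k1 := nu_cut ν h1 he e3 m1 m2 m3
  rw [e2] at k1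
  have k2 := hN.cutN (mul_mem mi mi') hf f1 mj (congrArg Subtype.val x1) mi f3 (.inr h1) k1
  have k3 : f = -f := by
    rw [← neg_one_mul, ← show (i : Matrix ι ι F) * i = -1 from congrArg Subtype.val h1, mul_assoc]
    rcases k2 with k2 | k2
    · rw [k2, k2]
    · rw [k2, mul_neg, k2, neg_neg]
  rw [eq_zero_of_neg h.two k3, rank_zero] at r1
  omega

end Cfsg.Agent.KM.Two.D4x

/-- [D4x] -/
theorem Cfsg.Agent.BH.R2.boxD4x : Cfsg.Agent.BH.R2.BoxD4x :=
  fun _ _ _ _ _ _ _ _ _ hι hJK hJ hs _ _ _ _ h ⟨_, _, _, _, h1, h2, h3, h4, h5, h6, c1, c2, c3, c4, hE, _⟩ =>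
    Cfsg.Agent.KM.Two.D4x.main hι hJK hJ hs h h1 h2 h3 h4 h5 h6 c1 c2 c3 c4 hE
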