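import Cfsg.Agent.BH.Row2L.Defs
import Cfsg.Agent.KM.E2.D4
import Cfsg.Agent.KM.E2.BS

/-!
# BH/Row2L: the labels of a character of central defect (helper18)

* `dvd_one` : one nonzero multiplicity at a torus gives the divisibility `χ 1 * |T| ∣ |G|`;
* `boxLB`.
-/

set_option autoImplicit false
set_option linter.unusedSectionVars false

namespace Cfsg.Agent.BH.R2

namespace LB

open Cfsg Cfsg.Agent.DL Cfsg.Agent.DL.PP Cfsg.Agent.DL.Uni Cfsg.Agent.DL.Asm Cfsg.Agent.Nodes.Reps Matrix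
  Cfsg.Agent.Characters.Core Cfsg.Agent.KZ.Lie Cfsg.Agent.LV.One Cfsg.Agent.LV Polynomial
open scoped ComplexConjugate

theorem exists_mul_int {B : ℂ} (h : IsIntegral ℤ B) (h0 : B ≠ 0) : ∃ (z : ℂ) (m : ℤ), IsIntegral ℤ z ∧ m ≠ 0 ∧ z * B = m := by
  obtain ⟨m, hm, z, hz⟩ := (integralClosure.isIntegral (⟨B, h⟩ : integralClosure ℤ ℂ)).isAlgebraic.exists_nonzero_dvd
    (mem_nonZeroDivisors_of_ne_zero fun e => h0 (congrArg Subtype.val e))
  refine ⟨z, m, z.2, hm, ?_⟩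
  have h1 := congrArg Subtype.val hz
  rw [mul_comm]
  simpa using h1.symm

variable {p : ℕ} [Fact p.Prime] {k : Type} [Field k] [CharP k p] {Y : Type} [Group Y] {N : Type} [Fintype N]
  [DecidableEq N] {ρ : Y →* GL N k} {F : MulAut Y} {G : Subgroup Y} [IsAlgClosed k] {D : Datum p ρ F G} {w : D.W}
  (f : Fr D) [Fintype ↥(GF F G)] {χ : GF F G → ℂ}

variable (χ w) in
/-- the twisted sum of the multiplicities at one torus -/
noncomputable def Bv (v : D.R → ℤ) : ℂ := ∑ᶠ c : Lbl D, conj (chr v c : ℂ) * classInner χ (RW f w c)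

theorem Bv_fin [Fintype (Blk.FS D w)] (v : D.R → ℤ) :
    Bv w f χ v = ∑ c : Blk.FS D w, conj (chr v c.1 : ℂ) * classInner χ (RW f w c) :=
  (finsum_eq_sum_of_support_subset _ (s := Finset.univ.map (Function.Embedding.subtype (· ∈ Blk.FS D w))) fun c hc =>
    Finset.mem_map.2 ⟨⟨c, fx_of_ne f (right_ne_zero_of_mul hc)⟩, Finset.mem_univ _, rfl⟩).trans (Finset.sum_map _ _ _)

theorem tot_eq [Fintype (Blk.FS D w)] {t : Y} (ht : t ∈ Tw D w ⊓ GF F G) :
    ∑ c : Blk.FS D w, conj (th f w c t) * classInner χ (RW f w c) =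
      rst (GF F G) (R D) (Tw D w) (extendByZero (GF F G) χ) t⁻¹ := by
  have h1 : ∀ s ∈ Tw D w ⊓ GF F G, (∑ c : Blk.FS D w, th f w c t • th f w c) s = ((ordT D w : ℂ) • dl t⁻¹) s := fun s hs => by
    rw [Finset.sum_apply, Pi.smul_apply, smul_eq_mul, Finset.sum_congr rfl
      (f := fun c : Blk.FS D w => (th f w c t • th f w c) s) (g := fun c : Blk.FS D w => th f w c (t * s))
      fun c _ => ((th_spec f c.2).1.mul _ ht _ hs).symm]
    by_cases e : s = t⁻¹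
    · rw [e, dl_self, mul_one, mul_inv_cancel, Finset.sum_congr rfl fun (c : Blk.FS D w) _ => (th_spec f c.2).1.one,
        Finset.sum_const, Finset.card_univ, ← Nat.card_eq_fintype_card, Blk.card_FS, nsmul_one]
    · obtain ⟨c, hc, h2⟩ := Blk.exists_th_ne f (mul_mem ht hs) fun e' => e (eq_inv_of_mul_eq_one_right e')
      rw [dl_ne e, mul_zero]
      exact sum_hom_units_eq_zero
        ({ toFun := fun c => th f w c (t * s)
           map_one' := th_one w _ (mul_mem ht hs)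
           map_mul' := fun a b => th_mul a.2 b.2 _ (mul_mem ht hs) } : Blk.FS D w →* ℂ) fun e => h2 (DFunLike.congr_fun e ⟨c, hc⟩)
  have h2 := ip_congr (f := extendByZero (GF F G) χ) (fun _ _ => rfl) ((sys' D).R_congr (Tw_mem w) h1)
  rw [map_sum, map_smul, ip_sum_right, ip_smul_right, map_natCast] at h2
  rw [rst, card_Tw, ← h2]
  exact Finset.sum_congr rfl fun c _ => by rw [map_smul, ip_smul_right, ip_eq_classInner, PQ.Sm.res_ext, RW]

theorem deg_dvd (hχ : IsIrrCharacter (GF F G) χ) (v : D.R → ℤ) {z : ℂ} (hz : IsIntegral ℤ z) {m : ℤ}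
    (hm : z * Bv w f χ v = m) : (charDegree χ * ordT D w : ℤ) ∣ Nat.card (GF F G) * m := by
  have : Finite (Blk.FS D w) := finite_Fx D w
  have := Fintype.ofFinite (Blk.FS D w)
  obtain ⟨n, hn⟩ := PQ.Sm.exists_idx (D := D) w
  have e := PQ.Sm.res_ext χ
  have ht := PP.nrm_mem f.L f.hζ (yw_mem D w) (yw_rp D w) v
  have h0 : Bv w f χ v = _ := (Bv_fin f v).trans ((Finset.sum_congr rfl fun c _ => by
    rw [← (th_spec f c.2).2 v]).trans (tot_eq f ht))
  generalize Mk.nrm F f.d (yw D w * D.τ (coch v f.ζ) * (yw D w)⁻¹) = t at ht h0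
  have h1 := PQ.Sm.rst_om (R := R D) (χ := extendByZero (GF F G) χ) (e.symm ▸ hχ) hn t⁻¹
  have h2 := hz.mul (Blk.om_int hχ (isCls_iff.1 ((sys' D).isCls_R (Tw_mem w) (dl t⁻¹))) fun g =>
    PQ.Sm.R_dl_int (St.full D) (Tw_mem w) t⁻¹ g.2)
  have h3 : (charDegree χ : ℂ) ≠ 0 := deg_cast (isIrr_isCharacter hχ) ▸ Blocks.Basic.irr_one_ne_zero hχ
  rw [← h0, e, ← deg_cast (isIrr_isCharacter hχ), mul_comm (charDegree χ : ℂ), ← div_eq_iff h3] at h1
  rw [← h1, ← mul_div_assoc, mul_left_comm, hm,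
    show (n : ℂ) * m / charDegree χ = algebraMap ℚ ℂ ((n * m : ℤ) / charDegree χ) by simp,
    isIntegral_algebraMap_iff (algebraMap ℚ ℂ).injective, IsIntegrallyClosed.isIntegral_iff] at h2
  obtain ⟨a, ha⟩ := h2
  rw [eq_div_iff (by exact_mod_cast h3), algebraMap_int_eq, eq_intCast] at ha
  have h4 : a * charDegree χ = n * m := by exact_mod_cast ha
  exact ⟨a, by rw [hn, card_Tw, Nat.cast_mul]; linear_combination (-ordT D w : ℤ) * h4⟩

theorem exists_Bv (hχ : IsIrrCharacter (GF F G) χ) {c : Lbl D} (h : classInner χ (RW f w c) ≠ 0) :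
    ∃ (v : D.R → ℤ) (z : ℂ) (m : ℤ), IsIntegral ℤ z ∧ m ≠ 0 ∧ z * Bv w f χ v = m := by
  have : Finite (Blk.FS D w) := finite_Fx D w
  have := Fintype.ofFinite (Blk.FS D w)
  obtain ⟨v, hv⟩ : ∃ v, Bv w f χ v ≠ 0 := by
    by_contra! h0
    let φ : Blk.FS D w → (Multiplicative (D.R → ℤ) →* ℂ) := fun c =>
      { toFun := fun v => conj (chr v.toAdd c.1 : ℂ)
        map_one' := by rw [toAdd_one, chr_zero, Units.val_one, map_one]
        map_mul' := fun a b => by rw [toAdd_mul, chr_add, Units.val_mul, map_mul] }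
    have h1 : Function.Injective φ := fun a b e => Subtype.ext (eq_of_chr D fun v =>
      Units.ext ((starRingEnd ℂ).injective (DFunLike.congr_fun e (Multiplicative.ofAdd v))))
    refine h (Fintype.linearIndependent_iff.1 ((linearIndependent_monoidHom _ ℂ).comp φ h1)
      (fun c => classInner χ (RW f w c)) (funext fun v => ?_) ⟨c, fx_of_ne f h⟩)
    rw [Finset.sum_apply, Pi.zero_apply, ← h0 v.toAdd, Bv_fin]
    exact Finset.sum_congr rfl fun c _ => mul_comm _ _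
  refine ⟨v, exists_mul_int ?_ hv⟩
  rw [Bv_fin]
  refine IsIntegral.sum _ fun c _ => IsIntegral.mul ?_ ?_
  · refine IsIntegral.of_pow (Nat.card_pos (α := Blk.FS D w)) ?_
    rw [← map_pow, ← Units.val_pow_eq_pow_val, ← map_pow, ← Subgroup.coe_pow, pow_card_eq_one', Subgroup.coe_one, map_one,
      Units.val_one, map_one]
    exact isIntegral_one
  · obtain ⟨m, hm⟩ := inner_int f (gen_of_irr hχ) w c
    rw [hm]
    exact isIntegral_algebraMap (R := ℤ)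

/-- the degree polynomial and one nonzero multiplicity -/
theorem exists_deg (hq : D.QS) (hL : LfE f χ) (hχ : IsIrrCharacter (GF F G) χ) {c₀ : Lbl D}
    (hw : classInner χ (RW f w c₀) ≠ 0) :
    ∃ (c : ℚ) (n : ℕ) (u Q : ℤ[X]), LfD f χ (C c * (X ^ n * u).map (Int.castRingHom ℚ)) ∧
      c * (u.eval 1 : ℤ) = charDegree χ ∧ Q.eval 1 = pc' p (GF F G) ∧ u * Pw D w ∣ Q := by
  have hp : p.Prime := Fact.out
  have := Fintype.ofFinite D.W
  obtain ⟨g, h1, h2⟩ := exists_poly f hq hL (gen_of_irr hχ)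
  obtain ⟨Q, h3, h4⟩ := exists_ord hq f
  obtain ⟨c, n, u, h5, h6, h7, rfl⟩ := exists_form (g := g) fun e =>
    Blocks.Basic.irr_one_ne_zero hχ (by rw [← h2, e, eval_zero, Rat.cast_zero])
  refine ⟨c, n, u, Q, h1, ?_, h3, ?_⟩
  · rw [← deg_cast (isIrr_isCharacter hχ), eval_mul, eval_C, ← Int.cast_one, eval_map_cast, eval_mul, eval_pow, eval_X, one_pow,
      one_mul] at h2
    exact_mod_cast h2
  obtain ⟨v, z, m, hz, hm0, hm⟩ := exists_Bv f hχ hw
  refine dvd_of_map_dvd (n := c.den * m) (h6.mul (isPrimitive_of_coeff (Pw_zero w).2))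
    (mul_ne_zero (Nat.cast_ne_zero.2 c.den_ne_zero) hm0)
    (dvd_of_pow_values hp (by rw [mul_coeff_zero]; exact mul_ne_zero h7 (Pw_zero w).2.ne_zero) fun B => ?_)
  obtain ⟨l, j, hl, i, f', χ', ε, h8, -, h9, h10, h11, h12, h13⟩ := h1 (1 + f.d * B) 1 one_ne_zero
  have h14 : B < j := lt_of_mul_lt_mul_left (a := f.d) (by omega) (Nat.zero_le _)
  obtain ⟨η, rfl, hη⟩ : ∃ η : ℤ, ε = η ∧ IsUnit η := by
    rcases h11 with rfl | rfl
    exacts [⟨1, by simp, isUnit_one⟩, ⟨-1, by simp, isUnit_one.neg⟩]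
  have h15 := deg_dvd (D := D.pow hl) (w := w) f' h10 v hz (m := η * m) (by
    rw [Int.cast_mul, ← hm, mul_left_comm]
    refine congrArg _ ?_
    rw [Bv, Bv, mul_finsum]
    exact finsum_congr fun c => (congrArg _ (h12 w c)).trans (mul_left_comm _ _ _))
  refine ⟨f.e * j, (Nat.card (GF (F ^ l) G)).factorization p, h14.trans_le (Nat.le_mul_of_pos_left _ f.L.e_pos), ?_⟩
  have h16 : (c.den : ℤ) * (η * charDegree χ') = c.num * (X ^ n * u).eval ((p : ℤ) ^ (f.e * j)) := by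
    rw [show ((p : ℂ) ^ (f.e * j)) = algebraMap ℚ ℂ (((p : ℤ) ^ (f.e * j) : ℤ) : ℚ) by simp, aeval_algebraMap_apply,
      coe_aeval_eq_eval, eq_ratCast, eval_mul, eval_C, eval_map_cast, ← deg_cast (isIrr_isCharacter h10)] at h13
    have h17 : ((η * charDegree χ' : ℤ) : ℚ) = c * ((X ^ n * u).eval ((p : ℤ) ^ (f.e * j)) : ℤ) := by exact_mod_cast h13
    refine Int.cast_injective (α := ℚ) ?_
    rw [Int.cast_mul, h17, Int.cast_mul, ← mul_assoc, Int.cast_natCast, Rat.den_mul_eq_num]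
  have h17 : u.eval ((p : ℤ) ^ (f.e * j)) ∣ c.den * charDegree χ' := by
    rw [← hη.dvd_mul_left, mul_left_comm, h16, eval_mul, ← mul_assoc]
    exact Dvd.intro_left _ rfl
  rw [eval_mul, eval_mul, eval_C, Pw_pow f.L hl h9, h4 l j hl h9, mul_left_comm,
    (show IsUnit (sgZ (D.pow hl) w) by rcases sgZ_sign (D.pow hl) w with h | h <;> simp [h]).mul_left_dvd]
  refine (mul_dvd_mul_right h17 _).trans ?_
  rw [mul_assoc, mul_assoc, mul_left_comm _ (c.den : ℤ) (m * _)]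
  refine mul_dvd_mul_left _ (h15.trans ?_)
  have h18 := congrArg (Nat.cast : ℕ → ℤ) (pc_mul_pc' p (GF (F ^ l) G))
  rw [pc, Nat.cast_mul, Nat.cast_pow] at h18
  rw [mul_left_comm, hη.mul_left_dvd]
  exact dvd_of_eq (by linear_combination (-m) * h18)

/-- **One nonzero multiplicity**: the `l`-part of the degree times the order of the torus. -/
theorem fac_le (hq : D.QS) (hχ : IsIrrCharacter (GF F G) χ) {c₀ : Lbl D} (hw : classInner χ (RW f w c₀) ≠ 0) {l : ℕ}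
    (hl : l.Prime) (hp : l ≠ p) :
    (charDegree χ).factorization l + (ordT D w).factorization l ≤ (Nat.card (GF F G)).factorization l := by
  have hd := KM.Deg.deg_of_dwR hq f KM.Deg.boxCnt KM.D3.boxExp KM.D3.boxPow KM.Deg.boxBij (KM.dwR D) hχ hl hp
  obtain ⟨c, n, u, Q, h1, h2, h3, h4⟩ := exists_deg f hq (KM.Deg.lfE_of_bij hq f KM.Deg.boxBij hχ) hχ hw
  have h5 := Int.natAbs_dvd_natAbs.2 (eval_dvd (x := 1) h4)
  rw [eval_mul, Pw_one, h3, Int.natAbs_mul, Int.natAbs_mul, Int.natAbs_natCast, Int.natAbs_natCast,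
    show (sgZ D w).natAbs = 1 by rcases sgZ_sign D w with h | h <;> simp [h], one_mul] at h5
  have h6 : charDegree χ ≠ 0 := (Blocks.Basic.charDegree_pos hχ).ne'
  have h7 : c.num * u.eval 1 = c.den * charDegree χ := Int.cast_injective (α := ℚ) (by
    rw [Int.cast_mul, Int.cast_mul, Int.cast_natCast, Int.cast_natCast, ← h2, ← mul_assoc, Rat.den_mul_eq_num])
  have h8 : charDegree χ * ordT D w ∣ c.num.natAbs * Nat.card (GF F G) := by
    have h9 := congrArg Int.natAbs h7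
    rw [Int.natAbs_mul, Int.natAbs_mul, Int.natAbs_natCast, Int.natAbs_natCast] at h9
    refine (mul_dvd_mul_right (Dvd.intro_left _ h9.symm) _).trans ?_
    rw [mul_assoc]
    exact mul_dvd_mul_left _ (h5.trans (Dvd.intro_left _ (pc_mul_pc' p (GF F G))))
  have h10 : c.num.natAbs ≠ 0 := fun e => by
    rw [Int.natAbs_eq_zero.1 e, zero_mul] at h7
    exact mul_ne_zero (Nat.cast_ne_zero.2 c.den_ne_zero) (Nat.cast_ne_zero.2 h6) h7.symm
  have h11 := (Nat.factorization_le_iff_dvd (mul_ne_zero h6 (ordT_ne w)) (mul_ne_zero h10 Nat.card_pos.ne')).2 h8 l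
  rwa [Nat.factorization_mul h10 Nat.card_pos.ne', Finsupp.add_apply, Nat.factorization_eq_zero_of_not_dvd (n := c.num.natAbs)
    fun e => hd _ h1 c.num c.den (X ^ n * u) (by rw [← mul_assoc, ← C_mul, Int.cast_natCast, Rat.den_mul_eq_num])
      (fun e' => hl.not_dvd_one (c.reduced ▸ Nat.dvd_gcd e (Int.natCast_dvd_natCast.1 e'))) (Int.natCast_dvd.2 e),
    zero_add, Nat.factorization_mul h6 (ordT_ne w), Finsupp.add_apply] at h11

omit f [Fintype ↥(GF F G)]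

theorem Sz_one {a : D.I → ℤ} (h : D.Rt a) : a ∈ D.Sz {1} := ⟨h, fun _ e => by rw [e, D.χ_one]⟩

theorem z_comm {z : Y} (hz : z ∈ KM.Ht.Z0 D {1}) : ∀ y ∈ G, y * z = z * y := fun _ hy =>
  KM.Si.Ee.Z_comm D hy (KM.Tor.Z0_mono (fun _ h => Sz_one h.1) hz)

theorem pres {z : D.R → ℤ} (h : ∀ a, D.Rt a → D.wt a ⬝ᵥ z = 0) (i : ℕ) :
    ∀ a, D.Rt a → D.wt a ⬝ᵥ ((D.Wm w * D.Mx) ^ i *ᵥ z) = 0 := by
  induction i with
  | zero => rwa [pow_zero, one_mulVec]
  | succ i ih =>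
    intro b hb
    obtain ⟨a, ha, rfl⟩ := gw_surj w hb
    rw [pow_succ', ← mulVec_mulVec, dotProduct_mulVec, wt_gw w ha, smul_dotProduct, ih a ha, smul_zero]

/-- the torus is odd modulo the connected centre -/
theorem od_of (hp : p ≠ 2) {E : Subgroup Y} (hE : E ≤ KM.Ht.Z0 D {1}) (h : KM.Uu.SylIn F 2 (Tw D w) E) : Od D w := by
  rintro v ⟨y, hy⟩
  obtain ⟨d, e, L⟩ := exists_lvl D
  have h1 : 1 < p ^ e := Nat.one_lt_pow L.e_pos.ne' (Fact.out : p.Prime).one_lt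
  obtain ⟨a, n, hn, h2⟩ := Nat.exists_eq_pow_mul_and_not_dvd (n := p ^ e - 1) (by omega) 2 (by norm_num)
  obtain ⟨ξ, hξ⟩ := KM.Tor.exists_prim p k (n := 2 ^ (a + 1)) fun h =>
    hp ((Nat.prime_dvd_prime_iff_eq Fact.out Nat.prime_two).1 ((Fact.out : p.Prime).dvd_of_dvd_pow h))
  have h0 := IsPrimitiveRoot.orderOf ξ
  rw [hξ] at h0
  have h3 : (p : ℤ) ^ e - 1 = 2 ^ a * n := by
    have := congrArg (Nat.cast : ℕ → ℤ) h2
    rwa [Nat.cast_sub h1.le, Nat.cast_pow, Nat.cast_one, Nat.cast_mul, Nat.cast_pow, Nat.cast_ofNat] at this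
  generalize hz : (D.Wm w * D.Mx) *ᵥ v - v - (2 : ℤ) • y = z at hy
  have hu : ∀ b, D.Rt b → D.wt b ⬝ᵥ ((∑ i ∈ Finset.range d, (D.Wm w * D.Mx) ^ i) *ᵥ z) = 0 := fun b hb => by
    rw [sum_mulVec, dotProduct_sum]
    exact Finset.sum_eq_zero fun i _ => pres hy i b hb
  have h4 : (D.Wm w * D.Mx - 1) *ᵥ ((∑ i ∈ Finset.range d, (D.Wm w * D.Mx) ^ i) *ᵥ z) = ((2 : ℤ) ^ a * n) • z := by
    rw [mulVec_mulVec, mul_geom_sum, L.pow, sub_mulVec, smul_mulVec, one_mulVec, ← h3, sub_smul, one_smul]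
  generalize (∑ i ∈ Finset.range d, (D.Wm w * D.Mx) ^ i) *ᵥ z = u at hu h4
  have h5 : (D.Wm w * D.Mx - 1) *ᵥ (((2 : ℤ) ^ a * n) • v - u) = ((2 : ℤ) ^ (a + 1) * n) • y := by
    rw [mulVec_sub, h4, mulVec_smul, ← hz, sub_mulVec, one_mulVec]
    module
  have hy' := yw_mem D w
  have h6 : yw D w * D.τ (coch (((2 : ℤ) ^ a * n) • v - u) ξ) * (yw D w)⁻¹ ∈ KM.Ht.Z0 D {1} := hE (h _ (conj_mem_cj.2 (D.τ_mem _))
    (by
      rw [F_cj_τ (yw_rp D w), (mon_coch_iff h0 _ _).2 fun i => by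
        rw [h5, Pi.smul_apply, smul_eq_mul, mul_assoc, Nat.cast_pow, Nat.cast_ofNat]
        exact dvd_mul_right _ _])
    ⟨a + 1, by
      rw [conj_pow, ← map_pow, show coch (((2 : ℤ) ^ a * n) • v - u) ξ ^ 2 ^ (a + 1) = 1 from funext fun i => by
        rw [Pi.pow_apply, coch_apply, ← zpow_natCast, ← _root_.zpow_mul, mul_comm, _root_.zpow_mul, zpow_natCast, h0.pow_eq_one,
          _root_.one_zpow, Pi.one_apply], map_one, mul_one, mul_inv_cancel]⟩)
  have h7 : D.τ (coch (((2 : ℤ) ^ a * n) • v - u) ξ) ∈ KM.Ht.Z0 D {1} := by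
    have := z_comm h6 _ (inv_mem hy')
    rw [← mul_assoc, inv_mul_cancel_left, mul_left_inj] at this
    exact this ▸ h6
  have h8 : ξ ^ ((2 : ℤ) ^ a * n) = -1 := by
    have h9 : ξ ^ ((2 : ℤ) ^ a * n) * ξ ^ ((2 : ℤ) ^ a * n) = 1 := by
      rw [← _root_.zpow_add, h0.zpow_eq_one_iff_dvd]
      exact ⟨n, by push_cast; ring⟩
    refine Units.ext ((mul_self_eq_one_iff.1 (congrArg Units.val h9)).resolve_left fun e => hn ?_)
    have h10 := (h0.zpow_eq_one_iff_dvd _).1 (Units.ext e)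
    rw [Nat.cast_pow, Nat.cast_ofNat, pow_succ, mul_dvd_mul_iff_left (pow_ne_zero a two_ne_zero)] at h10
    exact_mod_cast h10
  have h9 : KM.E2.D4.tw D v ∈ KM.Ht.Z0 D {1} := by
    have := mul_mem h7 (KM.Ht.mem_Z0 (A := {1}) (fun b hb => hu b hb.1) ξ)
    rwa [← map_mul, ← coch_add, sub_add_cancel, coch_zsmul, h8] at this
  obtain ⟨v', h10, h11⟩ := KM.E2.D4.exists_two h9 (by
    rw [← KM.E2.D4.tw_add]
    exact KM.E2.D4.tw_even fun r => ⟨v r, by rw [Pi.add_apply, two_mul]⟩)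
  choose y' hy'' using KM.E2.D4.even_of_tw hp h11
  refine ⟨y', fun b hb => ?_⟩
  rw [show v - (2 : ℤ) • y' = v' from funext fun r => by
    have := hy'' r
    rw [Pi.sub_apply] at this
    rw [Pi.sub_apply, Pi.smul_apply, smul_eq_mul, ← this, sub_sub_cancel]]
  exact h10 b (Sz_one hb)

end LB

open Cfsg Cfsg.Agent.DL Cfsg.Agent.DL.PP Cfsg.Agent.KZ.Lie

/-- **[LB]** -/
theorem boxLB : BoxLB := by
  intro p _ k _ _ Y _ N _ _ ρ F G _ X hp hq f _ D χ hD h2 hZ hχ h1 hd w c hne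
  have hc := LV.One.fx_of_ne f hne
  have : Finite ↥(Tw X w ⊓ GF F G) := Finite.of_injective _ (Subgroup.inclusion_injective inf_le_right)
  have h3 := LB.fac_le f hq hχ hne Nat.prime_two hp.symm
  have hT := (X.conj (yw_mem X w) ⟨w, yw_rp X w⟩).T_le_G
  have h4 : KM.Uu.SylIn F 2 (Tw X w) D := fun t ht hF h => KM.Uu.mem_of_fac (l := 2) (A := Tw X w ⊓ GF F G)
    (fun a ha b hb => (X.conj (yw_mem X w) ⟨w, yw_rp X w⟩).T_comm ha.1 hb.1)
    (fun a ha => ⟨central_mem (hD ha).1 (LB.z_comm (hZ ha)) (yw_mem X w), hD ha⟩)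
    (fun a ha => (h2 ⟨a, ha⟩).imp fun _ h => congrArg Subtype.val h) (by rw [card_Tw]; omega) ⟨ht, hT ht, hF⟩ h
  refine ⟨LB.od_of hp hZ h4, ?_, h4⟩
  obtain ⟨a, n, hn, h5⟩ := Nat.exists_eq_pow_mul_and_not_dvd (n := Nat.card ↥(Tw X w ⊓ GF F G)) Nat.card_pos.ne' 2 (by norm_num)
  refine ⟨n, hn, eq_of_chr X fun v => Units.ext ?_⟩
  have ht : _ ∈ Tw X w ⊓ GF F G := PP.nrm_mem f.L f.hζ (yw_mem X w) (yw_rp X w) v
  have h6 := (th_spec f hc).2 v
  generalize Mk.nrm F f.d (yw X w * X.τ (coch v f.ζ) * (yw X w)⁻¹) = t at ht h6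
  have h7 : t ^ n ∈ D := h4 _ (pow_mem ht.1 n) (pow_mem ht.2 n).2 ⟨a, by
    rw [← pow_mul, mul_comm, ← h5]
    exact congrArg Subtype.val (pow_card_eq_one' (x := (⟨t, ht⟩ : ↥(Tw X w ⊓ GF F G))))⟩
  rw [map_pow, map_one, Units.val_pow_eq_pow_val, ← h6, ← LV.Blk.th_pow' f hc n ht]
  exact KM.E2.BS.th_eq_one f hχ hne (z := ⟨_, hD h7⟩) (LB.z_comm (hZ h7)) (h1 _ h7)

end Cfsg.Agent.BH.R2
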