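import Cfsg.Agent.BH.Row2L.Defs
import Cfsg.Agent.BH.Ht.Blk

/-!
# BH, the prime `2` : the box `NC` (helper65)

`Nc.lift` : blocks through a central kernel; `Nc.deg` : the degrees; **`boxNC`**.
-/

set_option autoImplicit false
set_option linter.unusedSectionVars false

namespace Cfsg.Agent.BH.R2

open Cfsg Subgroup Cfsg.Agent.TO Cfsg.Agent.KM.BK Cfsg.Agent.Blocks.Basic Cfsg.Agent.H649 Cfsg.Agent.TID.Red
open Cfsg.Agent.H644.CentralQuot (defl infl isPBlock_defl)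

namespace Nc

section lift

variable {p : ℕ} [hp : Fact p.Prime] {M : Ideal AlgInt} {Y K : Type} [Group Y] [Finite Y] [Group K] [Finite K]

theorem lift_p (hM : IsPModular p M) {U : Subgroup Y} [U.Normal] (hU : U ≤ center Y) (h : IsPGroup p U)
    {b : Set (IrrCharacter (Y ⧸ U))} (hb : IsPBlock M b) {D : Subgroup (Y ⧸ U)} (hD : IsDefectGroup p M b D) :
    ∃ (B : Set (IrrCharacter Y)) (E : Subgroup Y), IsPBlock M B ∧ IsDefectGroup p M B E ∧ E.map (QuotientGroup.mk' U) = D ∧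
      ∀ ψ ∈ b, infl U ψ ∈ B := by
  have := hM.2.1.isPrime
  have := Fintype.ofFinite Y
  obtain ⟨θ, hθ⟩ := isPBlock_nonempty hb
  have hB : IsPBlock M (blockOf M (infl U θ : Y → ℂ)) := isPBlock_blockOf _
  have h1 : defl U (blockOf M (infl U θ : Y → ℂ)) = b :=
    isPBlock_eq_of_mem (isPBlock_defl hM hU h hB) hb (mem_blockOf_self (infl U θ)) hθ
  generalize blockOf M (infl U θ : Y → ℂ) = B at hB h1
  subst h1
  obtain ⟨E, hE⟩ := H644.exists_isDefectGroup hM hB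
  obtain ⟨x, hx⟩ := conj_defect hM hb (H658.isDefectGroup_defl hM hU h hB hE).2 hD
  obtain ⟨y, rfl⟩ := QuotientGroup.mk'_surjective U x
  refine ⟨B, _, hB, isDefectGroup_conj hE y, ?_, fun _ h => h⟩
  rw [← hx, Subgroup.map_map, Subgroup.map_map]
  rfl

/-- blocks through a central kernel -/
theorem lift (hM : IsPModular p M) (π : Y →* K) (hπ : Function.Surjective π) (hk : ∀ y, π y = 1 → y ∈ center Y)
    {b : Set (IrrCharacter K)} (hb : IsPBlock M b) {D : Subgroup K} (hD : IsDefectGroup p M b D) :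
    ∃ (B : Set (IrrCharacter Y)) (E : Subgroup Y), IsPBlock M B ∧ IsDefectGroup p M B E ∧ E.map π = D ∧
      ∀ ψ ∈ b, (ψ : K → ℂ) ∘ π ∈ Fn B := by
  obtain ⟨a, m, hm, e⟩ := Nat.exists_eq_pow_mul_and_not_dvd (Nat.card_pos (α := Y)).ne' p hp.out.ne_one
  let U : Subgroup Y :=
    { carrier := {x | π x = 1 ∧ x ^ p ^ a = 1}
      one_mem' := ⟨map_one π, one_pow _⟩
      mul_mem' := fun {x y} hx hy => ⟨by rw [map_mul, hx.1, hy.1, mul_one], by
        rw [Commute.mul_pow (mem_center_iff.1 (hk y hy.1) x), hx.2, hy.2, mul_one]⟩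
      inv_mem' := fun {x} hx => ⟨by rw [map_inv, hx.1, inv_one], by rw [inv_pow, hx.2, inv_one]⟩ }
  have h1 : U ≤ center Y := fun x hx => hk x hx.1
  have : U.Normal := ⟨fun n hn g => by rwa [mem_center_iff.1 (h1 hn) g, mul_inv_cancel_right]⟩
  let ρ : Y ⧸ U →* K := QuotientGroup.lift U π fun _ hx => hx.1
  obtain ⟨C, P, hC, hP, h2, h3, -⟩ := Ht.infl hM ρ (QuotientGroup.lift_surjective_of_surjective U π hπ _)
    (Ht.not_dvd_of_pow (n := m) (fun y hy => by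
      obtain ⟨x, rfl⟩ := QuotientGroup.mk_surjective y
      rw [← QuotientGroup.mk_pow, QuotientGroup.eq_one_iff]
      exact ⟨by rw [map_pow, show π x = 1 from hy, one_pow], by rw [← pow_mul, mul_comm, ← e, pow_card_eq_one']⟩) hm) hb hD
  obtain ⟨B, E, hB, hE, h4, h5⟩ := lift_p hM h1 (fun x => ⟨a, Subtype.ext x.2.2⟩) hC hP
  refine ⟨B, E, hB, hE, ?_, fun ψ hψ => ?_⟩
  · rw [← h2, ← h4, Subgroup.map_map]
    rfl
  · obtain ⟨ξ, k1, k2⟩ := h3 ψ hψ
    exact ⟨_, h5 ξ k1, funext fun y => congrFun k2 _⟩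

theorem fix_le (hM : IsPModular p M) {b : Set (IrrCharacter K)} (hb : IsPBlock M b) {ψ : IrrCharacter K} (hψ : ψ ∈ b) :
    FixF (ψ : K → ℂ) ≤ Stab b := fun α hα => by
  have := hM.2.1.isPrime
  refine Cn.mem_Stab_iff.2 (isPBlock_eq_of_mem (isPBlock_blkMap hb) hb (irrMap_mem_blkMap.2 hψ) ?_)
  have h1 : irrMap α ψ = ψ := Subtype.ext (funext fun k => by rw [irrMap_apply, ← hα.2, MulEquiv.apply_symm_apply])
  rwa [h1]

end lift

theorem num {a a' x x' c c' : ℕ} (ha : ¬ 2 ∣ a) (ha' : ¬ 2 ∣ a') (hx : x ≠ 0) (hx' : x' ≠ 0)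
    (hv : x.factorization 2 = x'.factorization 2) (h : a * 2 ^ c * x = a' * 2 ^ c' * x') : a * x = a' * x' := by
  have h0 : ∀ {a x : ℕ} (c : ℕ), ¬ 2 ∣ a → x ≠ 0 → (a * 2 ^ c * x).factorization 2 = c + x.factorization 2 := fun {a x} c ha hx => by
    have h1 : a ≠ 0 := fun e => ha (e ▸ dvd_zero 2)
    rw [Nat.factorization_mul (mul_ne_zero h1 (pow_ne_zero _ two_ne_zero)) hx, Nat.factorization_mul h1 (pow_ne_zero _ two_ne_zero),
      Finsupp.add_apply, Finsupp.add_apply, Nat.factorization_eq_zero_of_not_dvd ha, Nat.prime_two.factorization_pow, zero_add,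
      Finsupp.single_eq_same]
  have h1 := h0 c ha hx
  rw [h, h0 c' ha' hx', hv] at h1
  obtain rfl : c' = c := add_right_cancel h1
  exact Nat.eq_of_mul_eq_mul_left (pow_pos two_pos c') (by linarith)

theorem rel_ord {G : Type} [Group G] (S : Subgroup G) [S.Normal] (g : G) :
    S.relIndex (zpowers g) = orderOf (QuotientGroup.mk' S g) := by
  rw [← Nat.card_zpowers, ← MonoidHom.map_zpowers, ← relIndex_ker, QuotientGroup.ker_mk']

section main

variable {Γ K : Type} [Group Γ] [Finite Γ] [Group K] [Finite K] {N : Subgroup Γ} [hN : N.Normal] {π : N →* K} {act : Γ →* MulAut K}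
  (O : OvA N π act)
include O

theorem act_n (n : N) : act n = MulAut.conj (π n) := MulEquiv.ext fun k => by
  obtain ⟨x, rfl⟩ := O.surj k
  rw [← O.act_eq n x (n * x * n⁻¹) rfl, map_mul, map_mul, map_inv, MulAut.conj_apply]

theorem n_le {f : K → ℂ} (hf : IsIrrCharacter K f) : N ≤ (FixF f).comap act := fun n hn =>
  ⟨fun _ => Iff.rfl, fun k => by rw [act_n O ⟨n, hn⟩]; exact irr_conj hf k _⟩

/-- the degrees -/
theorem deg {M : Ideal AlgInt} {b : Set (IrrCharacter K)} {Q : Subgroup K} {θ : K → ℂ} (h : Can 2 M b Q θ) :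
    Nat.card Q ≤ 4 ∨ ∀ χ ∈ b, ∀ ψ ∈ b, ((FixF (χ : K → ℂ)).comap act).index * charDegree (χ : K → ℂ) =
      ((FixF (ψ : K → ℂ)).comap act).index * charDegree (ψ : K → ℂ) := by
  have : Fact (Nat.Prime 2) := ⟨Nat.prime_two⟩
  obtain ⟨C, E, hC, hE, h1, h2⟩ := lift h.hM π O.surj
    (fun n e => mem_center_iff.2 fun g => Subtype.ext (mem_center_iff.1 (O.ker n e) g)) h.hb h.hD
  obtain ⟨B, P, hB, hP, h3, h4⟩ := KM.up_norm h.hM N hC hE
  have h5 : (P.subgroupOf N).map π = Q := by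
    rw [← inf_subgroupOf_right, h3, subgroupOf, comap_map_eq_self_of_injective N.subtype_injective, h1]
  obtain ⟨y, -, P₀, e⟩ := id hP
  refine (O.grp y P₀ P e (h5 ▸ h.comm)).symm.imp (h5 ▸ id) fun ha => ?_
  obtain ⟨η, hη⟩ := boxCAN0 Γ 2 M B P h.hM hB hP fun x hx y hy => ab_iff.2 ha y hy x hx
  have h6 : ∀ χ ∈ b, ∃ ξ ∈ B, charDegree (ξ : Γ → ℂ) = ((FixF (χ : K → ℂ)).comap act).index * charDegree (χ : K → ℂ) := fun χ hχ => by
    obtain ⟨ζ, k1, k2⟩ := h2 χ hχ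
    obtain ⟨ξ, k3, k4⟩ := h4 ζ k1
    refine ⟨ξ, k3, (KM.A.deg_cyc N O.cyc k4 _ fun g => ?_).trans (congrArg _ ?_)⟩
    · have k5 : ∀ n : N, (ζ : N → ℂ) ⟨g * n * g⁻¹, hN.conj_mem n n.2 g⟩ = (χ : K → ℂ) (act g (π n)) := fun n =>
        (congrFun k2 _).trans (congrArg _ (O.act_eq g n _ rfl))
      refine ⟨fun k6 n => (k5 n).trans ((k6.2 _).trans (congrFun k2 n).symm), fun k6 => ⟨fun _ => Iff.rfl, fun k => ?_⟩⟩
      obtain ⟨n, rfl⟩ := O.surj k
      exact (k5 n).symm.trans ((k6 n).trans (congrFun k2 n))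
    · unfold charDegree
      rw [show (ζ : N → ℂ) 1 = (χ : K → ℂ) (π 1) from congrFun k2 1, map_one]
  intro χ hχ ψ hψ
  obtain ⟨ξ, k1, k2⟩ := h6 χ hχ
  obtain ⟨ξ', k3, k4⟩ := h6 ψ hψ
  rw [← k2, ← k4]
  unfold charDegree
  rw [hη.nil (O.nil M B P η hη) (Cn.coe_mem_Fn.2 k1) (Cn.coe_mem_Fn.2 k3)]

theorem gen (T : Subgroup Γ) : ∃ t ∈ T, ∀ x ∈ T, ∃ i : ℤ, (t ^ i)⁻¹ * x ∈ N := by
  have := O.cyc
  obtain ⟨⟨_, t, ht, rfl⟩, h⟩ := IsCyclic.exists_generator (α := T.map (QuotientGroup.mk' N))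
  refine ⟨t, ht, fun x hx => ?_⟩
  obtain ⟨i, hi⟩ := h ⟨_, x, hx, rfl⟩
  exact ⟨i, QuotientGroup.eq.1 ((map_zpow (QuotientGroup.mk' N) t i).trans (congrArg Subtype.val hi))⟩

end main

end Nc

open Nc in
/-- **[NC]** -/
theorem boxNC : BoxNC := by
  intro Γ _ _ N hN S _ K _ _ σ M b Q θ H π act O
  have : Fact (Nat.Prime 2) := ⟨Nat.prime_two⟩
  refine (deg O H.can).imp id fun hd A hA => ?_
  have hb := H.can.hb
  obtain ⟨t, ht, hg⟩ := gen O ((Stab b).comap act)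
  obtain ⟨a, m, hm, e⟩ := Nat.exists_eq_pow_mul_and_not_dvd (Nat.card_pos (α := Γ)).ne' 2 (by decide)
  have h1 : (t ^ 2 ^ a) ^ m = 1 := by rw [← pow_mul, ← e, pow_card_eq_one']
  have h2 : act (t ^ 2 ^ a) ^ m = 1 := by rw [← map_pow, h1, map_one]
  have h3 : ∀ {G : Type} [Group G] {x : G}, x ^ m = 1 → ¬ 2 ∣ orderOf x := fun h e => hm (e.trans (orderOf_dvd_of_pow_eq_one h))
  refine ⟨act (t ^ 2 ^ a), pow_mem ht _, O.fixZ _, h3 h2, fun α hα => ?_, fun j k hk => ?_, ?_, ?_⟩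
  · obtain ⟨x, hx⟩ := O.nrm α _ ⟨t ^ 2 ^ a, rfl⟩
    obtain ⟨i, hi⟩ := hg x (show act x ∈ Stab b from hx ▸ mul_mem (mul_mem (hA hα) (pow_mem ht _)) (inv_mem (hA hα)))
    obtain ⟨u, v, huv⟩ : IsCoprime ((2 : ℤ) ^ a) m := by
      exact_mod_cast Nat.isCoprime_iff_coprime.2 (((Nat.Prime.coprime_iff_not_dvd Nat.prime_two).2 hm).pow_left a)
    have k1 : QuotientGroup.mk' (Inn K) (act x) = QuotientGroup.mk' (Inn K) (act t) ^ i := by
      rw [← map_zpow, ← map_zpow]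
      refine (QuotientGroup.eq.2 ?_).symm
      rw [← map_inv, ← map_mul]
      exact ⟨_, (act_n O ⟨_, hi⟩).symm⟩
    have k2 : act x ^ (m : ℤ) = 1 := by rw [hx, zpow_natCast, conj_pow, h2, mul_one, mul_inv_cancel]
    have k3 : QuotientGroup.mk' (Inn K) (act (t ^ 2 ^ a) ^ (u * i)) = QuotientGroup.mk' (Inn K) (act x) := by
      conv_rhs => rw [← zpow_one (act x), ← huv, zpow_add, mul_comm v, zpow_mul _ (m : ℤ), k2, one_zpow, mul_one, map_zpow, k1]
      rw [map_zpow, map_pow, map_pow, ← zpow_natCast, ← zpow_mul, ← zpow_mul]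
      congr 1
      push_cast
      ring
    rw [← hx, ← mul_inv_cancel_left (act (t ^ 2 ^ a) ^ (u * i)) (act x)]
    exact mul_mem_sup (zpow_mem (mem_zpowers _) _) (QuotientGroup.eq.1 k3)
  · obtain ⟨n, rfl⟩ := O.surj k
    have k1 := O.cen ((t ^ 2 ^ a) ^ j * (n : Γ)⁻¹) (by rw [map_mul, map_inv, map_pow, hk, act_n O, mul_inv_cancel])
    refine (O.act_eq _ n n ?_).symm
    have k2 := mem_center_iff.1 k1 (t ^ 2 ^ a)
    rw [← mul_assoc, ← pow_succ', mul_assoc, pow_succ, mul_assoc, mul_right_inj] at k2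
    rw [eq_mul_inv_iff_mul_eq]
    exact (Commute.inv_right_iff.1 k2).eq.symm
  · have k0 : ∀ χ ∈ b, ∃ c, ((FixF (χ : K → ℂ)).comap act).index = ((Stab b).comap act).index *
        ((FixF (χ : K → ℂ)).relIndex (zpowers (act (t ^ 2 ^ a))) * 2 ^ c) ∧
        ¬ 2 ∣ (FixF (χ : K → ℂ)).relIndex (zpowers (act (t ^ 2 ^ a))) := fun χ hχ => by
      have k1 := n_le O χ.2
      have := H666.Clif.normal_of_le N O.cyc k1
      have k2 : (FixF (χ : K → ℂ)).comap act ≤ (Stab b).comap act := comap_mono (fix_le H.can.hM hb hχ)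
      rw [← MonoidHom.map_zpowers, ← relIndex_comap, rel_ord, ← relIndex_mul_index k2, mul_comm]
      generalize (FixF (χ : K → ℂ)).comap act = T at k1 this k2 ⊢
      have k3 : T.relIndex ((Stab b).comap act) = orderOf (QuotientGroup.mk' T t) := by
        have k4 := relIndex_ker ((Stab b).comap act) (QuotientGroup.mk' T)
        rw [QuotientGroup.ker_mk'] at k4
        rw [← Nat.card_zpowers, k4]
        refine congrArg (fun U : Subgroup (Γ ⧸ T) => Nat.card U) (le_antisymm ?_ (zpowers_le.2 ⟨t, ht, rfl⟩))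
        rintro _ ⟨x, hx, rfl⟩
        obtain ⟨i, hi⟩ := hg x hx
        exact ⟨i, (map_zpow (QuotientGroup.mk' T) t i).symm.trans (QuotientGroup.eq.2 (k1 hi))⟩
      obtain ⟨c, -, hc⟩ := (Nat.dvd_prime_pow Nat.prime_two).1 (Nat.gcd_dvd_right (orderOf (QuotientGroup.mk' T t)) (2 ^ a))
      refine ⟨c, congrArg _ ?_, h3 (by rw [← map_pow, h1, map_one])⟩
      rw [k3, map_pow, orderOf_pow, ← hc, Nat.div_mul_cancel (Nat.gcd_dvd_left _ _)]
    have k1 := eq_iff_hz.2 (H.km M H.can.hM K b Q hb H.can.hD (ab_iff.1 H.can.comm))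
    have := H.can.prime
    obtain ⟨ψ, hψ⟩ := isPBlock_nonempty hb
    refine ⟨((FixF (ψ : K → ℂ)).relIndex (zpowers (act (t ^ 2 ^ a))) : ℂ) * (ψ : K → ℂ) 1, ?_⟩
    rintro _ ⟨χ, hχ, rfl⟩
    obtain ⟨c, k2, k3⟩ := k0 χ hχ
    obtain ⟨c', k4, k5⟩ := k0 ψ hψ
    have k6 := hd χ hχ ψ hψ
    rw [k2, k4, mul_assoc, mul_assoc _ (_ * _)] at k6
    have k7 := num k3 k5 (charDegree_pos χ.2).ne' (charDegree_pos ψ.2).ne' (le_antisymm (k1 χ hχ ψ hψ) (k1 ψ hψ χ hχ))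
      (Nat.eq_of_mul_eq_mul_left (Nat.pos_of_ne_zero index_ne_zero_of_finite) k6)
    rw [irr_one_eq_charDegree χ.2, irr_one_eq_charDegree ψ.2]
    exact_mod_cast k7
  · obtain ⟨j, hj⟩ := IsPGroup.iff_card.1 H.can.pg
    rw [hj]
    refine O.bnd _ j ?_ ?_ ?_
    · have k4 := fun U => relIndex_ker U (QuotientGroup.mk' (Inn K))
      rw [QuotientGroup.ker_mk'] at k4
      rw [k4, k4]
      exact card_dvd_of_le (map_mono (zpowers_le.2 ⟨_, rfl⟩))
    · rw [rel_ord]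
      exact h3 (by rw [← map_pow, h2, map_one])
    · refine (((Nat.Prime.coprime_iff_not_dvd Nat.prime_two).2 H.zp).pow_left j).dvd_of_dvd_mul_left ?_
      rw [card_mul_index, ← hj]
      exact card_subgroup_dvd_card Q

end Cfsg.Agent.BH.R2
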