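import Cfsg.Agent.BH.Row2L.Defs
import Cfsg.Agent.BH.RowE.OutL
import Cfsg.Agent.BH.V4.Delta

/-!
# BH (S4524), the prime `2`: the boxes `BoxNS`, `BoxD4o` (helper94)
-/

set_option autoImplicit false
set_option linter.unusedSectionVars false

namespace Cfsg.Agent.BH.R2

open Cfsg Cfsg.Lie Subgroup Cfsg.Agent.TO Cfsg.Agent.BH.RO Cfsg.Agent.BH.RowE
open scoped commutatorElement

namespace Ns

section ns

variable {S T : Type} [Group S] [Group T]

theorem of_equiv {l : ℕ} (e : S ≃* T) (h : NS T l) : NS S l := fun α β hα hβ => by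
  have k : ∀ γ : MulAut S, PElt l γ → PElt l (MulAut.congr e γ) := fun γ ⟨j, hj⟩ => ⟨j, by rw [MulEquiv.orderOf_eq, hj]⟩
  obtain ⟨j, t, ht⟩ := h _ _ (k α hα) (k β hβ)
  refine ⟨j, e.symm t, (MulAut.congr e).injective ?_⟩
  rw [map_pow, map_mul, ← ht]
  ext x
  simp

/-- the derived group of `Out S` is a `2`-group -/
theorem ns_of [Finite S] (h : ∀ x ∈ commutator (Out S), x ^ 4 = 1) : NS S 2 := fun α β hα hβ => by
  obtain ⟨i, hi⟩ := pElt_iff.1 hα
  obtain ⟨j, hj⟩ := pElt_iff.1 hβ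
  refine ⟨i + j + 2, (QuotientGroup.eq_one_iff _).1 ?_⟩
  rw [QuotientGroup.mk_pow, pow_add, pow_mul]
  refine h _ ?_
  rw [← Abelianization.ker_of, MonoidHom.mem_ker, map_pow, QuotientGroup.mk_mul, map_mul, mul_pow, pow_add, pow_mul,
    ← map_pow, ← QuotientGroup.mk_pow, hi, mul_comm (2 ^ i), pow_mul, ← map_pow _ (β : Out S), ← QuotientGroup.mk_pow, hj]
  simp

theorem ns_prod [Finite S] {D C : Type} [Group D] [CommGroup C] (e : Out S ≃* D × C) (hD : ∀ d : D, d ^ 4 = 1) : NS S 2 :=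
  ns_of fun x hx => e.injective (by
    have h : (e x).2 = 1 := Abelianization.commutator_subset_ker ((MonoidHom.snd D C).comp e.toMonoidHom) hx
    rw [map_pow, map_one]
    exact Prod.ext (hD _) (by rw [Prod.pow_snd, h, one_pow, Prod.snd_one]))

theorem ns_comm [Finite S] {C : Type} [CommGroup C] (e : Out S ≃* C) : NS S 2 :=
  ns_of fun x hx => e.injective (by
    have h : e x = 1 := Abelianization.commutator_subset_ker e.toMonoidHom hx
    rw [map_pow, map_one, h, one_pow])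

theorem dih (d : DihedralGroup 4) : d ^ 4 = 1 := by
  revert d
  decide

theorem ns_chev [Finite S] {D : ChevalleyDatum} (hD' : D ∈ [chevG2, chevB2, chevF4, chevE6, chevE7, chevE8])
    {F : Type} [Field F] [Fintype F] (e : S ≃* D.group F) {d : ℕ} (hd : d ≤ 2)
    (h : d * Nat.card (D.diagonalSubgroup F) = (Fintype.card F - 1) ^ D.rank) : NS S 2 := by
  have hD : ChevalleyStructure.Elts.InList D := by
    simp only [List.mem_cons, List.not_mem_nil, or_false] at hD'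
    rcases hD' with rfl | rfl | rfl | rfl | rfl | rfl <;> simp [ChevalleyStructure.Elts.InList]
  have := Finite.of_equiv S e.toEquiv
  have h5 := (card_le_of_le (H493.NCRow.commutator_le_DB hD hD' F)).trans
    ((H442.OutCyc.card_DB_le hD F (d := d) (by rwa [Nat.card_eq_fintype_card (α := F)])).trans hd)
  refine of_equiv e (ns_of fun x hx => orderOf_dvd_iff_pow_eq_one.1 ?_)
  have h1 := (Subgroup.orderOf_le_card _ (Set.toFinite _) hx).trans h5
  have h2 := orderOf_pos x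
  interval_cases orderOf x <;> decide

end ns

section d4

/-- the four-group -/
def V4 : Subgroup (Equiv.Perm (Fin 4)) where
  carrier := {x | x * x = 1 ∧ Equiv.Perm.sign x = 1}
  one_mem' := by decide
  mul_mem' := by
    show ∀ {a b : Equiv.Perm (Fin 4)}, a * a = 1 ∧ Equiv.Perm.sign a = 1 → b * b = 1 ∧ Equiv.Perm.sign b = 1 →
      a * b * (a * b) = 1 ∧ Equiv.Perm.sign (a * b) = 1
    decide +kernel
  inv_mem' := by
    show ∀ {a : Equiv.Perm (Fin 4)}, a * a = 1 ∧ Equiv.Perm.sign a = 1 → a⁻¹ * a⁻¹ = 1 ∧ Equiv.Perm.sign a⁻¹ = 1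
    decide +kernel

theorem v4_conj : ∀ a b : Equiv.Perm (Fin 4), b * b = 1 ∧ Equiv.Perm.sign b = 1 →
    a * b * a⁻¹ * (a * b * a⁻¹) = 1 ∧ Equiv.Perm.sign (a * b * a⁻¹) = 1 := by decide +kernel

theorem v4_comm : ∀ a b : Equiv.Perm (Fin 4), a * a = 1 ∧ Equiv.Perm.sign a = 1 → b * b = 1 ∧ Equiv.Perm.sign b = 1 →
    a * b = b * a := by decide +kernel

theorem a4_comm : ∀ a b : Equiv.Perm (Fin 4), Equiv.Perm.sign a = 1 → Equiv.Perm.sign b = 1 →
    (a * b * a⁻¹ * b⁻¹ * (a * b * a⁻¹ * b⁻¹) = 1 ∧ Equiv.Perm.sign (a * b * a⁻¹ * b⁻¹) = 1) ∧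
    (a * (a * b * a⁻¹ * b⁻¹) = a * b * a⁻¹ * b⁻¹ * a → b * (a * b * a⁻¹ * b⁻¹) = a * b * a⁻¹ * b⁻¹ * b → a * b = b * a) := by
  decide +kernel

variable {K S : Type} [Group K] [Finite K] [Group S] {σ : K →* S}

/-- the outer automorphisms of a cover -/
theorem exists_psi (qs : IsQuasisimple K) (surj : Function.Surjective σ) (ker : σ.ker = center K) :
    ∃ ψ : MulAut K →* Out S, ψ.ker = Inn K := by
  have hz : ∀ α : MulAut K, ∀ g ∈ σ.ker, α g ∈ σ.ker := fun α g hg => by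
    rw [ker] at hg ⊢
    exact characteristic_iff_le_comap.1 inferInstance α hg
  choose φ hφ using fun α : MulAut K => TO.exists_ind surj (hz α) (hz α⁻¹)
  let Φ : MulAut K →* MulAut S := MonoidHom.mk' φ fun α β => MulEquiv.ext fun x => by
    obtain ⟨g, rfl⟩ := surj x
    rw [← hφ, MulAut.mul_apply, MulAut.mul_apply, ← hφ, ← hφ]
  refine ⟨(QuotientGroup.mk' (Inn S)).comp Φ, ?_⟩
  ext α
  rw [MonoidHom.mem_ker, MonoidHom.comp_apply, QuotientGroup.mk'_apply, QuotientGroup.eq_one_iff]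
  constructor
  · rintro ⟨x, hx⟩
    obtain ⟨s, rfl⟩ := surj x
    refine ⟨s, (Cfsg.Agent.R2.RkInt.eq_of_perfect qs.1 _ _ fun g => ?_).symm⟩
    rw [← ker, MonoidHom.mem_ker, map_mul, map_inv, hφ α, inv_mul_eq_one, show φ α = _ from hx.symm]
    simp
  · rintro ⟨s, rfl⟩
    refine ⟨σ s, MulEquiv.ext fun x => ?_⟩
    obtain ⟨g, rfl⟩ := surj x
    exact Eq.trans (by simp) (hφ _ g)

/-- the derived group of `A / Inn K` is abelian of order prime to nine -/
theorem dl_of (qs : IsQuasisimple K) {O : Type} [Group O] [Finite O] (ψ : MulAut K →* O) (hk : ψ.ker = Inn K)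
    {A : Subgroup (MulAut K)} (h1 : ∀ x ∈ ⁅A, A⁆.map ψ, ∀ y ∈ ⁅A, A⁆.map ψ, x * y = y * x)
    (h9 : ¬ 9 ∣ Nat.card (⁅A, A⁆.map ψ)) : DL A := fun a ha => by
  obtain ⟨d, h2, h3⟩ : ∃ d : O, d ^ 3 ^ 1 = 1 ∧ ¬ 3 ∣ (zpowers d).relIndex (⁅A, A⁆.map ψ) := by
    by_cases h : 3 ∣ Nat.card (⁅A, A⁆.map ψ)
    · have : Fact (Nat.Prime 3) := ⟨Nat.prime_three⟩
      obtain ⟨d, hd⟩ := exists_prime_orderOf_dvd_card' 3 h
      rw [← orderOf_coe] at hd
      refine ⟨d, by rw [pow_one, ← hd, pow_orderOf_eq_one], fun k => h9 ?_⟩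
      rw [← ((zpowers (d : O)).subgroupOf (⁅A, A⁆.map ψ)).card_mul_index,
        Nat.card_congr (subgroupOfEquivOfLe (zpowers_le.2 d.2)).toEquiv, Nat.card_zpowers, hd]
      exact Nat.mul_dvd_mul_left 3 k
    · exact ⟨1, one_pow _, by rwa [zpowers_one_eq_bot, relIndex_bot_left]⟩
  obtain ⟨δ, hδ, ⟨j, hj⟩, h5, h6⟩ := V4.delta_abs ψ h1 h2 h3 (C := ⁅A, A⁆) le_rfl
  have h7 : ∀ γ ∈ ⁅A, A⁆, (∃ j : ℕ, γ ^ 3 ^ j = 1) → γ ∈ zpowers δ ⊔ Inn K := fun γ h h' => by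
    rw [← hk, ← comap_map_eq, MonoidHom.map_zpowers]
    exact h6 γ h h'
  refine ⟨δ, commutator_le_self A hδ, ⟨j, hj⟩, fun α hα => h7 _ ?_ ⟨j, by rw [conj_pow, ← hj, pow_orderOf_eq_one]; group⟩,
    fun γ hγ => ?_, ?_⟩
  · rw [← map_subtype_commutator] at hδ ⊢
    obtain ⟨x, hx, rfl⟩ := hδ
    exact ⟨_, (inferInstance : (commutator A).Normal).conj_mem x hx ⟨α, hα⟩, rfl⟩
  · obtain ⟨i, m, hm, hi⟩ := Nat.exists_eq_pow_mul_and_not_dvd (orderOf_pos γ).ne' 3 (by norm_num)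
    exact ⟨m, hm, h7 _ (pow_mem hγ m) ⟨i, by rw [← pow_mul, mul_comm, ← hi, pow_orderOf_eq_one]⟩⟩
  · rw [← hk, relIndex_ker, MonoidHom.map_zpowers, Nat.card_zpowers]
    obtain ⟨t, ht⟩ := ha
    have h0 : t ≠ 0 := by
      rintro rfl
      exact index_ne_zero_of_finite ht
    have h8 : 3 < t := by
      by_contra h8
      have := qs.1
      have := qs.2
      refine Group.IsPerfect.not_isSolvable (K ⧸ center K) ?_
      have h4 : Nat.card (K ⧸ center K) = 2 ^ a * t := ht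
      obtain rfl | rfl | rfl : t = 1 ∨ t = 2 ∨ t = 3 := by omega
      · exact S0144.result 2 3 a 0 Nat.prime_two Nat.prime_three h4
      · exact S0144.result 2 3 (a + 1) 0 Nat.prime_two Nat.prime_three (by rw [h4]; ring)
      · exact S0144.result 2 3 a 1 Nat.prime_two Nat.prime_three h4
    rw [ht, mul_comm]
    exact Nat.mul_lt_mul_of_pos_left ((Nat.le_of_dvd (by norm_num) h5).trans_lt h8) (by positivity)

/-- **`Out S = S₄ × C`** -/
theorem dl_s4 (qs : IsQuasisimple K) {C : Type} [CommGroup C] [Finite C] (ψ : MulAut K →* Equiv.Perm (Fin 4) × C)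
    (hk : ψ.ker = Inn K) {A A₀ : Subgroup (MulAut K)} (hI : Inn K ≤ A₀) (hA : A₀ ≤ A)
    (hn : (A₀.subgroupOf A).Normal)
    (hi : A₀.relIndex A = 2) (hC : CT 2 A A₀) : DL A := by
  have h0 : ⁅A, A⁆ ≤ A₀ := by
    refine commutator_le.2 fun a ha b hb => ?_
    show (⟨a, ha⟩ * ⟨b, hb⟩ * (⟨a, ha⟩ : A)⁻¹ * (⟨b, hb⟩ : A)⁻¹ : A) ∈ A₀.subgroupOf A
    simp only [mul_mem_iff_of_index_two hi, inv_mem_iff]
    tauto
  have h1 : ∀ γ ∈ ⁅A, A⁆, Equiv.Perm.sign (ψ γ).1 = 1 ∧ (ψ γ).2 = 1 := fun γ hγ =>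
    ⟨by simpa using (Abelianization.commutator_subset_ker (Equiv.Perm.sign.comp ((MonoidHom.fst _ _).comp ψ))
      (commutator_mono le_top le_top hγ)),
     Abelianization.commutator_subset_ker ((MonoidHom.snd _ _).comp ψ) (commutator_mono le_top le_top hγ)⟩
  have h2 := hC (A₀ ⊓ (V4.prod ⊥).comap ψ) (le_inf hI (hk ▸ ker_le_comap ψ _)) inf_le_left
    (fun α hα β hβ => ⟨?_, ?_⟩) (commutator_le.2 fun α hα β hβ => ?_) fun β hβ => ⟨1, ?_⟩
  · refine dl_of qs ψ hk ?_ fun h => ?_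
    · rintro _ ⟨x, hx, rfl⟩ _ ⟨y, hy, rfl⟩
      obtain ⟨k1, k2⟩ := a4_comm _ _ (h1 x hx).1 (h1 y hy).1
      have h3 : ⁅x, y⁆ ∈ ⁅A, A⁆ := commutator_mem_commutator (commutator_le_self A hx) (commutator_le_self A hy)
      have h4 : (ψ ⁅x, y⁆).1 = (ψ x).1 * (ψ y).1 * (ψ x).1⁻¹ * (ψ y).1⁻¹ := by
        rw [map_commutatorElement]
        rfl
      have h5 : ∀ z ∈ A, (ψ z).1 * (ψ ⁅x, y⁆).1 = (ψ ⁅x, y⁆).1 * (ψ z).1 := fun z hz => by
        have h6 := h2 (commutator_mem_commutator hz (show ⁅x, y⁆ ∈ A₀ ⊓ (V4.prod ⊥).comap ψ from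
          ⟨h0 h3, h4.symm ▸ k1, (h1 _ h3).2⟩))
        rw [← hk, MonoidHom.mem_ker, map_commutatorElement, commutatorElement_eq_one_iff_mul_comm] at h6
        exact congrArg Prod.fst h6
      rw [h4] at h5
      exact Prod.ext (k2 (h5 x (commutator_le_self A hx)) (h5 y (commutator_le_self A hy))) (mul_comm _ _)
    · have h3 : Nat.card (⁅A, A⁆.map ψ) ∣ Nat.card (Equiv.Perm (Fin 4)) :=
        card_dvd_of_injective ((MonoidHom.fst _ _).comp (⁅A, A⁆.map ψ).subtype) ((injective_iff_map_eq_one _).2 (by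
          rintro ⟨_, x, hx, rfl⟩ h
          exact Subtype.ext (Prod.ext h (h1 x hx).2)))
      rw [Nat.card_eq_fintype_card (α := Equiv.Perm (Fin 4)), Fintype.card_perm, Fintype.card_fin] at h3
      exact absurd (h.trans h3) (by decide)
  · exact hn.conj_mem ⟨β, hA hβ.1⟩ hβ.1 ⟨α, hα⟩
  · show ψ (α * β * α⁻¹) ∈ V4.prod ⊥
    rw [map_mul, map_mul, map_inv]
    exact ⟨v4_conj _ _ hβ.2.1, by
      show (ψ α).2 * (ψ β).2 * (ψ α).2⁻¹ ∈ (⊥ : Subgroup C)
      rw [mul_inv_cancel_comm]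
      exact hβ.2.2⟩
  · rw [← hk, MonoidHom.mem_ker, map_commutatorElement, commutatorElement_eq_one_iff_mul_comm]
    exact Prod.ext (v4_comm _ _ hα.2.1 hβ.2.1) (mul_comm _ _)
  · rw [← hk, MonoidHom.mem_ker, map_pow, pow_one, sq]
    exact Prod.ext hβ.2.1.1 (by rw [Prod.snd_mul, mem_bot.1 hβ.2.2, one_mul, Prod.snd_one])

end d4

end Ns

open Ns

/-- **[NS]** -/
theorem boxNS : BoxNS where
  psp S _ _ _ _ := by
    rintro ⟨F, _, _, m, h2, hm, -, ⟨e⟩⟩
    have := Finite.of_equiv S e.toEquiv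
    refine of_equiv e (ns_of fun x hx => ?_)
    have h : commutator (Out (PSp m F)) ≤ ⊥ := commutator_le.2 fun a _ b _ => by
      obtain ⟨a, rfl⟩ := QuotientGroup.mk_surjective a
      obtain ⟨b, rfl⟩ := QuotientGroup.mk_surjective b
      exact (QuotientGroup.eq_one_iff (N := Inn (PSp m F)) _).2 (H458.B3Sp.comm_mem hm (by exact_mod_cast h2) a b)
    rw [mem_bot.1 (h hx), one_pow]
  oodd S _ _ _ _ := by
    rintro ⟨F, _, _, m, h2, hm, -, ⟨e⟩⟩
    have := Finite.of_equiv S e.toEquiv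
    obtain ⟨r, f, hr, _, hf, hF⟩ := exists_pf F
    exact of_equiv e (ns_comm (S2604.result hf hF (ne_two h2) hm).some)
  oplus F _ _ m h2 hm := by
    obtain ⟨r, f, hr, _, hf, hF⟩ := exists_pf F
    have h := S2608.result (m := m) hf hF (ne_two (F := F) (by exact_mod_cast h2)) (by omega)
    rw [if_neg (by omega)] at h
    split_ifs at h
    exacts [ns_comm h.some, ns_prod h.some dih]
  ominus S _ _ _ _ := by
    rintro ⟨F, _, _, m, a, b, h2, hm, hab, ⟨e⟩⟩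
    have := Finite.of_equiv S e.toEquiv
    obtain ⟨r, f, hr, _, hf, hF⟩ := exists_pf F
    have h := S2606.result hf hF (ne_two h2) hm a b hab
    split_ifs at h
    exacts [of_equiv e (ns_prod h.some dih), of_equiv e (ns_comm h.some)]
  f4 S _ _ _ _ := by
    rintro ⟨F, _, _, -, ⟨e⟩⟩
    exact ns_chev (by simp) e (d := 1) (by omega) (S1035.result rfl (chevF4, 1) (by simp))
  e7 S _ _ _ _ := by
    rintro ⟨F, _, _, -, ⟨e⟩⟩
    exact ns_chev (by simp) e (Nat.gcd_le_left (m := 2) (Fintype.card F - 1) two_pos) (S1035.result rfl (chevE7, _) (by simp))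
  e8 S _ _ _ _ := by
    rintro ⟨F, _, _, -, ⟨e⟩⟩
    exact ns_chev (by simp) e (d := 1) (by omega) (S1035.result rfl (chevE8, 1) (by simp))

/-- **[D4o]** -/
theorem boxD4o : BoxD4o := fun F _ _ h2 K _ _ σ M b Q θ H A A₀ hA hC => by
  obtain ⟨r, f, hr, _, hf, hF⟩ := exists_pf F
  have h := S2608.result (m := 4) hf hF (ne_two (F := F) (by exact_mod_cast h2)) le_rfl
  rw [if_pos rfl] at h
  obtain ⟨e⟩ := h
  obtain ⟨ψ, hk⟩ := exists_psi H.qs H.surj H.ker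
  have : NeZero f := ⟨by omega⟩
  exact dl_s4 H.qs (e.toMonoidHom.comp ψ) (by rw [MonoidHom.ker_comp_of_injective _ _ e.injective, hk]) hA.inn hA.le
    hA.normal hA.index hC

end Cfsg.Agent.BH.R2
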