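import Cfsg.Agent.BH.Row2L.Defs
import Cfsg.Agent.KM.Two.Main
import Cfsg.Agent.LieClassical.GUOrder

/-!
# BH (S4524), the prime `2` : the box `BoxNil` (helper22)
-/

set_option autoImplicit false
set_option linter.unusedSectionVars false

namespace Cfsg.Agent.BH.R2

open Subgroup Cfsg Cfsg.Agent.TO Cfsg.Agent.KM.Two Matrix

namespace NilP

section ring

variable {R : Type} [Ring R] [StarRing R] [Finite R]

theorem core {J E : Subgroup (unitary R)} {ν : unitary R →* ℤˣ × ℤˣ} {K : ℕ} {η : unitary R → ℂ} (h : SA ν J E K η)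
    (hν : ∀ g, ν g = 1) {t : unitary R} (ht : t ∈ J) (hg : Ga ν E η t) {r : unitary R} (hr : r ∈ E) : t * r * t⁻¹ = r := by
  refine Subtype.ext (sub_eq_zero.1 (h.zero_of_atoms fun e he => ?_))
  have h1 : KM.Two.cj t e = e := by
    by_contra h1
    have h0 := h.orth he (he.cj hg.nz) (Ne.symm h1)
    obtain ⟨s, hs⟩ := exists_sw he.pj rfl h0
    exact h1 ((hs.cj_e he.pj rfl).symm.trans (h.key (h.sw_ga hg he.bc he.pj rfl h0 hs) (hν s) hs.four he.bc))
  rw [sub_mul, ← cj_coe, h.fixed ht hg he h1 hr, sub_self]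

/-- the full unitary group of a finite ring with involution -/
theorem nil_of_fm {Y : Type} [Group Y] [Finite Y] (f : Fm R Y) (hν : ∀ g, f.ν g = 1) : Nil Y := by
  intro M b D θ h
  obtain ⟨K, hS⟩ := exists_st f (π := MonoidHom.id Y) Function.surjective_id
    (fun y hy => .inl (by rw [show y = 1 from hy, map_one]; rfl)) h
  rw [comap_id] at hS
  have h1 : ∀ y, (f.j y : R) ∈ Cm (D.map f.j) ↔ y ∈ Ce D := fun y => mem_Cm.trans
    ⟨fun hy d hd => f.inj (Subtype.ext (by rw [map_mul, map_mul]; exact hy _ (mem_map_of_mem _ hd))), fun hy => by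
      rintro _ ⟨d, hd, rfl⟩
      have h1 := congrArg (fun x => (f.j x : R)) (hy d hd)
      simp only [map_mul] at h1
      exact h1⟩
  have h2 : ∀ y, y ∈ normalizer (D : Set Y) ↔ ∀ d ∈ D.map f.j, f.j y * d * (f.j y)⁻¹ ∈ D.map f.j := fun y =>
    ⟨fun hy => by
      rintro _ ⟨d, hd, rfl⟩
      rw [← map_inv, ← map_mul, ← map_mul]
      exact mem_map_of_mem _ ((mem_normalizer_iff.1 hy d).1 hd), fun hy => mem_normalizer_fintype fun d hd => by
      have h2 := hy _ (mem_map_of_mem _ hd)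
      rwa [← map_inv, ← map_mul, ← map_mul, mem_map_iff_mem f.inj] at h2⟩
  have h3 : ∀ y ∈ normalizer (D : Set Y), Nz (D.map f.j) (f.j y) := fun y hy _ => cj_mem_Bc ((h2 y).1 hy)
  obtain ⟨η, e1, e2, e3, e4⟩ := exists_eta h (N := (NN f.ν (D.map f.j)).comap f.j) (fun y hy => (h1 y).1 hy.1)
    (fun y hy n hn => by
      rw [mem_comap, map_mul, map_mul, map_inv]
      exact (h3 y hy).nn hn) fun u hu _ => ⟨(h1 u).2 hu, fun e _ _ => hν _⟩
  have e5 : ∀ y, Function.extend f.j η 0 (f.j y) = η y := f.inj.extend_apply η 0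
  have h4 : ∀ n ∈ NN f.ν (D.map f.j), ∃ y, f.j y = n := fun n _ => f.ker n (hν n)
  have hA : SA f.ν f.j.range (D.map f.j) K (Function.extend f.j η 0) := by
    refine ⟨hS, ?_, by rwa [← map_one f.j, e5], fun a ha c hc h5 => ?_, ?_⟩
    · rintro _ ⟨d, hd, rfl⟩
      exact (h1 d).2 (h.ab hd)
    · obtain ⟨a, rfl⟩ := h4 a ha
      obtain ⟨c, rfl⟩ := h4 c hc
      rw [← map_mul, ← map_one f.j, e5, e5, e5, e5]
      refine e2 a ha c hc fun y hy => ?_
      obtain ⟨z, hz, e⟩ := h5 _ hy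
      obtain ⟨z, rfl⟩ := h4 z hz
      exact ⟨z, hz, f.inj (by simpa only [map_mul, map_inv] using e)⟩
    · rintro _ ⟨y, rfl⟩ h5 h6
      obtain ⟨n, hn, h7⟩ := exists_pow_Ce h (e4 y ((h2 y).2 h5) fun n hn => by
        rw [← e5, ← e5 n, map_mul, map_mul, map_inv]
        exact h6 _ hn)
      exact ⟨n, hn, by rw [← map_pow]; exact (h1 _).2 h7⟩
  intro t ht r hr
  obtain ⟨c, hc, h5⟩ := e3 t ht
  have h6 := core hA hν (t := f.j (t * c)) ⟨_, rfl⟩
    ⟨h3 _ (mul_mem (In_le_norm ht) (centralizer_le_normalizer _ hc)), fun n hn => by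
      obtain ⟨n, rfl⟩ := h4 n hn
      rw [← map_inv, ← map_mul, ← map_mul, e5, e5]
      exact h5 n hn⟩ (mem_map_of_mem f.j hr)
  rw [← map_inv, ← map_mul, ← map_mul] at h6
  have h7 : t * r * t⁻¹ = r :=
    calc t * r * t⁻¹ = t * (r * c) * (t * c)⁻¹ := by group
      _ = r := by rw [hc r hr, ← mul_assoc, f.inj h6]
  exact (mul_inv_eq_iff_eq_mul.1 h7).symm

theorem nil_of_bij {Y : Type} [Group Y] [Finite Y] (two : IsUnit (2 : R)) (j : Y →* unitary R) (hj : Function.Bijective j) :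
    Nil Y :=
  nil_of_fm (R := R) ⟨j, hj.1, two, 1, fun g _ => hj.2 g, fun _ _ => rfl⟩ fun _ => rfl

end ring

variable {F : Type} [Field F] {n : ℕ}

theorem two_unit (h2 : (2 : F) ≠ 0) : IsUnit (2 : Matrix (Fin n) (Fin n) F) := by
  have := (IsUnit.mk0 _ h2).map (algebraMap F (Matrix (Fin n) (Fin n) F))
  rwa [map_ofNat] at this

/-- the exchange involution -/
@[reducible] def swS (F : Type) [Field F] (n : ℕ) : StarRing (Matrix (Fin n) (Fin n) F × Matrix (Fin n) (Fin n) F) where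
  star A := (A.2ᵀ, A.1ᵀ)
  star_involutive _ := rfl
  star_mul A B := Prod.ext (transpose_mul A.2 B.2) (transpose_mul A.1 B.1)
  star_add _ _ := rfl

theorem gl [Fintype F] (h2 : (2 : F) ≠ 0) : Nil (GL (Fin n) F) := by
  let _ := swS F n
  have hst : ∀ A : Matrix (Fin n) (Fin n) F × Matrix (Fin n) (Fin n) F, star A = (A.2ᵀ, A.1ᵀ) := fun _ => rfl
  have hm : ∀ g : GL (Fin n) F, (g.1, (g⁻¹).1ᵀ) ∈ unitary (Matrix (Fin n) (Fin n) F × Matrix (Fin n) (Fin n) F) := fun g => by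
    rw [Unitary.mem_iff, hst, transpose_transpose, Prod.mk_mul_mk, Prod.mk_mul_mk, ← transpose_mul, ← transpose_mul,
      Units.inv_mul, Units.mul_inv, transpose_one]
    exact ⟨rfl, rfl⟩
  refine nil_of_bij (R := Matrix (Fin n) (Fin n) F × Matrix (Fin n) (Fin n) F)
    (Prod.isUnit_iff.2 ⟨two_unit h2, two_unit h2⟩)
    ⟨⟨fun g => ⟨_, hm g⟩, Subtype.ext (Prod.ext rfl transpose_one)⟩, fun a b => Subtype.ext (Prod.ext rfl ?_)⟩
    ⟨fun a b h => Units.ext (congrArg (fun x => x.1.1) h), fun g => ?_⟩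
  · change ((a * b)⁻¹).1ᵀ = (a⁻¹).1ᵀ * (b⁻¹).1ᵀ
    rw [_root_.mul_inv_rev, Units.val_mul, transpose_mul]
  · exact ⟨⟨g.1.1, g.1.2ᵀ, congrArg Prod.fst g.2.2, congrArg Prod.fst g.2.1⟩, rfl⟩

open Cfsg.Agent.LieClassical.GUOrder in
theorem gu [Fintype F] {q : ℕ} (h2 : (2 : F) ≠ 0) (hF : Fintype.card F = q ^ 2) : Nil (GU n F q) := by
  let _ : StarRing F :=
    { star := frob hF
      star_involutive := frob_frob hF
      star_mul := fun a b => (map_mul _ _ _).trans (mul_comm _ _)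
      star_add := map_add _ }
  have hu : ∀ g : Matrix (Fin n) (Fin n) F, g ∈ unitary (Matrix (Fin n) (Fin n) F) ↔ gᵀ * g.map (frob hF) = 1 := fun g => by
    rw [Unitary.mem_iff, mul_eq_one_comm (a := g), and_self, ← transpose_inj, transpose_mul, transpose_one]
    rfl
  refine nil_of_bij (R := Matrix (Fin n) (Fin n) F) (two_unit h2)
    (((Units.coeHom _).comp (GU n F q).subtype).codRestrict _ fun g => (hu _).2 ((mul_map_eq_one_iff hF _).1 g.2))
    ⟨fun a b h => Subtype.ext (Units.ext (congrArg Subtype.val h)), fun g => ?_⟩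
  exact ⟨⟨Unitary.toUnits g, (mul_map_eq_one_iff hF _).2 ((hu _).1 g.2)⟩, rfl⟩

end NilP

/-- [NIL] -/
theorem boxNil : BoxNil :=
  ⟨fun _ _ _ _ h2 => NilP.gl h2, fun _ _ _ _ _ h2 hF => NilP.gu h2 hF⟩

end Cfsg.Agent.BH.R2
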