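import Cfsg.Agent.BH.Row2L.NotB

/-!
# BH, Row2L: `boxNot` (helper90)
-/

set_option autoImplicit false
set_option linter.unusedSectionVars false

namespace Cfsg.Agent.BH.R2

open Cfsg Matrix Cfsg.Agent.TO Cfsg.Agent.TO.LU Cfsg.Agent.BHZ.Nil Cfsg.Agent.ClassicalGeometry

namespace Nt

variable {F : Type} [Field F] [Fintype F] {n q : ℕ}

open AutPSL.Root AutPSL.Auto H199.PslAut in
theorem s2L (h2 : (2 : F) ≠ 0) (hn : 2 ≤ n) :
    S2 (SpecialLinearGroup.toGL : SpecialLinearGroup (Fin n) F →* (Mt n F)ˣ) pr ⊤ ⊤ :=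
  have S := sysL (p := 2) (F := F) (by exact_mod_cast h2) hn
  { n0 := S.n0, two := h2, inj := S.inj, surj := S.surj, mem := S.mem, ex := S.ex, ker := S.ker, cut := S.cut
    scal := fun _ => Iff.rfl
    neg := trivial
    lin := ⟨_, KM.A.lin_top h2 _⟩
    det1 := fun g => Units.ext g.2
    aut := fun α => by
      rcases exists_form hn α with ⟨g, σ, rfl⟩ | ⟨-, g, σ, rfl⟩
      · exact ⟨AutPSL.Auto.cj g * fld σ, fun x => by simp only [MulAut.mul_apply, phi_pr, Psi_pr],
          ind_of g σ fun _ => rfl⟩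
      · exact ⟨AutPSL.Auto.cj g * fld σ * itr, fun x => by simp only [MulAut.mul_apply, iot_pr, phi_pr, Psi_pr],
          ind_of' g σ fun _ => rfl⟩ }

theorem exists_prime (F : Type) [Field F] : ∃ p : ℕ, p.Prime ∧ p ≠ 2 ∧ (p : F) ≠ 0 := by
  by_cases h : ((3 : ℕ) : F) = 0
  · refine ⟨7, by decide, by decide, fun h' => one_ne_zero (α := F) ?_⟩
    push_cast at h h'
    linear_combination h' - 2 * h
  · exact ⟨3, by decide, by decide, h⟩

open PSUAutBasic PSUAutCount in
theorem s2U (h2 : (2 : F) ≠ 0) (hq : Fintype.card F = q ^ 2) (hn : 3 ≤ n) :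
    S2 ((SpecialLinearGroup.toGL.comp (SU n F q).subtype : SU n F q →* (Mt n F)ˣ)) (pr n F q) (GU n F q)
      (rootsOfUnity (q + 1) F) := by
  have hF : ((2 : ℕ) : F) ≠ 0 := by exact_mod_cast h2
  have ho : ¬ 2 ∣ q := fun h => hF (by
    have := Fact.mk Nat.prime_two
    exact (CharP.cast_eq_zero_iff F _ 2).2 ((prime_dvd_char_iff_dvd_card 2).2 (by rw [hq]; exact h.pow two_ne_zero) |>
      fun e => ((Nat.prime_dvd_prime_iff_eq Nat.prime_two (CharP.char_is_prime F _)).1 e).symm ▸ dvd_rfl))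
  have h32 : ¬ (n = 3 ∧ q = 2) := fun h => ho (h.2 ▸ dvd_rfl)
  obtain ⟨p, hp, p2, pF⟩ := exists_prime F
  have := Fact.mk hp
  have S := sysU pF p2 hq hn h32
  let σ : F →+* F :=
    { toFun := fun x => x ^ q
      map_one' := one_pow q
      map_mul' := fun x y => mul_pow x y q
      map_zero' := zero_pow fun h => ho (h ▸ dvd_zero 2)
      map_add' := LieClassical.HermBasic.add_pow_q hq }
  obtain ⟨n, rfl⟩ : ∃ m, n = m + 1 := ⟨n - 1, by omega⟩
  refine { n0 := S.n0, two := h2, inj := S.inj, surj := S.surj, mem := S.mem, ex := S.ex, ker := S.ker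
           scal := fun c => ⟨fun h => ?_, S.scal c⟩
           neg := (Even.neg_one_pow (Odd.add_one (Nat.odd_iff.2 (by omega))) : (-1 : Fˣ) ^ (q + 1) = 1)
           cut := cutClosed_preserving hF (biAdd_herm _ q (Nat.card_eq_fintype_card.trans hq))
           lin := ⟨_, KM.A.lin_GU h2 hq (σ := σ) (fun _ => rfl) n⟩
           det1 := fun g => Units.ext g.1.2
           aut := fun α => ?_ }
  · have h3 := h (Pi.single 0 1) (Pi.single 0 1)
    have h0 : q ≠ 0 := fun h => ho (h ▸ dvd_zero 2)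
    simp only [Units.coeHom_apply, val_sc, smul_mulVec, one_mulVec, hermForm, Pi.smul_apply, smul_eq_mul, mul_pow,
      Fin.sum_univ_succ, Pi.single_eq_same, Pi.single_eq_of_ne (Fin.succ_ne_zero _), mul_zero, zero_mul,
      Finset.sum_const_zero, add_zero, one_pow, mul_one] at h3
    exact Units.ext (by rw [Units.val_pow_eq_pow_val, pow_succ']; exact h3)
  · obtain ⟨A, ρ, rfl⟩ := PSUAutMain.exists_toAut hq hn h32 α
    exact ⟨semiConj A ρ, fun g => (toAut_pr A ρ g).symm, ind_of A.1 ρ fun _ => rfl⟩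

end Nt

/-- **[NOT]** -/
theorem boxNot : BoxNot where
  psl _ _ _ _ h2 hn _ _ _ _ H := (Nt.s2L h2 hn).not_st H
  psu _ _ _ _ _ h2 hq hn _ _ _ H := (Nt.s2U h2 hq hn).not_st H

end Cfsg.Agent.BH.R2
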