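import Cfsg.Agent.BH.Row2L.Defs
import Cfsg.Agent.BH.RowE.Easy
import Cfsg.Agent.BZ.X.O73A
import Cfsg.Agent.KM.Two.O73

/-!
# BH (S4524), the row of `Ω₇(3)` at the prime two (helper25)

An abelian local datum has order at most eight; a pure subgroup of order eight consists of involutions with a soluble
centraliser (count the orbits on the `1134` points).
-/

set_option autoImplicit false
set_option maxRecDepth 100000
set_option synthInstance.maxSize 4000

namespace Cfsg.Agent.BH.R2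

open Cfsg Subgroup Cfsg.Agent.KM.Sp Cfsg.Agent.BHZ.Spor Cfsg.Agent.MK.C3L.O Cfsg.Agent.TAB.Eng
open Cfsg.Agent.H64.O73Perm (Trip)
open Cfsg.Agent.Fischer.Y322 Cfsg.Agent.Fischer.Y322Iso
open Cfsg.Agent.MK.S7.O7 (fin8 iso_H8 index_inn)

namespace O7

variable {Q : Subgroup H8}

theorem locB (h : LocA 2 Q) : BZ.T.LocB 2 Q := ⟨h.pg, h.syl, fun U h1 _ h2 => h.core U h1 h2⟩

theorem not_rt (h : LocA 2 Q) : ¬ RegTriv 2 Q := fun hr => by
  have := fin8
  have : Fact (Nat.Prime 2) := ⟨Nat.prime_two⟩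
  have : Fact (Nat.Prime 3) := ⟨Nat.prime_three⟩
  obtain ⟨e⟩ := iso_H8 (ZMod 3) (ZMod.card 3)
  obtain ⟨P, hP⟩ := h.pg.exists_le_sylow
  refine (KM.Two.noA_o73 (ZMod.card 3)).congr e Q h ?_
  rw [le_antisymm hP ((locB h).syl_of_rt hr _ P.isPGroup' hP)]
  exact P.pow_dvd_card_of_pow_dvd_card (by rw [card_H8]; decide)

theorem card_le (h : LocA 2 Q) : Nat.card Q ≤ 8 := by
  have := fin8
  have : Fact (Nat.Prime 2) := ⟨Nat.prime_two⟩
  obtain ⟨k, hk⟩ := IsPGroup.iff_card.1 h.pg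
  have h1 : k ≤ 3 := by
    by_contra h1
    exact not_rt h (BZ.X.O7.rb Q (locB h) (hk ▸ pow_dvd_pow 2 (by omega)))
  exact hk.trans_le (Nat.pow_le_pow_right two_pos h1)

theorem not_pure (h : LocA 2 Q) (h8 : Nat.card Q = 8) (h2 : ∀ u ∈ Q, u * u = 1)
    (hc : ∀ u ∈ Q, ∀ v ∈ Q, u ≠ 1 → v ≠ 1 → IsConj u v) : False := by
  classical
  have := fin8
  have : Fact (Nat.Prime 2) := ⟨Nat.prime_two⟩
  let P : Subgroup Trip :=
    { carrier := {g | pi g ∈ Q ∧ g ^ 2 = 1}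
      one_mem' := ⟨(map_one pi).symm ▸ Q.one_mem, one_pow 2⟩
      mul_mem' := fun {a b} ha hb => ⟨(map_mul pi a b).symm ▸ Q.mul_mem ha.1 hb.1, by
        rw [Commute.mul_pow (ext_pi.good_of_pow (n := 2) (by decide) hb.2 a (h.ab _ ha.1 _ hb.1)), ha.2, hb.2, mul_one]⟩
      inv_mem' := fun {a} ha => ⟨(map_inv pi a).symm ▸ Q.inv_mem ha.1, by rw [inv_pow, ha.2, inv_one]⟩ }
  have h1 : ∀ a b : P, pi a = pi b → a = b := fun a b e =>
    Subtype.ext (ext_pi.inj_of (m := 2) (n := 2) (by decide) (by decide) a.2.2 b.2.2 e)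
  have h3 : Nat.card P = 8 := (Nat.card_congr (Equiv.ofBijective (fun g : P => (⟨pi g, g.2.1⟩ : Q))
    ⟨fun a b e => h1 a b (congrArg Subtype.val e), fun u => by
      obtain ⟨g, e1, e2⟩ := ext_pi.exists_lift (u : H8) (n := 2) (by decide) ((pow_two _).trans (h2 _ u.2))
      exact ⟨⟨g, e1.symm ▸ u.2, e2⟩, Subtype.ext e1⟩⟩)).trans h8
  have := Fintype.ofFinite P
  have := Fintype.ofFinite (MulAction.orbitRel.Quotient P (Fin 1134))
  obtain ⟨y, hy⟩ := Fintype.exists_ne_of_one_lt_card (α := P) (by rw [← Nat.card_eq_fintype_card, h3]; decide) 1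
  have h4 : ∀ a : P, a ≠ 1 → pi a ≠ 1 := fun a ha e => ha (h1 a 1 (e.trans (map_one pi).symm))
  have h5 : ∀ a ∈ Finset.univ.erase (1 : P), Fintype.card (MulAction.fixedBy (Fin 1134) a) = fx y := fun a ha => by
    obtain ⟨c, e⟩ := isConj_iff.1 (ext_pi.isConj_of (m := 2) (n := 2) (by decide) (by decide) y.2.2 a.2.2
      (hc _ y.2.1 _ a.2.1 (h4 y hy) (h4 a (Finset.ne_of_mem_erase ha))))
    rw [← fx_conj y c, e, ← Nat.card_eq_fintype_card]
    rfl
  have h6 := MulAction.sum_card_fixedBy_eq_card_orbits_mul_card_group P (Fin 1134)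
  rw [← Finset.add_sum_erase _ _ (Finset.mem_univ 1), Finset.sum_congr rfl h5, Finset.sum_const,
    Finset.card_erase_of_mem (Finset.mem_univ 1), Finset.card_univ, ← Nat.card_eq_fintype_card (α := P), h3,
    ← Nat.card_eq_fintype_card, show Nat.card (MulAction.fixedBy (Fin 1134) (1 : P)) = 1134 from fx_one.2 rfl,
    show fx y = _ from congrArg Prod.fst (td_val y), smul_eq_mul] at h6
  have h7 : dat.ord (td.ty y) = 2 := td.ord _ ▸ orderOf_eq_prime y.2.2 fun e => hy (Subtype.ext e)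
  rcases (by decide +kernel : ∀ t < 81, dat.ord t = 2 → t = 3 ∨ (val t).1 % 8 = 2) _ (td.lt _) h7 with e | e
  · exact not_rt h (h.regTriv y.2.1 (BZ.X.O7.constr e))
  · omega

end O7

/-- **the row of `Ω₇(3)`** -/
theorem boxO73 : BoxO73 := fun P F _ _ hF => by
  have := fin8
  obtain ⟨e⟩ := iso_H8 F hF
  refine Row.of_equiv e (P.row_rk (RowE.outC_of_two (dvd_of_eq index_inn)) (fun Q h => ?_) fun _ _ _ _ _ _ _ _ _ Γ h => ?_)
  · exact (Set.ncard_le_ncard (t := (Q : Set H8)) fun _ hd => hd.1).trans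
      ((Nat.card_coe_set_eq _).ge.trans (O7.card_le h))
  · have h8 := le_antisymm (O7.card_le h.loc) h.big
    exact O7.not_pure h.loc h8 h.sq fun u hu v hv h1 h2 =>
      let ⟨s, _, e⟩ := ((P.t.cor _ _ _ Γ h).2.2.2 h8).2 u hu v hv h1 h2
      isConj_iff.2 ⟨s, e⟩

end Cfsg.Agent.BH.R2
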