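import Cfsg.Agent.BH.Row2L.Defs
import Cfsg.Agent.BH.RowE.OutL
import Cfsg.Agent.KM.Two.Row
import Cfsg.Agent.KM.Two.Main

/-!
# BH (S4524), the prime `2` : the rows of the symplectic and orthogonal groups (helper46)
-/

set_option autoImplicit false
set_option linter.unusedSectionVars false

namespace Cfsg.Agent.BH.R2

open Cfsg Subgroup Matrix Cfsg.Agent.TO Cfsg.Agent.LieClassical.OmegaReindex
open Cfsg.Agent.KM.Two (Fm Idx adS sgnHom sgnHom_eq_one exists_st card_zm)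

namespace RC

/-- the alternative for a frame -/
theorem core (B : Bx) {R : Type} [Ring R] [StarRing R] [Finite R] {Y : Type} [Group Y] [Finite Y] (f : Fm R Y) {K : Type} [Group K]
    [Finite K] (π : Y →* K) (hπ : Function.Surjective π) (hU : ∀ y, π y = 1 ↔ (f.j y : R) = 1 ∨ (f.j y : R) = -1)
    {M : Ideal AlgInt} {b : Set (IrrCharacter K)} {Q : Subgroup K} {θ : K → ℂ} (h : Can 2 M b Q θ) :
    Ix Q (In Q θ) ∨ (QQ ((Q.comap π).map f.j) ∧ S9 Q (In Q θ)) := by
  by_cases h0 : Q.comap π ≤ Ce (Q.comap π)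
  swap
  · exact B.cn R Y f K π hπ hU M b Q θ h h0
  have h1 : π.ker ≤ center Y := fun y hy => mem_center_iff.2 fun g => f.inj (Subtype.ext (by
    rw [map_mul, map_mul, Submonoid.coe_mul, Submonoid.coe_mul]
    rcases (hU y).1 hy with h | h <;> simp [h]))
  have h2 : IsPGroup 2 π.ker := fun y => ⟨1, Subtype.ext (f.inj (Subtype.ext (by
    rw [pow_one, Subgroup.coe_pow, map_pow, SubmonoidClass.coe_pow, Subgroup.coe_one, map_one]
    rcases (hU y).1 y.2 with h | h <;> simp [h])))⟩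
  obtain ⟨B', θ', h3, h4⟩ := B.lift Y K π M b Q θ hπ h1 h2 h h0
  obtain ⟨V, v1, v2, v3⟩ := KM.Two.boxA R Y f M B' _ θ' h3
  have h5 : V.map π ≤ Q := map_le_iff_le_comap.2 v1
  refine .inl ⟨V.map π, h5, ?_, fun t ht r hr => ?_⟩
  · rw [← map_comap_eq_self_of_surjective hπ Q, ← relIndex_comap]
    exact (relIndex_le_of_le_left (le_comap_map _ _) index_ne_zero_of_finite).trans v2
  · have h6 : In Q θ ≤ Ce (V.map π) := h4 ▸ sup_le (by
      rintro _ ⟨s, hs, rfl⟩ _ ⟨v, hv, rfl⟩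
      rw [← map_mul, ← map_mul, mul_inv_eq_iff_eq_mul.1 (v3 s hs v hv)]) (centralizer_le h5)
    rw [← h6 ht r hr, mul_inv_cancel_right]

/-- the alternative for the isomorphic images of `S` -/
def Ak (S : Type) [Group S] (X : Prop) : Prop := ∀ (K : Type) [Group K] [Finite K] (σ : K →* S) (M : Ideal AlgInt)
  (b : Set (IrrCharacter K)) (Q : Subgroup K) (θ : K → ℂ), Function.Bijective σ → Can 2 M b Q θ →
  Ix Q (In Q θ) ∨ (X ∧ S9 Q (In Q θ))

variable {ι : Type} [Fintype ι] [DecidableEq ι] {F : Type} [Field F]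

/-- **the isometry groups of forms** -/
theorem of_form (B : Bx) [Finite F] (h2 : (2 : F) ≠ 0) {J K : Matrix ι ι F} (h : J * K = 1)
    (hs : Jᵀ = J ∨ Jᵀ = -J) {Γ : Type} [Group Γ] (i : Γ →* Matrix ι ι F) (hi : Function.Injective i)
    (hΓ : ∀ g, gᵀ * J * g = J ↔ ∃ x, i x = g) (ε : Γ →* ℤˣ) {Y : Type} [Group Y] [Finite Y] (j : Y →* Γ)
    (hj : Function.Injective j) (hk : ∀ x, (i x).det = 1 → ε x = 1 → x ∈ j.range)
    (hz : ∀ y, y ∈ center Y ↔ i (j y) = 1 ∨ i (j y) = -1) : Ak (Y ⧸ center Y) (Jᵀ = J → Fintype.card ι ≠ 8) := by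
  let _ := adS h hs
  have h1 := mul_eq_one_comm.1 h
  have hst : ∀ A : Matrix ι ι F, star A = K * Aᵀ * J := fun _ => rfl
  have hu : ∀ g : Matrix ι ι F, g ∈ unitary (Matrix ι ι F) ↔ ∃ x, i x = g := fun g => by
    rw [← hΓ, Unitary.mem_iff, mul_eq_one_comm (a := g), and_self, hst, mul_assoc, mul_assoc, ← mul_assoc gᵀ]
    exact ⟨fun h3 => by rw [← one_mul (gᵀ * J * g), ← h, mul_assoc, h3, mul_one], fun h3 => by rw [h3, h1]⟩
  have hdet : ∀ A : Matrix ι ι F, (star A).det = A.det := fun A => by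
    rw [hst, det_mul, det_mul, det_transpose, mul_right_comm, ← det_mul, h1, det_one, one_mul]
  let e : Γ ≃* unitary (Matrix ι ι F) := MulEquiv.ofBijective (i.codRestrict _ fun x => (hu _).2 ⟨x, rfl⟩)
    ⟨fun a b hab => hi (congrArg Subtype.val hab), fun g => ((hu _).1 g.2).imp fun x hx => Subtype.ext hx⟩
  have he : ∀ x, (e x : Matrix ι ι F) = i x := fun _ => rfl
  let d : unitary (Matrix ι ι F) →* F := detMonoidHom.comp (unitary (Matrix ι ι F)).subtype
  have hd : ∀ g, d g * d g = 1 := fun g => by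
    have := congrArg det (Unitary.coe_star_mul_self g)
    rwa [det_mul, hdet, det_one] at this
  let f : Fm (Matrix ι ι F) Y :=
    { j := e.toMonoidHom.comp j
      inj := e.injective.comp hj
      two := by
        have := (IsUnit.mk0 _ h2).map (algebraMap F (Matrix ι ι F))
        rwa [map_ofNat] at this
      ν := (sgnHom h2 d hd).prod (ε.comp e.symm.toMonoidHom)
      ker := fun g hg => by
        obtain ⟨x, rfl⟩ := e.surjective g
        obtain ⟨y, rfl⟩ := hk x ((sgnHom_eq_one h2 d hd _).1 (congrArg Prod.fst hg))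
          (by simpa using congrArg Prod.snd hg)
        exact ⟨y, rfl⟩
      det := fun g hg => (sgnHom_eq_one h2 d hd _).2 (by
        have h3 : star (1 + (g : Matrix ι ι F)) * g = 1 + g := by
          rw [star_add, star_one, add_mul, one_mul, Unitary.coe_star_mul_self, add_comm]
        have h4 := congrArg det h3
        rw [det_mul, hdet] at h4
        exact mul_left_cancel₀ ((isUnit_iff_isUnit_det _).1 hg).ne_zero (h4.trans (mul_one _).symm)) }
  intro L _ _ σ M b Q θ hσ hc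
  let s := (MulEquiv.ofBijective σ hσ).symm
  have h3 : Function.Surjective (s.toMonoidHom.comp (QuotientGroup.mk' _)) := s.surjective.comp (QuotientGroup.mk'_surjective _)
  have h4 : ∀ y, s.toMonoidHom.comp (QuotientGroup.mk' _) y = 1 ↔ (f.j y : Matrix ι ι F) = 1 ∨ (f.j y : Matrix ι ι F) = -1 :=
    fun y => s.map_eq_one_iff.trans ((QuotientGroup.eq_one_iff y).trans (hz y))
  refine (core B f _ h3 h4 hc).imp_right fun h5 => ⟨fun h6 h8 => ?_, h5.2⟩
  obtain ⟨n, hn⟩ := exists_st f h3 (fun y => (h4 y).1) hc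
  exact B.d4x F ι J K h8 h h6 hst _ _ _ n hn h5.1

theorem Ak.mono {S : Type} [Group S] {X X' : Prop} (h : Ak S X) (h' : X → X') : Ak S X' := fun K _ _ σ M b Q θ h1 h2 =>
  (h K σ M b Q θ h1 h2).imp_right (And.imp_left h')

/-- **the symplectic groups** -/
theorem ak_psp (B : Bx) [Finite F] (h2 : (2 : F) ≠ 0) {m : ℕ} (hm : 1 ≤ m) : Ak (PSp m F) True := by
  refine (of_form B h2 (J := J (Fin m) F) (K := -J (Fin m) F) (by rw [mul_neg, J_squared, neg_neg])
    (.inr (J_transpose _ _)) (symplecticGroup (Fin m) F).subtype Subtype.val_injective (fun g => ?_) 1 (MonoidHom.id _)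
    Function.injective_id (fun x _ _ => ⟨x, rfl⟩) (fun y => ?_)).mono fun _ => trivial
  · rw [← SymplecticGroup.mem_iff']
    exact ⟨fun h => ⟨⟨g, h⟩, rfl⟩, fun ⟨x, hx⟩ => hx ▸ x.2⟩
  · rw [LieClassical.SympCenter.mem_center_iff]
    change _ ↔ y.1 = 1 ∨ y.1 = -1
    refine ⟨fun ⟨a, ha⟩ => ?_, fun h => h.elim (fun h => ⟨1, by rw [h, one_smul]⟩) fun h => ⟨-1, by rw [h, neg_one_smul]⟩⟩
    rcases mul_self_eq_one_iff.1 (LieClassical.SympCenter.sq_eq_one_of_smul_mem hm (ha ▸ y.2)) with h | h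
    · exact .inl (by rw [ha, h, one_smul])
    · exact .inr (by rw [ha, h, neg_one_smul])

/-- **the orthogonal groups** -/
theorem ak_pomega (B : Bx) [Finite F] (h2 : (2 : F) ≠ 0) (Q : QuadraticForm F (ι → F))
    (hQ : (QuadraticMap.polarBilin Q).Nondegenerate) (h3 : 3 ≤ Fintype.card ι) : Ak (POmega F Q) (Fintype.card ι ≠ 8) := by
  set J : Matrix ι ι F := LinearMap.BilinForm.toMatrix' (QuadraticMap.polarBilin Q) with hJ
  have h1 : ∀ u v, u ⬝ᵥ J *ᵥ v = QuadraticMap.polar Q u v := fun u v => by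
    rw [← Matrix.toBilin'_apply', hJ, Matrix.toBilin'_toMatrix']
    rfl
  have h4 : ∀ A B : Matrix ι ι F, (∀ u v, u ⬝ᵥ A *ᵥ v = u ⬝ᵥ B *ᵥ v) → A = B := fun A B h => by
    ext a b
    simpa using h (Pi.single a 1) (Pi.single b 1)
  have h5 : ∀ (g : Matrix ι ι F) u v, u ⬝ᵥ (gᵀ * J * g) *ᵥ v = QuadraticMap.polar Q (g *ᵥ u) (g *ᵥ v) := fun g u v => by
    rw [← h1, ← vecMul_transpose g, ← dotProduct_mulVec, mulVec_mulVec, mulVec_mulVec]
  have h6 : IsUnit J.det := (Matrix.nondegenerate_iff_det_ne_zero.1 (LinearMap.BilinForm.Nondegenerate.toMatrix' hQ)).isUnit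
  have h0 : Jᵀ = J := h4 _ _ fun u v => by
    rw [mulVec_transpose, dotProduct_comm, ← dotProduct_mulVec, h1, h1, QuadraticMap.polar_comm]
  refine (of_form B h2 (mul_nonsing_inv J h6) (.inl h0)
    ((Units.coeHom _).comp (isometryGroup F Q).subtype) (Units.val_injective.comp Subtype.val_injective) (fun g => ?_)
    (ClassicalGeometry.SpinorSign.spinorSign Q 1) (Omega F Q).subtype Subtype.val_injective (fun x a b => ?_)
    (TO.FO.center_Omega (fun v hv => hQ.1 v hv) h3)).mono fun h => h h0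
  · refine ⟨fun h => ⟨⟨Matrix.GeneralLinearGroup.mkOfDetNeZero g fun h0 => h6.ne_zero ?_, fun u _ => ?_⟩, rfl⟩,
      fun ⟨x, hx⟩ => h4 _ _ fun u v => ?_⟩
    · rw [← h, det_mul, h0, mul_zero]
    · have h7 := h5 g u u
      rw [h, h1, QuadraticMap.polar_self, QuadraticMap.polar_self, two_nsmul, two_nsmul, ← two_mul, ← two_mul] at h7
      exact (mul_left_cancel₀ h2 h7).symm
    · have h7 : ∀ w, Q (g *ᵥ w) = Q w := fun w => hx ▸ x.2 w w
      rw [h5, h1, QuadraticMap.polar, ← mulVec_add, h7, h7, h7, QuadraticMap.polar]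
  · rw [Subgroup.range_subtype]
    exact (ClassicalGeometry.OmegaIndex.mem_Omega_iff h2 Q hQ (by omega) one_ne_zero x).2 ⟨a, b⟩

variable {S : Type} [Group S] [Finite S] {X : Prop}

/-- the alternative in the simple group -/
def Al (S : Type) [Group S] (X : Prop) : Prop := AllQ S fun σ _ _ Q θ =>
  Ix (Q.map σ) ((In Q θ).map σ) ∨ (X ∧ S9 (Q.map σ) ((In Q θ).map σ))

theorem al_of (B : Bx) {T A : Type} [Group T] [CommGroup A] (e : S ≃* T) (hA : HasSchurMultiplier T A) {k : ℕ}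
    (hk : Nat.card A ∣ 2 ^ k) (h : Ak T X) : Al S X := fun K _ _ σ M b Q θ H => by
  have H' := H.congr e
  obtain ⟨π, hπ⟩ := hA.2 K _ ⟨H'.surj, H'.ker.le, H.qs.1.commutator_eq_top ▸ le_top⟩
  have h1 : Nat.card (center K) = 1 := ((Nat.prime_two.coprime_iff_not_dvd.2 H.zp).symm.pow_right k).eq_one_of_dvd
    (H'.ker ▸ (card_dvd_of_surjective π hπ).trans hk)
  have h2 : Function.Injective σ := σ.ker_eq_bot_iff.1 (H.ker.trans (eq_bot_of_card_eq _ h1))
  obtain ⟨-, h3, -, h4⟩ := B.t.loc S K σ M b Q θ H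
  refine (h K _ M b Q θ ⟨e.injective.comp h2, H'.surj⟩ H.can).imp (fun ⟨R, r1, r2, r3⟩ => ⟨R.map σ, map_mono r1, ?_, ?_⟩)
    (And.imp_right fun s => ⟨h3.trans s.card, ?_, ?_, h4 ▸ s.big⟩)
  · rintro _ ⟨u, hu, rfl⟩
    rw [← map_mul, s.sq u hu, map_one]
  · obtain ⟨V, v1, v2, v3⟩ := s.inv
    refine ⟨V.map σ, map_mono v1, (card_map_of_injective h2).trans v2, ?_⟩
    rintro _ ⟨t, ht, rfl⟩ _ ⟨v, hv, rfl⟩
    rw [← map_inv, ← map_mul, ← map_mul]
    exact mem_map_of_mem _ (v3 t ht v hv)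
  · rwa [relIndex_map_map_of_injective _ _ h2]
  · rintro _ ⟨t, ht, rfl⟩ _ ⟨r, hr, rfl⟩
    rw [← map_inv, ← map_mul, ← map_mul, r3 t ht r hr]

theorem Al.nos (B : Bx) (h : Al S X) : NoS S := fun K _ _ σ M b Q θ H Γ hΓ =>
  (h K σ M b Q θ H).elim (B.t.cor S _ _ Γ hΓ).1 fun e => (B.t.cor S _ _ Γ hΓ).2.1 e.2

theorem Al.row (B : Bx) (h : Al S X) (h0 : OutC S) (h1 : RO.NS S 2) : Row S :=
  B.toPx.row_ns h0 h1 (fun K _ _ σ M b Q θ H => .inr (.inr ((h K σ M b Q θ H).imp_right And.right))) (h.nos B)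

theorem Al.row' (B : Bx) (h : Al S X) (hX : ¬ X) (h0 : DLA S) : Row S :=
  B.toPx.row h0 (fun K _ _ σ M b Q θ H _ _ _ _ _ _ _ => (h K σ M b Q θ H).resolve_right fun e => hX e.1) (h.nos B)

end RC

open RC

theorem row_psp (B : Bx) : RowFor KM.CPsp := by
  intro S _ _ _ hn hC
  obtain ⟨F, _, _, m, h2, hm, h3, ⟨e⟩⟩ := id hC
  have h4 : (2 : F) ≠ 0 := by simpa using h2
  refine (al_of B e (S2092.result rfl m hm h3 fun h => h4 ?_) (k := 1) (card_zm _ ▸ Nat.gcd_dvd_left _ _)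
    (ak_psp B h4 (by omega))).row B (outC_psp hC) (B.ns.psp S hn hC)
  simpa [h.2] using FiniteField.cast_card_eq_zero F

theorem row_oodd (B : Bx) : RowFor KM.COdd := by
  intro S _ _ _ hn hC
  obtain ⟨F, _, _, m, h2, hm, h3, ⟨e⟩⟩ := id hC
  have h4 : (2 : F) ≠ 0 := by simpa using h2
  by_cases h : m = 3 ∧ Fintype.card F = 3
  · obtain ⟨rfl, h⟩ := h
    exact Row.of_equiv e (B.o73 B.toPx F h)
  refine (al_of B e (S2094.result rfl h3 m hm h) (k := 1) (by simp) (X := True) ?_).row B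
    (outC_odd hC) (B.ns.oodd S hn hC)
  rw [← coe_quadOdd]
  exact (ak_pomega B h4 _ (quadOdd_nondegenerate h4) (by simp; omega)).mono fun _ => trivial

theorem row_oplus (B : Bx) : RowFor KM.CPlus := by
  rintro S _ _ _ - ⟨F, _, _, m, h2, hm, ⟨e⟩⟩
  have h4 : (2 : F) ≠ 0 := by simpa using h2
  have := Finite.of_equiv S e.toEquiv
  have h5 : Ak (POmega F (quadFormPlus m F)) (Fintype.card (Fin m ⊕ Fin m) ≠ 8) := by
    rw [← coe_quadPlus]
    exact ak_pomega B h4 _ quadPlus_nondegenerate (by simp; omega)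
  have h6 : Al (POmega F (quadFormPlus m F)) (Fintype.card (Fin m ⊕ Fin m) ≠ 8) := by
    rcases Nat.even_or_odd m with h | h
    · refine al_of B (MulEquiv.refl _) (S2097.result rfl m hm h fun h => h4 ?_) (k := 2) ?_ h5
      · simpa [h.2] using FiniteField.cast_card_eq_zero F
      · rw [Nat.card_congr Multiplicative.toAdd, Nat.card_prod, Nat.card_zmod]
        exact Nat.mul_dvd_mul (Nat.gcd_dvd_left 2 _) (Nat.gcd_dvd_left 2 _)
    · exact al_of B (MulEquiv.refl _) (S2096.result rfl m (by obtain ⟨k, rfl⟩ := h; omega) h) (k := 2)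
        (card_zm _ ▸ Nat.gcd_dvd_left _ _) h5
  refine Row.of_equiv e ?_
  obtain rfl | h := hm.eq_or_lt
  · exact h6.row' B (by simp) (B.d4o F h4)
  · exact h6.row B (outC_plus_of h2 h (MulEquiv.refl _)) (B.ns.oplus F m h4 h)

theorem row_ominus (B : Bx) : RowFor KM.CMinus := by
  intro S _ _ _ hn hC
  obtain ⟨F, _, _, m, a, b, h2, hm, hab, ⟨e⟩⟩ := id hC
  have h4 : (2 : F) ≠ 0 := by simpa using h2
  refine (al_of B e (S2099.result rfl m hm a b hab) (k := 2) (card_zm _ ▸ Nat.gcd_dvd_left _ _) (X := True) ?_).row B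
    (outC_minus hC) (B.ns.ominus S hn hC)
  rw [← coe_quadMinus]
  exact (ak_pomega B h4 _ (quadMinus_nondegenerate hab) (by simp; omega)).mono fun _ => trivial

end Cfsg.Agent.BH.R2
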