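import Cfsg.Agent.BH.Row2L.RowE6b
import Cfsg.Agent.BH.RowE.OutL
import Cfsg.Agent.KM.Sc.E3
import Cfsg.Agent.TO.X.Mult

/-!
# BH (S4524), the prime `2`: the rows `E₆(q)`, `²E₆(q)` from the lattice facts `LT6` (helper34)

**`row_e6_of`, `row_te6_of`**.
-/

set_option autoImplicit false
set_option maxHeartbeats 200000

namespace Cfsg.Agent.BH.R2

open Cfsg Cfsg.Lie Cfsg.Agent.DL Cfsg.Agent.KZ.DatX

/-- the lattice facts for the simply connected covers of type `E₆`; `P = 1` or `P = P6` -/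
def LT6 (P : Matrix (Fin 6) (Fin 6) ℤ) : Prop := ∀ (r e : ℕ) [Fact r.Prime] (k : Type) [Field k] [CharP k r] [IsAlgClosed k]
  (X : XF hpE6 r k ((r : ℤ) ^ e • P)) (Y : Type) [Group Y] (N : Type) [Fintype N] [DecidableEq N] (ρ : Y →* GL N k)
  (F : MulAut Y) (X' : Datum r ρ F ⊤) (φ : Y →* ↥(chevE6.group k)), KM.Sc.Isog X' X.D φ 3 → TO.X.Cn.Pi1 X' 1 → 0 < e →
  LT X' 3

theorem E6.tl_of (B : BoxLC) {p : ℕ} [Fact p.Prime] {k : Type} [Field k] [CharP k p] {Y : Type} [Group Y] {N : Type}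
    [Fintype N] [DecidableEq N] {ρ : Y →* GL N k} {F : MulAut Y} {G : Subgroup Y} [IsAlgClosed k] {X : Datum p ρ F G}
    (hp : p ≠ 2) {a : ℕ} (h : LT X a) : TL X a := fun y hy hN =>
  have h1 := B.conj X a y hy hN h
  ⟨h1.sc, B.con _ a h1, B.lc _ hp a h1⟩

/-- **the row `E₆(q)`** -/
theorem row_e6_of (hL : LT6 1) (B : Bx) : RowFor KM.CE6 := fun S _ _ _ _ h => by
  obtain ⟨F, _, _, h1, ⟨i⟩⟩ := h
  obtain ⟨r, e, _, _, hr, he, hF⟩ := KM.Nt.exists_char F h1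
  have := Finite.of_equiv _ i.toEquiv
  exact Row.of_equiv i (E6.row B hr.symm (KM.Sc.sc_E6 hF) (fun _ h => h) (TO.X.zd_E6 hF)
    (outC_e6 (p := 2) ⟨F, _, ‹_›, h1, ⟨MulEquiv.refl _⟩⟩)
    fun k _ _ _ X Y _ N _ _ ρ F X' φ I h => E6.tl_of B.lc hr.symm (hL r e k X Y N ρ F X' φ I h he))

/-- **the row `²E₆(q)`** -/
theorem row_te6_of (hL : LT6 P6) (B : Bx) : RowFor KM.CTe6 := fun S _ _ _ _ h => by
  obtain ⟨F, _, _, q, h1, hq, hF, ⟨i⟩⟩ := h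
  obtain ⟨r, e, hp, _, hr, he, rfl⟩ := KM.Nt.exists_char' F h1 hq two_ne_zero hF
  have := Finite.of_equiv _ i.toEquiv
  have h2 : r ^ e ≠ 2 := fun h => hr ((Nat.prime_dvd_prime_iff_eq hp.out Nat.prime_two).1 (h ▸ dvd_pow_self r he.ne')).symm
  exact Row.of_equiv i (E6.row B hr.symm (KM.Sc.sc_2E6 hF) (fun _ ⟨j, h⟩ => ⟨j, 1, List.mem_cons_self, h⟩)
    (TO.X.zd_2E6 hq hF h2) (outC_te6 (p := 2) ⟨F, _, _, _, h1, hq, hF, ⟨MulEquiv.refl _⟩⟩)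
    fun k _ _ _ X Y _ N _ _ ρ F X' φ I h => E6.tl_of B.lc hr.symm (hL r e k X Y N ρ F X' φ I h he))

end Cfsg.Agent.BH.R2
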