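import Cfsg.Agent.KM.E2.A1
import Cfsg.Agent.KM.E2.P3
import Cfsg.Agent.KM.E2.G

/-!
# BH, `Row2L` : the local setting of `KM.E2` without the lower bound for the inertial index (helper55)

Copies of `KM/E2/A1`, `boxK`, `boxP5`.
-/

set_option autoImplicit false
set_option linter.unusedSectionVars false

namespace Cfsg.Agent.BH.R2.Z1

open Cfsg.Agent.KM Cfsg.Agent.KM.E2

section

open Cfsg Subgroup Cfsg.Agent.KM.Tor Cfsg.Agent.TO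

variable {Y : Type} [Group Y] {H Z D C Γ : Subgroup Y}

/-- the local setting -/
structure Lz0 (H Z D C Γ : Subgroup Y) : Prop where
  fin : Finite H
  zc : ∀ z ∈ Z, ∀ g ∈ H, z * g = g * z
  zD : Z ≤ D
  DC : D ≤ C
  CΓ : C ≤ Γ
  le : Γ ≤ H
  pg : IsPGroup 2 D
  mem : ∀ x, x ∈ C ↔ x ∈ H ∧ Un x Z D
  iv : Iv Γ D
  odd : ¬ 2 ∣ C.relIndex Γ
  core : ∀ U ≤ H, IsPGroup 2 U → Iv C U → U ≤ D

theorem Lz0.lz (h : Lz0 H Z D C Γ) (h3 : 3 < C.relIndex Γ) : Lz H Z D C Γ :=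
  ⟨h.fin, h.zc, h.zD, h.DC, h.CΓ, h.le, h.pg, h.mem, h.iv, h.odd, by have := h.odd; omega, h.core⟩

theorem Lz0.comm_D (h : Lz0 H ⊥ D C Γ) {x d : Y} (hx : x ∈ C) (hd : d ∈ D) : x * d = d * x :=
  mul_inv_eq_iff_eq_mul.1 (mul_inv_eq_one.1 (mem_bot.1 (((h.mem x).1 hx).2 d hd)))

/-- **the setting of a block** -/
theorem lz0_of {K : Type} [Group K] [Finite H] [Finite K] {π : H →* K} {M : Ideal AlgInt} {b : Set (IrrCharacter K)} {D : Subgroup K}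
    {θ : K → ℂ} (hπ : Function.Surjective π) (hZ : Z ≤ H) (hk : ∀ h : H, π h = 1 ↔ (h : Y) ∈ Z)
    (hc : ∀ z ∈ Z, ∀ g ∈ H, z * g = g * z) (hp : IsPGroup 2 Z) (h : TO.Can 2 M b D θ) :
    Lz0 H Z (up π D) (up π (TO.Ce D)) (up π (TO.In D θ)) := by
  have : Fact (Nat.Prime 2) := ⟨Nat.prime_two⟩
  refine ⟨inferInstance, hc, fun z hz => mem_up.2 ⟨hZ hz, ?_⟩, up_mono π h.ab, up_mono π (Cov.ce_le_In h), map_subtype_le _,
    (h.pg.comap_of_ker_isPGroup π fun x => ?_).map _, fun x => ⟨?_, ?_⟩, ?_, ?_, fun U hU hU2 hi => ?_⟩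
  · rw [(hk _).2 hz]
    exact one_mem _
  · obtain ⟨n, hn⟩ := hp ⟨x.1, (hk _).1 x.2⟩
    have h1 : ((x : H) : Y) ^ 2 ^ n = 1 := congrArg Subtype.val hn
    exact ⟨n, Subtype.ext (Subtype.ext h1)⟩
  · rintro ⟨x, hx, rfl⟩
    refine ⟨x.2, ?_⟩
    rintro _ ⟨d, hd, rfl⟩
    refine (hk (x * d * x⁻¹ * d⁻¹)).1 ?_
    rw [map_mul, map_mul, map_mul, map_inv, map_inv, ← mem_centralizer_iff.1 hx _ hd, mul_inv_cancel_right, mul_inv_cancel]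
  · rintro ⟨hx, h1⟩
    refine mem_up.2 ⟨hx, mem_centralizer_iff.2 fun d hd => ?_⟩
    obtain ⟨d, rfl⟩ := hπ d
    have h2 := (hk (⟨x, hx⟩ * d * ⟨x, hx⟩⁻¹ * d⁻¹)).2 (h1 d (coe_mem_up.2 hd))
    rw [map_mul, map_mul, map_mul, map_inv, map_inv, mul_inv_eq_one, mul_inv_eq_iff_eq_mul] at h2
    exact h2.symm
  · rintro _ ⟨x, hx, rfl⟩ _ ⟨d, hd, rfl⟩
    refine (coe_mem_up (x := x * d * x⁻¹)).2 ?_
    rw [map_mul, map_mul, map_inv]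
    exact ((Cn.mem_In.1 hx).1 _).2 hd
  · rw [relIndex_up hπ]
    exact h.idx
  · have h1 := (Sp.locA_of_block h.hM h.hb h.hD ⟨⟨fun x y => Subtype.ext (h.comm _ x.2 _ y.2)⟩⟩).core
      ((U.subgroupOf H).map π) ((hU2.comap_subtype (K := H)).map π) fun x hx => ?_
    · exact fun u hu => mem_up.2 ⟨hU hu, h1 ⟨⟨u, hU hu⟩, hu, rfl⟩⟩
    · rintro _ ⟨u, hu, rfl⟩
      obtain ⟨x, rfl⟩ := hπ x
      refine ⟨x * u * x⁻¹, hi x (coe_mem_up.2 (mem_centralizer_iff.2 hx)) u hu, ?_⟩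
      rw [map_mul, map_mul, map_inv]

end

section

open Cfsg Subgroup Cfsg.Agent.DL Cfsg.Agent.Nodes.Reps Cfsg.Agent.Nodes.BNOf Cfsg.Agent.Nodes.Coroot Cfsg.Agent.BpExc.Zc
  Cfsg.Agent.TO.X5 Cfsg.Agent.KM.Tor
open Cfsg.Agent.KM.Ev (Pe Lp KC KP Rk conj_comm conj_pow')

namespace A0

section Grp

variable {Y : Type} [Group Y] {H Z D C Γ K : Subgroup Y}

theorem pg (L : Lz0 H Z D C Γ) {d : Y} (hd : d ∈ D) : ∃ j : ℕ, d ^ 2 ^ j = 1 :=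
  (L.pg ⟨d, hd⟩).imp fun _ e => congrArg Subtype.val e

theorem le (L : Lz0 H Z D C Γ) : D ≤ H := L.DC.trans (L.CΓ.trans L.le)

/-- **the components commute** -/
theorem a1_abs {F : MulAut Y} {G : Subgroup Y} {t : Y} (L : Lz0 (GF F G) Z D C Γ) (hK : K ≤ G) (hF : ∀ x, F x ∈ K ↔ x ∈ K)
    (ht : t * t = 1) (hZ : ∀ z ∈ K, z ∈ centralizer (K : Set Y) → z = 1 ∨ z = t) (hZK : ∀ z ∈ K, z ∈ Z → z = 1)
    (hC : ∀ y ∈ C, y ∈ KP K) : (∀ x ∈ KC K D, ∃ j : ℕ, x ^ 2 ^ j = 1) ∧ ∀ x ∈ KC K D, ∀ y ∈ KC K D, x * y = y * x := by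
  have h1 : ∀ x ∈ KC K D, ∃ j : ℕ, x ^ 2 ^ j = 1 := fun x ⟨hx, d, hd, h⟩ => by
    obtain ⟨j, hj⟩ := pg L hd
    rw [← mul_inv_cancel_left x d, (show Commute x _ from h x hx).mul_pow] at hj
    refine ⟨j + 1, ?_⟩
    rw [pow_succ, pow_mul, sq]
    rcases hZ _ (pow_mem hx _) (eq_inv_of_mul_eq_one_left hj ▸ inv_mem (pow_mem h _)) with e | e <;> rw [e]
    exacts [mul_one _, ht]
  have h2 : KC K D ⊓ fix F ≤ D := L.core _ (fun x hx => ⟨hK hx.1.1, hx.2⟩)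
    (fun x => (h1 x x.2.1).imp fun _ e => Subtype.ext e) fun y hy u ⟨⟨hu, d, hd, h⟩, h3⟩ => by
      have h4 := hC y hy
      refine ⟨⟨Ev.KP.conj h4 hu, _, L.iv y (L.CΓ hy) d hd, ?_⟩,
        mem_fix.2 (by rw [map_mul, map_mul, map_inv, (mem_GF.1 (L.le (L.CΓ hy))).2, mem_fix.1 h3])⟩
      rw [← Ev.KP.cj h4, Ev.cen_cj, show y⁻¹ * ((y * u * y⁻¹)⁻¹ * (y * d * y⁻¹)) * y = u⁻¹ * d by group]
      exact h
  have h3 : ∀ x ∈ KC K D, ∀ u ∈ KC K D, F u = u → x * u = u * x := fun x ⟨hx, d, hd, h⟩ u hu e => by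
    have h4 := ((L.mem d).1 (L.DC hd)).2 u (h2 ⟨hu, e⟩)
    rw [show d * u * d⁻¹ = x * (x⁻¹ * d * u) * d⁻¹ by group, ← h u hu.1,
      show x * (u * (x⁻¹ * d)) * d⁻¹ = x * u * x⁻¹ by group] at h4
    have h5 := hZK _ (mul_mem (mul_mem (mul_mem hx hu.1) (inv_mem hx)) (inv_mem hu.1)) h4
    rwa [mul_inv_eq_one, mul_inv_eq_iff_eq_mul] at h5
  have h4 : ∀ x ∈ KC K D, F x = x ∨ (F x = x * t ∧ t ∈ centralizer (K : Set Y)) := fun x ⟨hx, d, hd, h⟩ => by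
    have h5 : x⁻¹ * F x ∈ centralizer (K : Set Y) := by
      rw [show x⁻¹ * F x = x⁻¹ * d * (F (x⁻¹ * d))⁻¹ by rw [map_mul, map_inv, (mem_GF.1 (le L hd)).2]; group]
      refine mul_mem h (inv_mem fun z hz => ?_)
      obtain ⟨z, rfl⟩ := F.surjective z
      rw [← map_mul, h z ((hF z).1 hz), map_mul]
    exact (hZ _ (mul_mem (inv_mem hx) ((hF x).2 hx)) h5).imp (fun e => (inv_mul_eq_one.1 e).symm)
      fun e => ⟨inv_mul_eq_iff_eq_mul.1 e, e ▸ h5⟩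
  refine ⟨h1, fun x hx y hy => ?_⟩
  rcases h4 y hy with e | ⟨e, h5⟩
  · exact h3 x hx y hy e
  rcases h4 x hx with e' | ⟨e', -⟩
  · exact (h3 y hy x hx e').symm
  have h6 := h3 x hx _ (mul_mem hx hy) (by
    rw [map_mul, e, e', mul_assoc, ← mul_assoc t, ← h5 y hy.1, mul_assoc, ht, mul_one])
  rw [mul_assoc] at h6
  exact mul_left_cancel h6

end Grp

variable {p : ℕ} [Fact p.Prime] {k : Type} [Field k] [CharP k p] {Y : Type} [Group Y] {N : Type} [Fintype N]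
  [DecidableEq N] {ρ : Y →* GL N k} {F : MulAut Y} {G : Subgroup Y} [IsAlgClosed k] {X : Datum p ρ F G}
  {a b : X.I → ℤ} {Z D C Γ K : Subgroup Y} {t g : Y} (hp : p ≠ 2) (h : LS X)

include hp h

theorem pm (ha : X.Rt a) (hb : X.Rt b) (e : ct X a (-1) = ct X b (-1)) : b = a ∨ b = -a :=
  h.ct_inj hp ha hb (by rw [e, Ev.ct_sq]; exact one_mem _)

/-- the group of rank one of a rational involution is stable -/
theorem stable (ht : F t = t) (hK : Rk X t K) : ∀ y ∈ K, F y ∈ K := by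
  intro y hy
  obtain ⟨g, hg, a, ha, e, e'⟩ := id hK
  have h1 : (F g)⁻¹ * t * F g = ct X (X.g a) (-1) := by
    rw [← ht, ← map_inv, ← map_mul, ← map_mul, e, F_ct ha.1, (((Fact.out : p.Prime).odd_of_ne_two hp).pow).neg_one_pow]
  obtain ⟨b, hb, h2, h3⟩ := hK.move h.cz hp (X.F_mem_G hg) (h1 ▸ ct_mem _ _)
  have h4 := pm hp h hb.1 (X.g_root a ha.1) (h2.symm.trans h1)
  rw [h3, mem_cj, ← map_inv, ← map_mul, ← map_mul]
  refine X.F_mem_S (TO.G2D.rt_pair ha.1) ?_ (mem_cj.1 (e' ▸ hy))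
  rintro _ (rfl | rfl)
  · exact h4
  · rw [X.g_neg ha.1]
    exact h4.symm.imp (fun e => by rw [e, neg_neg]) fun e => congrArg _ e

variable (L : Lz0 (GF F G) Z D C Γ) (hZ : Z ≤ ZG X)

include L hZ

/-- `C` centralises the involutions of root type -/
theorem comm (ht : t ∈ D) (hr : RT X t) {x : Y} (hx : x ∈ C) : x * t = t * x := by
  obtain ⟨h1, h2⟩ := (L.mem x).1 hx
  have h3 := hZ (h2 t ht)
  obtain ⟨g, hg, a, ha, e⟩ := id hr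
  have h4 : g⁻¹ * (x * t * x⁻¹) * g = x * t * x⁻¹ * t⁻¹ * ct X a (-1) := by
    rw [← e, ← mul_assoc _ _ g, ← mul_assoc _ g⁻¹ t, ← ZG_comm h3 (inv_mem hg)]
    group
  obtain ⟨b, hb, h5⟩ := ((show RT X (x * t * x⁻¹) by simpa using hr.conj (inv_mem h1.1)).conj hg).eq
    (h4 ▸ mul_mem h3.1 (ct_mem _ _))
  rw [h4] at h5
  have h6 : ct X a (-1) = ct X b (-1) := by
    rcases h.ct_inj hp hb ha (by rwa [← h5, mul_assoc, Ev.ct_sq, mul_one]) with rfl | rfl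
    exacts [rfl, ct_neg' hb]
  rwa [h6, mul_eq_right, mul_inv_eq_one, mul_inv_eq_iff_eq_mul] at h5

theorem a1 (hg : g ∈ G) (ha : X.Rt a) (ht : t ∈ D) (e : g⁻¹ * t * g = ct X a (-1)) :
    ∃ h ∈ X.S {a, -a}, ∀ d ∈ D, ∀ s, ct X a s * ((g * h)⁻¹ * d * (g * h)) = (g * h)⁻¹ * d * (g * h) * ct X a s := by
  have hr := TO.G2D.rt_pair ha
  have rt : RT X t := ⟨g, hg, a, ha, e⟩
  have h1 : ct X a (-1) ≠ 1 := fun e => h.ct_not hp ha (e ▸ one_mem _)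
  have h3 : ∀ y ∈ C, y ∈ KP (cj g (X.S {a, -a})) := fun y hy =>
    Ev.KP.of_cj (Ev.cen_le_KP h.cz (h.lg ha) (fun _ => Ev.sz_neg hp (h.lg ha)) (e ▸ Ev.mc_of h.pi1 (Nat.coprime_one_right 2) t
      (le L ht) rt.sq y (L.le (L.CΓ hy)) (comm hp h L hZ ht rt hy) g hg (e ▸ ct_mem _ _)))
  have hKG : cj g (X.S {a, -a}) ≤ G := fun x hx => by
    simpa [mul_assoc] using mul_mem (mul_mem hg (X.S_le_G hr (mem_cj.1 hx))) (inv_mem hg)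
  have hKZ : ∀ z ∈ cj g (X.S {a, -a}), z ∈ centralizer (cj g (X.S {a, -a}) : Set Y) → z = 1 ∨ z = t :=
    fun z hz h => (Ev.cen_K ha (mem_cj.1 hz) (Ev.cen_cj.1 h)).imp (fun e => by
      rwa [← inv_inv g, inv_inv g⁻¹, conj_eq_one_iff] at e) fun e' => by simpa using e'.trans e.symm
  obtain ⟨h4, h5⟩ := a1_abs L hKG (X.amb.mem_iff (stable hp h (mem_GF.1 (le L ht)).2 ⟨g, hg, a, h.lg ha, e, rfl⟩)) rt.sq hKZ
    (fun z hz hz' => (hKZ z hz fun y hy => ZG_comm (hZ hz') (hKG hy)).resolve_right fun e' => h.ct_not hp ha (by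
      rw [← e, ← e', mul_assoc, ← ZG_comm (hZ hz') hg, inv_mul_cancel_left]
      exact hZ hz')) h3
  have h6 : ∀ d ∈ D, ∃ x ∈ KC (cj g (X.S {a, -a})) D, g⁻¹ * (x⁻¹ * d) * g ∈ centralizer (X.S {a, -a} : Set Y) := fun d hd =>
    let ⟨x, hx, h⟩ := h3 d (L.DC hd)
    ⟨x, ⟨hx, d, hd, h⟩, Ev.cen_cj.1 h⟩
  by_cases h7 : ∀ x ∈ KC (cj g (X.S {a, -a})) D, g⁻¹ * x * g ∈ centralizer (X.S {a, -a} : Set Y)
  · refine ⟨1, one_mem _, fun d hd s => ?_⟩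
    obtain ⟨x, hx, h⟩ := h6 d hd
    rw [mul_one, show g⁻¹ * d * g = g⁻¹ * x * g * (g⁻¹ * (x⁻¹ * d) * g) by group]
    exact mul_mem (h7 x hx) h _ (ct_S ha s)
  push Not at h7
  obtain ⟨z, hz, h7⟩ := h7
  obtain ⟨j, hj⟩ := h4 z hz
  have h8 := mem_cj.1 hz.1
  obtain ⟨u, hh, c, hc⟩ := Ev.toral_K ha h8 (Tor.not_dvd_ord Nat.prime_two hp.symm (conj_pow' hj))
  refine ⟨u, hh, fun d hd s => ?_⟩
  obtain ⟨x, hx, h12⟩ := h6 d hd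
  have h13 := Ev.comm_ct ha h1 (c := c)
    (fun e' => h7 fun v hv => by
      have h13 := conj_comm (g := u⁻¹) (hc ▸ comm_Kr ha (mul_mem (mul_mem (inv_mem hh) hv) hh) ⟨ct_mem a c, e'⟩)
      simpa only [inv_inv, mul_assoc, mul_inv_cancel_left, mul_inv_cancel, mul_one] using h13.symm)
    (mul_mem (mul_mem (inv_mem hh) (mem_cj.1 hx.1)) hh) (hc ▸ conj_comm (conj_comm (h5 z hz x hx))) s
  rw [show (g * u)⁻¹ * d * (g * u) = u⁻¹ * (g⁻¹ * x * g) * u * (u⁻¹ * (g⁻¹ * (x⁻¹ * d) * g) * u) by group, ← mul_assoc, h13,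
    mul_assoc u⁻¹ (g⁻¹ * (x⁻¹ * d) * g) u, ← h12 u hh, inv_mul_cancel_left, mul_assoc, h12 _ (ct_S ha s), ← mul_assoc]

/-- **all involutions of root type in one frame** -/
theorem tor_all {R : Set Y} (hR : R.Finite) (hh : ∀ t ∈ R, t ∈ D ∧ RT X t) :
    ∃ g ∈ G, ∃ P : Set (X.I → ℤ), (∀ a ∈ P, Lg X a) ∧ (∀ t ∈ R, ∃ a ∈ P, g⁻¹ * t * g = ct X a (-1)) ∧
      ∀ d ∈ D, g⁻¹ * d * g ∈ Lp X P := by
  have hD : ∀ d ∈ D, ∀ g ∈ G, g⁻¹ * d * g ∈ G ∧ ∃ j : ℕ, (g⁻¹ * d * g) ^ 2 ^ j = 1 := fun d hd g hg =>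
    ⟨mul_mem (mul_mem (inv_mem hg) (le L hd).1) hg, (pg L hd).imp fun _ => conj_pow'⟩
  have e1 : ∀ g c d : Y, (g * c)⁻¹ * d * (g * c) = c⁻¹ * (g⁻¹ * d * g) * c := fun _ _ _ => by group
  induction R, hR using Set.Finite.induction_on with
  | empty => exact ⟨1, one_mem _, ∅, fun _ h => h.elim, fun _ h => h.elim, fun d hd =>
      let ⟨h1, _, h2⟩ := hD d hd 1 (one_mem _)
      Ev.mem_Lp hp (fun _ h => h.elim) h1 h2 fun _ h => h.elim⟩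
  | @insert t R _ _ ih =>
    obtain ⟨g, hg, P, h1, h2, h3⟩ := ih fun t ht => hh t (.inr ht)
    obtain ⟨t1, t3⟩ := hh t (.inl rfl)
    have key : ∀ g ∈ G, (∀ t ∈ R, ∃ a ∈ P, g⁻¹ * t * g = ct X a (-1)) → (∀ d ∈ D, g⁻¹ * d * g ∈ Lp X P) → ∀ c ∈ Lp X P,
        g * c ∈ G ∧ (∀ t ∈ R, ∃ a ∈ P, (g * c)⁻¹ * t * (g * c) = ct X a (-1)) ∧ ∀ d ∈ D, (g * c)⁻¹ * d * (g * c) ∈ Lp X P :=
      fun g hg h2 h3 c hc => ⟨mul_mem hg (Ev.Lp_le_G hc), fun t ht => (h2 t ht).imp fun a ha => ⟨ha.1, by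
        rw [e1, ha.2, mul_assoc, Ev.Lp_comm (h1 a ha.1).1 ha.1 hc, inv_mul_cancel_left]⟩,
        fun d hd => e1 g c d ▸ mul_mem (mul_mem (inv_mem hc) (h3 d hd)) hc⟩
    obtain ⟨j, hj⟩ := (hD t t1 g hg).2
    obtain ⟨c, hc, h4⟩ := Ev.toral_Lp hp h1 (h3 t t1) (Tor.not_dvd_ord Nat.prime_two hp.symm hj)
    obtain ⟨hg, h2, h3⟩ := key g hg h2 h3 c hc
    rw [← e1] at h4
    generalize g * c = g at hg h2 h3 h4
    obtain ⟨b, hb', h5⟩ := (t3.conj hg).eq h4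
    have hb := h.lg hb'
    have h6 : ∀ a ∈ insert b P, Lg X a := by
      rintro a (rfl | ha)
      exacts [hb, h1 a ha]
    have fin : ∀ g ∈ G, (∀ t ∈ R, ∃ a ∈ P, g⁻¹ * t * g = ct X a (-1)) → g⁻¹ * t * g = ct X b (-1) →
        (∀ d ∈ D, g⁻¹ * d * g ∈ Lp X (insert b P)) → ∃ g ∈ G, ∃ P : Set (X.I → ℤ), (∀ a ∈ P, Lg X a) ∧
        (∀ s ∈ insert t R, ∃ a ∈ P, g⁻¹ * s * g = ct X a (-1)) ∧ ∀ d ∈ D, g⁻¹ * d * g ∈ Lp X P :=
      fun g hg k1 k2 k3 => ⟨g, hg, _, h6, by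
        rintro s (rfl | hs)
        exacts [⟨b, .inl rfl, k2⟩, (k1 s hs).imp fun a ha => ⟨.inr ha.1, ha.2⟩], k3⟩
    by_cases h7 : ∀ a ∈ P, cpr X.cs X.h b a = 0
    · obtain ⟨c, hc, h8⟩ := a1 hp h L hZ hg hb' t1 h5
      obtain ⟨hg', k1, k2⟩ := key g hg h2 h3 c (le_sup_right (a := X.T) (RGD.Sup_mono (S := {b, -b}) (by
        rintro _ (rfl | rfl)
        exacts [⟨hb.1, h7⟩, ⟨hb.1.neg, fun a ha => by rw [cpr_neg _ _ _ (h1 a ha).1, h7 a ha, neg_zero]⟩]) hc))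
      refine fin _ hg' k1 (by rw [e1, h5, mul_assoc, comm_Kr hb.1 hc (Ev.neg_Kr hb.1), inv_mul_cancel_left]) fun d hd => ?_
      obtain ⟨k3, i, k4⟩ := hD d hd _ hg'
      refine Ev.mem_Lp hp h6 k3 k4 ?_
      rintro a (rfl | ha) s
      exacts [h8 d hd s, Ev.Lp_comm (h1 a ha).1 ha (k2 d hd) s]
    · refine fin g hg h2 h5 fun d hd => ?_
      obtain ⟨i, k4⟩ := (hD d hd g hg).2
      refine sup_le_sup_left (RGD.Sup_mono (S' := Pe X (insert b P)) fun c hc => ⟨hc.1.1, ?_⟩) _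
        (Ev.mem_cen_Lp hp h1 h4 (Ev.mc_of h.pi1 (Nat.coprime_one_right 2) t (le L t1) t3.sq d (le L hd)
          (comm hp h L hZ t1 t3 (L.DC hd)) g hg h4) k4 (h3 d hd))
      rintro a (rfl | ha)
      · rcases Ev.sz_neg hp hb (h5 ▸ hc.2) with rfl | rfl | e
        · exact (h7 hc.1.2).elim
        · exact (h7 fun a ha => by simpa only [cpr_neg _ _ _ (h1 a ha).1, neg_eq_zero] using hc.1.2 a ha).elim
        · exact e
      · exact hc.1.2 a ha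

end A0

/-- **[A1]** -/
theorem boxA0 : AllD fun {p} _ _ _ _ {Y} _ _ _ _ _ {F} {G} _ X => p ≠ 2 → LS X → ∀ Z D C Γ : Subgroup Y,
    Lz0 (GF F G) Z D C Γ → Z ≤ ZG X → ∃ (y : Y) (hy : y ∈ G) (hN : y⁻¹ * F y ∈ X.NN), Ad (X.conj hy hN) D := by
  intro p _ k _ _ Y _ N _ _ ρ F G _ X hp h Z D C Γ L hZ
  have := L.fin
  obtain ⟨g, hg, P, h1, h2, h3⟩ := A0.tor_all hp h L hZ (R := {t | t ∈ D ∧ RT X t})
    ((Set.toFinite (GF F G : Set Y)).subset fun _ ht => A0.le L ht.1) fun _ ht => ht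
  obtain ⟨y, hy, hN, -, h4⟩ := SB.Exc.Max.exists_conj_le_T X (Z := {t | t ∈ D ∧ RT X t})
    (fun t ht => (mem_GF.1 (A0.le L ht.1)).2.symm ▸ ht) hg fun t ht => let ⟨_, _, e⟩ := h2 t ht; e ▸ ct_mem _ _
  have h5 : ∀ a, X.Rt a → ct (X.conj hy hN) a (-1) ∈ D → ct (X.conj hy hN) a (-1) ∈ {t | t ∈ D ∧ RT X t} :=
    fun a ha hd => ⟨hd, (RT_conj hy hN).1 (rt_ct ha)⟩
  refine ⟨y, hy, hN, fun t ht hr => ?_, g * y⁻¹, mul_mem hg (inv_mem hy), fun a ha => ?_, fun d hd => ?_⟩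
  · have h6 : t ∈ {t | t ∈ D ∧ RT X t} := ⟨ht, (RT_conj hy hN).1 hr⟩
    obtain ⟨a, ha, e⟩ := h2 t h6
    exact ⟨a, (h1 a ha).1, by rw [ct_conj, ← e, ← h4 t h6]; group⟩
  · have h6 := h4 _ (h5 a ha.1 ha.2)
    generalize ct (X.conj hy hN) a (-1) = t at h6
    calc g * y⁻¹ * t = g * (y⁻¹ * t * y) * y⁻¹ := by group
      _ = _ := by rw [h6]; group
  · rw [Lp_conj, mem_cj, show y⁻¹ * ((g * y⁻¹)⁻¹ * d * (g * y⁻¹)) * y = g⁻¹ * d * g by group]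
    refine sup_le_sup_left (RGD.Sup_mono (S := Pe X P) (S' := Pe X (Ps (X.conj hy hN) D)) fun b hb =>
      ⟨hb.1, fun a ha => ?_⟩) _ (h3 d hd)
    obtain ⟨c, hc, e⟩ := h2 _ (h5 a ha.1 ha.2)
    rw [← h4 _ (h5 a ha.1 ha.2), ct_conj, show y⁻¹ * (y * ct X a (-1) * y⁻¹) * y = ct X a (-1) by group] at e
    rcases A0.pm hp h (h1 c hc).1 ha.1 e.symm with rfl | rfl
    · exact hb.2 _ hc
    · rw [cpr_neg_right _ _ _ (h1 c hc).1, hb.2 c hc, neg_zero]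

end

section

open Cfsg Cfsg.Lie Cfsg.Agent.DL Cfsg.Agent.Nodes.Reps Cfsg.Agent.Nodes.BNOf Matrix Subgroup Cfsg.Agent.KM.Ht
open Cfsg.Agent.KM.Tor Multiplicative
open Cfsg.Agent.TO.X5 (ct ct_mem conj_ct)

open P3

/-- **[P5]** -/
theorem boxP50 : AllD fun {p} _ _ _ _ {Y} _ _ _ _ _ {F} {G} _ X => p ≠ 2 → L8 X → P8 X → ∀ e w, E2.Inn X e w →
    ∀ (D C Γ V : Subgroup Y) (g : Y), Lz0 (GF F G) ⊥ D C Γ → Loc 2 (GF F G) D g → E2.Pure X D → V ≤ D → V ≤ X.T →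
    (∀ v ∈ V, v * v = 1) → Nat.card V = 16 → D ≤ Z0 X D :=
  fun {p} _ {k} _ _ {Y} _ _ _ _ _ {F} {G} _ X hp h h' e w hI D C Γ V g H hL hD hV hT h2 hc => by
  obtain ⟨u, hu, -, h3, h4⟩ := exists_pu hp h hT h2 (fun t ht => hD t (hV ht)) (n := 4) hc
  obtain ⟨h5, h6⟩ := h'.p4 u hu
  rw [h5] at h4
  obtain ⟨m, hm⟩ := Nodes.Reps.exists_rp X.cs X.nsys w
  have odd : Odd (p ^ e) := ((Fact.out : p.Prime).odd_of_ne_two hp).pow
  have hF : ∀ v, F (tv X v) = tv X (X.Wm w *ᵥ v) := fun v => by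
    obtain ⟨i, hi⟩ := odd
    rw [F_eq hI hm (tv_mem v), conj_tv hm, hi, pow_succ, pow_mul, sq, tv_sq, one_pow, one_mul]
  have hN : ∀ x ∈ C, x ∈ X.NN := fun x hx => TO.E6.mem_NN_of_empty X hT h4 (H.le (H.CΓ hx)).1 fun z hz => by
    rw [mul_assoc, ← Lz0.comm_D H hx (hV hz), inv_mul_cancel_left]
    exact hT hz
  let U : Subgroup Y :=
    { carrier := {t | t ∈ X.T ∧ F t = t ∧ t * t = 1}
      one_mem' := ⟨one_mem _, map_one _, mul_one _⟩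
      mul_mem' := fun {a b} ha hb => ⟨mul_mem ha.1 hb.1, by rw [map_mul, ha.2.1, hb.2.1], by
        rw [mul_assoc, ← mul_assoc b, X.T_comm hb.1 ha.1, mul_assoc, hb.2.2, mul_one, ha.2.2]⟩
      inv_mem' := fun {a} ha => by rwa [inv_eq_of_mul_eq_one_right ha.2.2] }
  have iU : Iv (X.NN ⊓ GF F G) U := fun x hx t ht => ⟨X.conj_mem_T hx.1 ht.1, by
    rw [map_mul, map_mul, map_inv, (mem_GF.1 hx.2).2, ht.2.1], by
    rw [show x * t * x⁻¹ * (x * t * x⁻¹) = x * (t * t) * x⁻¹ by group, ht.2.2, mul_one, mul_inv_cancel]⟩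
  have hU : U ≤ D := H.core U (fun _ ht => ⟨X.T_le_G ht.1, ht.2.1⟩) (pg_of_sq fun _ ht => ht.2.2)
    fun x hx => iU x ⟨hN x hx, H.le (H.CΓ hx)⟩
  have h7 : ∀ c, X.Rt c → X.act w c ≠ c ∧ X.act w c ≠ -c := fun c hc => by
    have h8 : F (ct X c (-1)) ≠ ct X c (-1) := fun e => hD _ (hU ⟨ct_mem _ _, e, Ev.ct_sq c⟩) (rt_ct hc)
    rw [← tv_cor, hF, ← X.cor_act w hc] at h8
    exact ⟨fun e => h8 (by rw [e]), fun e => h8 (by rw [e, tv_cor, ct_neg' hc, tv_cor])⟩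
  have h0 : 0 < orderOf g := Nat.pos_of_ne_zero fun e => hL.reg (e ▸ dvd_zero 2)
  have h8 : (orderOf g).Coprime 2 := ((Nat.Prime.coprime_iff_not_dvd Nat.prime_two).2 hL.reg).symm
  have gT : g ∈ X.T := TO.E6.mem_T_of_cop X hT h4 hL.mem.1 (fun z hz => hL.comm z (hV hz)) h0
    (fun z hz => ⟨2, h8.symm, (sq z).trans (h2 z hz)⟩) (by rw [pow_orderOf_eq_one]; exact one_mem _)
  have hg : ({g} : Set Y) ⊆ X.T := Set.singleton_subset_iff.2 gT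
  have h9 : D ≤ X.T := fun d hd => by_contra fun h1 => by
    obtain ⟨j, hj⟩ := H.pg ⟨d, hd⟩
    obtain ⟨a, ha, -⟩ := TO.E6.exists_root X hg (X.rp_pr (hN d (H.DC hd))) (fun _ e => e ▸ (hL.comm d hd).symm)
      (fun e => h1 ((X.pr_eq_one_iff (hN d (H.DC hd))).1 e)) (n := 2 ^ j) (by positivity)
      (X.rp_unique (TO.X.Cn.rp_pow X (X.rp_pr (hN d (H.DC hd))) _) (by
        rw [show d ^ 2 ^ j = 1 from congrArg Subtype.val hj]; exact rp_one))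
      fun _ e => ⟨_, h8.pow_right j, e ▸ pow_orderOf_eq_one g⟩
    have hb : X.act w a ∈ X.Sz {g} := ⟨ha.1.act w, fun _ e => by
      rw [e, ← (mem_GF.1 hL.mem).2, F_eq hI hm gT, TO.E6.χ_pow X _ (X.conj_mem_T ⟨w, hm⟩ gT), X.χ_rp hm a gT, ha.2 g rfl,
        one_pow]⟩
    have k1 := h6 w (fun i => ev_of_dvd ((tv_eq_one hp).1 (by
      rw [tv_sub, ← hF, (mem_GF.1 (hL.le (hV (h3 i)))).2, tv_sq]))) a ha.1
    rw [CF.act_mul] at k1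
    have k2 := orth_w h.toLS h7 ha.1 k1
    have k3 : X.rf a * X.rf (X.act w a) = X.rf (X.act w a) * X.rf a := by
      rw [← mul_inv_eq_iff_eq_mul, eq_comm, ← inv_inv (X.rf a), eq_comm, inv_inv, mul_inv_eq_iff_eq_mul,
        ← mul_inv_eq_iff_eq_mul, ← X.rf_act' _ hb.1, TW.act_rf ha.1]
      rw [show TW.pr X (X.act w a) a = 0 from (h.symm hb.1 ha.1).trans k2, zero_smul, sub_zero]
    have k4 : w * (X.rf a * X.rf (X.act w a)) = X.rf a * X.rf (X.act w a) * w := by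
      rw [← mul_inv_eq_iff_eq_mul, show w * (X.rf a * X.rf (X.act w a)) * w⁻¹ =
        w * X.rf a * w⁻¹ * (w * X.rf (X.act w a) * w⁻¹) by group, ← X.rf_act' w ha.1, ← X.rf_act' w hb.1, k3]
      rcases k1 with e | e <;> rw [e]
      rw [X.rf_neg ha.1]
    obtain ⟨n, n1, n2⟩ := TO.E6.exists_fix_rep X (u := X.rf a * X.rf (X.act w a)) (by
      rw [hI.2, Matrix.smul_mul, Matrix.mul_smul, ← X.Wm_mul, ← X.Wm_mul, k4])
    obtain ⟨n', n3, n4⟩ := TO.E6.rp_cen X (Z := {g}) (mul_mem (subset_closure ⟨_, ha, rfl⟩) (subset_closure ⟨_, hb, rfl⟩))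
    have n5 : n ∈ (X.NN ⊓ GF F G) ⊓ centralizer {g} := ⟨⟨⟨_, n1⟩, Datum.Rp.mem_G n1, n2⟩,
      X.cen_le_centralizer hg ((TO.X.Cn.mem_WZ X n1).1 ⟨n', n3, n4⟩)⟩
    have := H.fin
    have : Finite ↥((X.NN ⊓ GF F G) ⊓ centralizer {g}) :=
      Finite.of_injective _ (inclusion_injective (inf_le_left.trans inf_le_right))
    obtain ⟨s, o, ho, k5⟩ := Nat.exists_eq_two_pow_mul_odd (orderOf_pos (⟨n, n5⟩ : ↥((X.NN ⊓ GF F G) ⊓ centralizer {g}))).ne'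
    obtain ⟨i, hi⟩ := not_forall.1 fun e => (h5.subset ⟨ha.1, e⟩ : a ∈ (∅ : Set _))
    have k6 := abs5 (H := (X.NN ⊓ GF F G) ⊓ centralizer {g}) (D := D) (U := U)
      (fun x hx => ⟨⟨hN x (H.DC hx), hL.le hx⟩, fun _ e => e ▸ (hL.comm x hx).symm⟩) H.pg
      (fun P k1 k2 k3 => hL.syl P (fun _ hx => (k1 hx).1.2) k2 k3 fun x hx => ((k1 hx).2 g rfl).symm)
      (fun x hx => iU x hx.1) (fun x hx z hz => Lz0.comm_D H (H.DC hx) (hU hz)) (pow_mem n5 o) (j := s) (by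
        rw [← pow_mul, mul_comm, ← k5]
        exact congrArg Subtype.val (pow_orderOf_eq_one (⟨n, n5⟩ : ↥((X.NN ⊓ GF F G) ⊓ centralizer {g}))))
      (u := tv X (u i)) ⟨tv_mem _, (hL.le (hV (h3 i))).2, tv_sq _⟩
    have k7 := TO.X.Cn.rp_pow X n1 o
    obtain ⟨l, rfl⟩ := ho
    rw [pow_succ, pow_mul, sq, show X.rf a * X.rf (X.act w a) * (X.rf a * X.rf (X.act w a)) = 1 by
      rw [mul_assoc, ← mul_assoc (X.rf (X.act w a)), ← k3, mul_assoc, X.rf_mul_self hb.1, mul_one, X.rf_mul_self ha.1],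
      one_pow, one_mul] at k7
    refine not_ev h.toLS ha.1 hb.1 k2 hi (ev_of_dvd ((tv_eq_one hp).1 ?_))
    rw [tv_sub, ← conj_tv k7, k6, mul_inv_cancel_right, tv_sq]
  intro d hd
  obtain ⟨ζ, v, -, -, e⟩ := TO.X.Cn.exists_exp X (h9 hd)
  exact e ▸ mem_Z0 (fun b hb => (h4.subset (Sz_anti hV hb)).elim) ζ

end

end Cfsg.Agent.BH.R2.Z1
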