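import Cfsg.Agent.BH.Row2L.Defs
import Cfsg.Agent.BH.Row2L.Lz1
import Cfsg.Agent.BH.RowE.OutL
import Cfsg.Agent.KM.E2.E8
import Cfsg.Agent.KM.E2.L8
import Cfsg.Agent.KM.E2.P8
import Cfsg.Agent.KM.E2.P4
import Cfsg.Agent.KM.E2.D4
import Cfsg.Agent.KM.E2.TA
import Cfsg.Agent.KM.Tor.BF
import Cfsg.Agent.KM.Tr
import Cfsg.Agent.KM.Nt
import Cfsg.Agent.TO.X.Mult

/-!
# BH, `Row2L` : the row `E₈` (helper55)
-/

set_option autoImplicit false
set_option linter.unusedSectionVars false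

namespace Cfsg.Agent.BH.R2

open Cfsg Cfsg.Lie Subgroup Matrix Cfsg.Agent.TO Cfsg.Agent.KM Cfsg.Agent.DL Cfsg.Agent.KZ.Lie Cfsg.Agent.KZ.DatX
open Cfsg.Agent.Nodes.Reps Cfsg.Agent.Nodes.RGDChev
open Cfsg.Agent.KM.Ev (Om)
open Cfsg.Agent.KM.Ht (Toral)
open Cfsg.Agent.KM.Tor (Loc)
open Cfsg.Agent.KM.E2 (L8 P8 RT Ns up tv)
open Cfsg.Agent.KM.E2.E8 (HU)
open Cfsg.Agent.TO.X5 (ct ct_mem)
open Z1

namespace E8

variable {p : ℕ} [Fact p.Prime] {k : Type} [Field k] [CharP k p] {Y : Type} [Group Y] {N : Type} [Fintype N]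
  [DecidableEq N] {ρ : Y →* GL N k} {F : MulAut Y} {G : Subgroup Y} [IsAlgClosed k] {X : Datum p ρ F G}
  {D C Γ V : Subgroup Y} {e : ℕ} {w : X.W}

theorem tl_of (B : BoxLC) (hp : p ≠ 2) {a : ℕ} (h : LT X a) : TL X a := fun y hy hN =>
  have h1 := B.conj X a y hy hN h
  ⟨h1.sc, B.con _ a h1, B.lc _ hp a h1⟩

theorem exists_sub [Finite D] (h : IsPGroup 2 D) (n : ℕ) (h1 : 2 ^ n < Nat.card D) : ∃ V ≤ D, Nat.card V = 2 ^ (n + 1) := by
  have : Fact (Nat.Prime 2) := ⟨Nat.prime_two⟩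
  obtain ⟨m, hm⟩ := IsPGroup.iff_card.1 h
  obtain ⟨K, hK⟩ := Sylow.exists_subgroup_card_pow_prime (G := D) 2 (n := n + 1)
    (hm ▸ pow_dvd_pow 2 ((Nat.pow_lt_pow_iff_right one_lt_two).1 (hm ▸ h1)))
  exact ⟨_, map_subtype_le K, (card_map_of_injective D.subtype_injective).trans hK⟩

variable (X) in
/-- the local data of a block -/
structure Sit (D C Γ : Subgroup Y) : Prop where
  lz : Lz0 (GF F G) ⊥ D C Γ
  hu : HU X D
  loc : ∃ g, Loc 2 (GF F G) D g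
  tb : Toral X D → 4 < (Om D).ncard → C.relIndex Γ ≤ 1

theorem Sit.fin (S : Sit X D C Γ) (h : V ≤ D) : Finite V :=
  have := S.lz.fin
  Finite.of_injective _ (inclusion_injective (h.trans (A0.le S.lz)))

variable (hp : p ≠ 2) (h8 : L8 X)
include hp h8

/-- no toral subgroup of order eight consists of involutions of root type -/
theorem not_rt (hT : V ≤ X.T) (h1 : ∀ v ∈ V, v * v = 1) (h2 : Nat.card V = 2 ^ 3) (h3 : ∀ v ∈ V, v ≠ 1 → RT X v) : False := by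
  obtain ⟨u, h4, h5⟩ := E2.exists_basis (n := 3) hT h1 h2
  have h6 : ∀ ε : Fin 3 → ℤ, (¬ ∀ i, 2 ∣ ε i) → Ns X (ε 0 • u 0 + ε 1 • u 1 + ε 2 • u 2) := fun ε hε => by
    rw [← Fin.sum_univ_three fun i => ε i • u i, ← h8.rt_iff hp]
    exact h3 _ ((h4 _).2 ⟨ε, rfl⟩) fun e => hε (h5 ε e)
  have h7 : ∀ {x y : X.R → ℤ}, Ns X x → E2.Ev X (y - x) → Ns X y := fun ⟨b, hb, e⟩ e' =>
    ⟨b, hb, by simpa only [sub_add_sub_cancel] using e'.add e⟩
  obtain ⟨b, hb, e1⟩ := h6 ![1, 0, 0] (by decide)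
  obtain ⟨c, hc, e2⟩ := h6 ![0, 1, 0] (by decide)
  obtain ⟨d, hd, e3⟩ := h6 ![0, 0, 1] (by decide)
  refine h8.qf2 b c d hb hc hd (h7 (h6 ![1, 1, 0] (by decide)) ?_) (h7 (h6 ![1, 0, 1] (by decide)) ?_)
    (h7 (h6 ![0, 1, 1] (by decide)) ?_) (h7 (h6 ![1, 1, 1] (by decide)) ?_)
  · convert (e1.add e2).neg using 1
    simp only [cons_val_zero, cons_val_one, cons_val]; module
  · convert (e1.add e3).neg using 1
    simp only [cons_val_zero, cons_val_one, cons_val]; module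
  · convert (e2.add e3).neg using 1
    simp only [cons_val_zero, cons_val_one, cons_val]; module
  · convert ((e1.add e2).add e3).neg using 1
    simp only [cons_val_zero, cons_val_one, cons_val]; module

variable (hP : P8 X) (hI : E2.Inn X e w) (S : Sit X D C Γ)
include hP hI S

theorem tor_pure (h1 : 8 < (Om D).ncard) (h : E2.Pure X D) : Toral X D := by
  obtain ⟨g, hL⟩ := S.loc
  let W : Subgroup Y :=
    { carrier := Om D
      one_mem' := ⟨one_mem _, mul_one _⟩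
      mul_mem' := fun {a b} ha hb => ⟨mul_mem ha.1 hb.1, by
        rw [mul_assoc, ← mul_assoc b, S.lz.comm_D (S.lz.DC hb.1) ha.1, mul_assoc, hb.2, mul_one, ha.2]⟩
      inv_mem' := fun {a} ha => by rwa [inv_eq_of_mul_eq_one_right ha.2] }
  have h2 : W ≤ D := fun d hd => hd.1
  have := S.fin h2
  obtain ⟨V, h4, h5⟩ := exists_sub (S.lz.pg.to_le h2) 3 h1
  have h6 : V ≤ GF F G := h4.trans (h2.trans hL.le)
  have h7 : ∀ v ∈ V, v * v = 1 := fun v hv => (h4 hv).2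
  obtain ⟨x, hx, h9⟩ := E2.boxP4 X hp h8 hP V (fun v hv => (h6 hv).1) h7 (fun v hv => h v (h2 (h4 hv))) h5
  obtain ⟨y, hy, hN, h10, -⟩ := SB.Exc.Max.exists_conj_le_T X (Z := V) (fun z hz => by rwa [(mem_GF.1 (h6 hz)).2]) hx h9
  exact ⟨y, hy, hN, boxP50 _ hp (h8.conj hy hN) (hP.conj hy hN) e _ (hI.conj hy hN) D C Γ V g S.lz hL
    ((E2.Pure_conj hy hN).2 h) (h4.trans h2) h10 h7 h5⟩

theorem quad0 (h1 : 8 < (Om D).ncard) : C.relIndex Γ ≤ 3 := not_lt.1 fun h3 => by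
  have L := S.lz.lz h3
  refine absurd (S.tb ?_ (by omega)) (by omega)
  by_cases h2 : E2.Pure X D
  · exact tor_pure hp h8 hP hI S h1 h2
  · obtain ⟨t, ht, h3⟩ : ∃ t ∈ D, RT X t := by simpa only [E2.Pure, not_forall, not_not, exists_prop] using h2
    exact E2.E8.tor_root hp h8 hI L (E2.boxG _ _ _ _ _ _ L) E2.boxA1 E2.boxSat E2.boxTA (E2.boxD4_of E2.boxSat E2.boxTA) S.hu ht h3

theorem nos0 (hN : BoxP3n) (h1 : ∀ d ∈ D, d * d = 1) (h2 : 8 ≤ Nat.card D)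
    (h3 : ∀ u ∈ D, ∀ v ∈ D, u ≠ 1 → v ≠ 1 → RT X u → RT X v) (h4 : 3 ≤ C.relIndex Γ) (h5 : Nat.card D = 8 → 3 < C.relIndex Γ)
    (h6 : ∀ v ∈ D, (∀ x ∈ Γ, x * v * x⁻¹ = v) → v = 1) : False := by
  have := S.fin le_rfl
  have hD := A0.le S.lz
  by_cases h : E2.Pure X D
  · rcases h2.eq_or_lt with h7 | h7
    · obtain ⟨x, hx, h9⟩ := hN X hp h8 hP D (fun v hv => (hD hv).1) h1 h h7.symm
      obtain ⟨y, hy, hM, h10, -⟩ := SB.Exc.Max.exists_conj_le_T X (Z := D) (fun z hz => by rwa [(mem_GF.1 (hD hz)).2]) hx h9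
      exact E2.P3.p3_T hp (h8.conj hy hM) (hP.conj hy hM) (S.lz.lz (h5 h7.symm)) ((E2.Pure_conj hy hM).2 h) le_rfl h10 h1 S.lz.iv
        h7.symm h6
    · have h9 : (Om D).ncard = Nat.card D := congrArg Set.ncard (Set.ext fun d => and_iff_left_of_imp (h1 d))
      exact absurd (S.tb (tor_pure hp h8 hP hI S (h9 ▸ h7) h) (by omega)) (by omega)
  · obtain ⟨t, ht, h7⟩ : ∃ t ∈ D, RT X t := by simpa only [E2.Pure, not_forall, not_not, exists_prop] using h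
    have h9 : t ≠ 1 := by
      rintro rfl
      obtain ⟨a, ha, e⟩ := h7.eq (one_mem _)
      exact h8.ct_not hp ha (e ▸ one_mem _)
    obtain ⟨y, hy, hM, hA⟩ := boxA0 X hp h8.toLS ⊥ D C Γ S.lz bot_le
    obtain ⟨V, k1, k2⟩ := exists_sub S.lz.pg 2 (by omega)
    have k3 : ∀ v ∈ V, v ≠ 1 → RT (X.conj hy hM) v := fun v hv e => (E2.RT_conj hy hM).2 (h3 t ht v (k1 hv) h9 e h7)
    refine not_rt hp (h8.conj hy hM) (fun v hv => ?_) (fun v hv => h1 v (k1 hv)) k2 k3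
    by_cases e : v = 1
    · exact e ▸ one_mem _
    · obtain ⟨a, -, e'⟩ := hA.rt v (k1 hv) (k3 v hv e)
      exact e' ▸ ct_mem _ _

omit h8 hP hI S in
theorem sit (hB : BoxTB) (hT : TL X 1) {K : Type} [Group K] [Finite K] {σ : K →* GF F G} (hσ : Function.Bijective σ)
    {M : Ideal AlgInt} {b : Set (IrrCharacter K)} {Q : Subgroup K} {θ : K → ℂ} (h : Can 2 M b Q θ) :
    Sit X ((Q.map σ).map (GF F G).subtype) (((Ce Q).map σ).map (GF F G).subtype) (((In Q θ).map σ).map (GF F G).subtype) := by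
  have := X.amb.finite_GF G
  have : Fact (Nat.Prime 2) := ⟨Nat.prime_two⟩
  let ε := MulEquiv.ofBijective σ hσ
  let π := ε.symm.toMonoidHom
  have h1 : ∀ A : Subgroup K, (A.map σ).map (GF F G).subtype = up π A := fun A =>
    congrArg (map (GF F G).subtype) (map_equiv_eq_comap_symm' ε A)
  have h2 : ∀ x, π x = 1 ↔ (x : Y) ∈ (⊥ : Subgroup Y) := fun x => (map_eq_one_iff π ε.symm.injective).trans
    ⟨fun e => congrArg Subtype.val e, fun e => Subtype.ext e⟩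
  refine ⟨?_, ?_, ?_, fun k1 k2 => ?_⟩
  · rw [h1, h1, h1]
    exact lz0_of ε.symm.surjective bot_le h2 (fun z hz g _ => by rw [mem_bot.1 hz, one_mul, mul_one]) IsPGroup.of_bot h
  · obtain ⟨B, P, k1, k2, k3, -⟩ := up_quot h.hM π ε.symm.surjective
      (by rw [(MonoidHom.ker_eq_bot_iff π).2 ε.symm.injective, card_bot]; decide) h.hb h.hD
    rw [h1, ← k3, up, comap_map_eq_self_of_injective ε.symm.injective]
    exact fun _ _ _ => Uu.syl_of_block h.hM k1 k2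
  · have k1 := (MonoidHom.ker_eq_bot_iff ((GF F G).subtype.comp σ)).2 ((GF F G).subtype_injective.comp hσ.1)
    rw [Subgroup.map_map]
    exact Tor.boxLoc 2 K Y (GF F G) _ M b Q h.hM h.hb h.hD (fun x => (σ x).2) (k1 ▸ bot_le) (by rw [k1, card_bot]; decide)
      fun x e _ => (hσ.2 ⟨x, e⟩).imp fun _ e' => congrArg Subtype.val e'
  · rw [h1] at k1 k2
    rw [h1, h1, E2.relIndex_up ε.symm.surjective]
    have k3 := hB X hp 1 hT inferInstance K π M b Q θ _ ε.symm.surjective (fun x e => mem_bot.1 ((h2 x).1 e) ▸ one_mem _) h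
      (fun d => E2.mem_up.trans (exists_congr fun hd => (and_iff_left_of_imp fun e => (h.pg ⟨_, e⟩).imp fun j e' =>
        (h2 (⟨d, hd⟩ ^ 2 ^ j)).1 ((map_pow π _ _).trans (congrArg Subtype.val e'))).symm)) k1 k2
      ((In Q θ).map MulAut.conj) (map_comap_le _ _) (by
        rintro _ ⟨x, -, rfl⟩
        obtain ⟨x, rfl⟩ := ε.symm.surjective x
        refine ⟨x, ⟨x.2.1, by rw [(mem_GF.1 x.2).2, inv_mul_cancel]; exact one_mem _⟩, fun g g' e => ?_⟩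
        rw [show g' = x * g * x⁻¹ from Subtype.ext e, map_mul, map_mul, map_inv]
        rfl)
    rwa [← relIndex_comap, show (CQ Q).comap MulAut.conj = Ce Q from Subgroup.ext fun x =>
      (mem_fixingSubgroup_iff _).trans (forall₂_congr fun _ _ => mul_inv_eq_iff_eq_mul.trans eq_comm)] at k3

omit S in
theorem row (B : Bx) (hT : TL X 1) (h0 : OutC (GF F G)) (h1 : RO.NS (GF F G) 2) (hZ : TO.X.ZD 1 (GF F G))
    (hA : ∀ (γ : MulAut (GF F G)) (u : GF F G), RT X (u : Y) → RT X (γ u : Y)) : Row (GF F G) := by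
  have := X.amb.finite_GF G
  have hj := (GF F G).subtype_injective
  have h2 : ∀ (K : Type) [Group K] [Finite K] (σ : K →* GF F G) M b Q θ, QHyp 2 M b Q θ σ →
      Sit X ((Q.map σ).map (GF F G).subtype) ((Ce (Q.map σ)).map (GF F G).subtype) (((In Q θ).map σ).map (GF F G).subtype) :=
    fun K _ _ σ M b Q θ H => (B.t.loc _ K σ M b Q θ H).2.2.1 ▸ sit hp B.tb hT ⟨(MonoidHom.ker_eq_bot_iff σ).1 (H.ker.trans (card_eq_one.1
      (Nat.dvd_one.1 (hZ K σ H.qs.1.commutator_eq_top H.surj H.ker H.cyc)))), H.surj⟩ H.can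
  refine B.row_ns h0 h1 (fun K _ _ σ M b Q θ H => or_iff_not_imp_left.2 fun h => .inl ?_) fun K _ _ σ M b Q θ H Γ h => ?_
  · rw [← relIndex_map_map_of_injective _ _ hj]
    refine quad0 hp h8 hP hI (h2 K σ M b Q θ H) ((not_le.1 h).trans_eq ?_)
    rw [← Set.ncard_image_of_injective _ hj]
    exact congrArg _ (Set.ext fun y => ⟨fun ⟨x, hx, e⟩ => e ▸ ⟨⟨x, hx.1, rfl⟩, congrArg Subtype.val hx.2⟩,
      fun ⟨⟨x, hx, e⟩, e'⟩ => ⟨x, ⟨hx, hj (by rw [map_mul, e, e', map_one])⟩, e⟩⟩)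
  · obtain ⟨-, -, k1, k2⟩ := B.t.cor _ _ _ Γ h
    have k3 := h2 K σ M b Q θ H
    generalize Q.map σ = Q' at h k1 k2 k3
    generalize (In Q θ).map σ = E at h k1 k2 k3
    refine nos0 hp h8 hP hI k3 B.p3n ?_ ?_ ?_ ?_ ?_ ?_
    · rintro _ ⟨d, hd, rfl⟩
      exact congrArg Subtype.val (h.sq d hd)
    · rw [card_map_of_injective hj]; exact h.big
    · rintro _ ⟨u, hu, rfl⟩ _ ⟨v, hv, rfl⟩ e e' hr
      obtain ⟨α, -, rfl⟩ := h.tr u hu v hv (fun k => e (k ▸ rfl)) fun k => e' (k ▸ rfl)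
      exact hA α u hr
    · rwa [relIndex_map_map_of_injective _ _ hj]
    · rw [card_map_of_injective hj, relIndex_map_map_of_injective _ _ hj]
      exact fun e => by have := (k2 e).1; omega
    · rintro _ ⟨v, hv, rfl⟩ e
      exact congrArg Subtype.val (mem_bot.1 (h.fx ▸ mem_inf.2 ⟨hv, fun x hx => Subtype.ext (mul_inv_eq_iff_eq_mul.1 (e x ⟨x, hx, rfl⟩))⟩))

end E8

/-- **the row `E₈`** -/
theorem row_e8 (B : Bx) : RowFor KM.CE8 := by
  rintro S _ _ _ hS ⟨F, _, _, h2, ⟨i⟩⟩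
  obtain ⟨r, e, _, _, hr, he, hF⟩ := Nt.exists_char F h2
  obtain ⟨k, _, _, _, X, ⟨s⟩⟩ := (has_E8 hF).congr i
  let j : S ≃* GF X.F ⊤ := MulEquiv.ofBijective s.ov.hom
    ⟨s.ov.hom_inj, MonoidHom.range_eq_top.1 (index_eq_one.1 (Nat.dvd_one.1 (s.idx odd_one)))⟩
  have := j.symm.isSimpleGroup
  have := X.finite
  have h : CE8 2 (GF X.F ⊤) := ⟨F, inferInstance, inferInstance, h2, ⟨j.symm.trans i⟩⟩
  have h8 := E2.boxL8 r k _ X
  have hI : X.D.Mx = (r : ℤ) ^ e • X.D.Wm 1 := by rw [X.D.Wm_one]; rfl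
  refine Row.of_equiv j (E8.row hr.symm h8 (E2.boxP8 r k _ X) (w := 1) ⟨he, hI⟩ B (E8.tl_of B.lc hr.symm
    ⟨h8.toLS, ⟨e, _, 1, he, .inl rfl, hI⟩, (Fintype.card_fin 8).le, .inl ⟨rfl, fun _ => h8.ctr _⟩⟩) (outC_e8 h)
    (B.ns.e8 _ (fun c => hS ⟨⟨fun a b => j.injective (by rw [map_mul, map_mul, c.1.1])⟩⟩) h)
    (TO.X.zd_E8.congr (j.symm.trans i)) fun γ u ⟨y, _, a, ha, hy⟩ => ?_)
  obtain ⟨u, rfl⟩ := j.surjective u
  obtain ⟨g, -, α, _, h3, ⟨n, rfl⟩, h4⟩ := s.aut (j.trans (γ.trans j.symm))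
  have h5 : ((γ (j u) : GF X.F ⊤) : chevE8.group k) = g * α (j u) * g⁻¹ := by
    rw [← j.apply_symm_apply (γ (j u))]; exact h4 u
  have h7 : ∀ v : Fin 8 → ℤ, mon ((r : ℤ) ^ n • (1 : Matrix (Fin 8) (Fin 8) ℤ)) (coch v (-1 : kˣ)) = coch v (-1) := fun v => by
    rw [mon_coch, smul_mulVec, one_mulVec, coch_zsmul,
      (Odd.pow (Odd.natCast ((Fact.out : r.Prime).odd_of_ne_two hr.symm))).neg_one_zpow]
  have h6 : α (ct X.D a (-1)) = ct X.D a (-1) := (h3.tau _).trans (congrArg X.D.τ (h7 _))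
  refine ⟨g * α y, trivial, a, ha, ?_⟩
  rw [h5, ← h6, ← hy, map_mul, map_mul, map_inv]
  group

end Cfsg.Agent.BH.R2
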