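import Cfsg.Agent.BH.Row2L.RowG
import Cfsg.Agent.HZ.L.X.Bas

/-!
# BH (S4524), the prime `2`: the lattice facts for `F₄` (helper67)

**`tlF4 : TLF4`, `row_f4`**.
-/

set_option autoImplicit false
set_option linter.unusedSectionVars false
set_option maxRecDepth 100000

namespace Cfsg.Agent.BH.R2

open Cfsg Cfsg.Lie Subgroup Matrix Cfsg.Agent.KM.Ev Cfsg.Agent.KM.Tor
open Cfsg.Agent.KM.Ht (Z0)
open Cfsg.Agent.DL Cfsg.Agent.DL.PP Cfsg.Agent.KZ.Lie Cfsg.Agent.KZ.DatX Cfsg.Agent.Nodes.RGDChev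
  Cfsg.Agent.ChevalleyStructure.NPerm Cfsg.Agent.ChevalleyStructure.CoxeterGeom
  Cfsg.Agent.ChevalleyStructure.CoxeterGeomTypes Cfsg.Agent.Tits.Roots
open Cfsg.Agent.TO.X.Cn (χ_exp)

namespace G67

section Dat

variable {p : ℕ} [Fact p.Prime] {k : Type} [Field k] [CharP k p] {Y : Type} [Group Y] {N : Type} [Fintype N]
  [DecidableEq N] {ρ : Y →* GL N k} {F : MulAut Y} {G : Subgroup Y} [IsAlgClosed k] {X : Datum p ρ F G}

/-- **Steinberg**, adjoint type -/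
theorem stab_one {ϖ : X.I → X.R → ℤ} (hϖ : ∀ b i, X.wt b ⬝ᵥ ϖ i = b i) {c : Lbl X} (hc : Oo X c) (h : Rg X {b | X.Rt b} c)
    {u : X.W} (hu : Rel X u c c) : u = 1 := by
  obtain ⟨n, x, ω, h0, hω, hx⟩ := HZ.L.X.exists_log (p := 2) hc
  obtain ⟨β, hβ⟩ := exists_wt X x u
  have h1 : ∀ i, (n : ℤ) ∣ X.wt β i := fun i => by
    have := hu (Pi.single i 1)
    rwa [hx, hx, dotProduct_mulVec, hβ, add_dotProduct, _root_.zpow_add, mul_eq_left, hω.zpow_eq_one_iff_dvd,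
      dotProduct_single, mul_one] at this
  choose β' h3 using fun i => show (n : ℤ) ∣ β i from hϖ β i ▸ Finset.dvd_sum fun l _ => (h1 l).mul_right _
  obtain rfl : β = (n : ℤ) • β' := funext h3
  have hn : (0 : ℤ) < n := Int.natCast_pos.2 (Nat.pos_of_ne_zero fun e => h0 (e ▸ dvd_zero 2))
  obtain ⟨μ, hμ⟩ := LV.Lab.exists_small x hn
  refine mem_bot.1 (LV.Lab.mem_of_aff hn hμ (fun a ha h4 => (h a ha ?_).elim) u (β' + μ - X.act u⁻¹ μ) ?_)
  · rw [sub_dotProduct, smul_dotProduct, smul_eq_mul, dvd_sub_left (Dvd.intro _ rfl)] at h4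
    rwa [hx, hω.zpow_eq_one_iff_dvd]
  · rw [sub_vecMul, hβ, smul_vecMul, ← X.wt_act', map_sub, map_add, smul_sub, smul_add, map_zsmul]
    abel

/-- semisimple rank at most one -/
theorem at_small (hp : p ≠ 2) (h1 : ∀ a b, X.Rt a → X.Rt b → X.wt b = X.wt a ∨ X.wt b = -X.wt a)
    (h2 : ∀ a, X.Rt a → ∃ v, ¬ 2 ∣ X.wt a ⬝ᵥ v) : AT X := fun w c hw hc ho => by
  have h3 : ∀ a, ¬ X.Rt a := fun a ha => by
    obtain ⟨v, hv⟩ := h2 a ha
    obtain ⟨m, hm⟩ : Odd ((p : ℤ) ^ X.ex a) := (((Fact.out : p.Prime).odd_of_ne_two hp).natCast (R := ℤ)).pow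
    have h4 := wt_gw w ha
    obtain ⟨n, hn⟩ : ∃ n : ℤ, X.wt a ᵥ* (X.Wm w * X.Mx) = (2 * n + 1) • X.wt a := by
      rcases h1 a _ ha ((X.g_root a ha).act w) with e | e
      · exact ⟨m, by rw [← hm, ← h4]; exact congrArg (· ᵥ* _) e.symm⟩
      · refine ⟨-m - 1, ?_⟩
        rw [show X.wt (X.act w (X.g a)) = -X.wt a from e, neg_vecMul, neg_eq_iff_eq_neg, hm] at h4
        rw [h4]
        module
    have h5 : X.wt a ⬝ᵥ ((X.Wm w * X.Mx) *ᵥ v - v - (2 : ℤ) • n • v) = 0 := by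
      rw [dotProduct_sub, dotProduct_sub, dotProduct_mulVec, hn, smul_dotProduct, dotProduct_smul, dotProduct_smul]
      simp only [smul_eq_mul]
      ring
    obtain ⟨y, hy⟩ := hw v ⟨n • v, fun b hb => by
      rcases h1 a b ha hb with e | e
      · rw [e, h5]
      · rw [e, neg_dotProduct, h5, neg_zero]⟩
    have h6 := hy a ha
    rw [dotProduct_sub, dotProduct_smul, smul_eq_mul, sub_eq_zero] at h6
    exact hv ⟨_, h6⟩
  have h4 : ∀ u : X.W, u = 1 := fun u => by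
    obtain ⟨L, rfl⟩ := X.cs.wordProd_surjective u
    cases L with
    | nil => exact X.cs.wordProd_nil
    | cons i _ => exact (h3 _ (isRoot_sr X.cs X.h i)).elim
  obtain ⟨n, x, ω, -, -, hx⟩ := HZ.L.X.exists_log (p := 2) ho
  refine ⟨0, ⟨fun a ha => (h3 a ha).elim, hc, ω, x, fun a ha => (h3 a ha).elim, funext fun j => ?_⟩,
    fun u => ?_, fun u _ _ => ⟨1, one_mem _, (h4 _).trans (h4 _).symm⟩⟩
  · rw [← mul_one (x j), ← dotProduct_single, ← hx, chr_apply, Finset.prod_eq_single j (fun i _ e => by simp [e]) (by simp)]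
    simp
  · rw [h4 u]
    exact iff_of_true (fun v => by rw [X.Wm_one, one_mulVec]) (one_mem _)

variable (X) in
/-- the lattice facts -/
structure L4 : Prop where
  cow : ∃ ϖ : X.I → X.R → ℤ, ∀ b i, X.wt b ⬝ᵥ ϖ i = b i
  odd : ∀ a, X.Rt a → ∃ v, ¬ 2 ∣ X.wt a ⬝ᵥ v
  two : ∀ a, X.Rt a → ∀ b, X.Rt b → b = a ∨ b = -a ∨ ∃ m, (m = b ∨ (2 : ℤ) • m = b - a) ∧
    {x : X.R → ZMod 2 | c2 (X.wt a) ⬝ᵥ x = 0 ∧ c2 (X.wt m) ⬝ᵥ x = 0}.ncard ≤ 4

theorem L4.tl0 (h : L4 X) (hp : p ≠ 2) (hs : Sc X) : TL0 X 1 where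
  sc := hs
  con c hc hr := by
    obtain ⟨ϖ, hϖ⟩ := h.cow
    have : Subsingleton {u // Rel X u c c} :=
      ⟨fun u v => Subtype.ext ((stab_one hϖ hc hr u.2).trans (stab_one hϖ hc hr v.2).symm)⟩
    exact Finite.card_le_one_iff_subsingleton.2 this
  lc D hZ hF hD := by
    refine at_small hp (fun a b ha hb => ?_) fun a ha => h.odd _ ((X.sub_rt hZ hF rfl).1 ha).1
    have k1 := (X.sub_rt hZ hF rfl).1 ha
    have k2 := (X.sub_rt hZ hF rfl).1 hb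
    rcases h.two _ k1.1 _ k2.1 with e | e | ⟨m, e, h1⟩
    · exact .inl (congrArg X.wt e)
    · exact .inr ((congrArg X.wt e).trans (map_neg _ _))
    have h2 : Z0 X D ≤ Zc X {m} := (closure_le _).2 (by
      rintro _ ⟨v, ζ, hv, rfl⟩
      refine ⟨X.τ_mem _, fun _ e' => e' ▸ (χ_exp X m v ζ).2 ?_⟩
      have h3 : X.wt m ⬝ᵥ v = 0 := by
        rcases e with rfl | e
        · exact hv _ k2
        · have h3 := congrArg (X.wt · ⬝ᵥ v) e
          simp only [map_zsmul, map_sub, smul_dotProduct, sub_dotProduct, hv _ k1, hv _ k2, smul_eq_mul] at h3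
          omega
      rw [h3]
      exact dvd_zero _)
    refine absurd hD.rk (not_lt.2 (le_trans (Set.ncard_le_ncard (t := iw X '' _) (fun d hd => ?_) (Set.toFinite _))
      ((Set.ncard_image_le).trans h1)))
    obtain ⟨x, hx⟩ := exists_iw (X := X) (g := 1) (t := d) hp (by simpa using hZ hd.1) hd.2
    rw [inv_one, one_mul, mul_one] at hx
    exact ⟨x, ⟨(χ_iw hp _ x).1 (hx ▸ k1.2 d hd.1), (χ_iw hp _ x).1 (hx ▸ (h2 (hD.z0 hd.1)).2 m rfl)⟩, hx.symm⟩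

theorem L4.tl (h : L4 X) (hp : p ≠ 2) {e : ℕ} (he : 0 < e) (hs : X.Mx = (p : ℤ) ^ e • 1) : TL X 1 := fun y hy hN =>
  L4.tl0 (X := X.conj hy hN) ⟨h.cow, h.odd, h.two⟩ hp ⟨e, _, X.pr (y⁻¹ * F y), he, .inl rfl, by
    rw [X.conj_Mx, hs, mul_smul_comm, mul_one, TO.E6.conj_Wm X hy hN]⟩

end Dat

theorem f4_odd : ∀ s : Fin chevF4.nroots, ∃ i, ¬ 2 ∣ vec chevF4 4 s i := by decide +kernel

theorem f4_two : ∀ s t : Fin chevF4.nroots, vec chevF4 4 t = vec chevF4 4 s ∨ vec chevF4 4 t = -vec chevF4 4 s ∨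
    ∃ m ∈ [vec chevF4 4 t, fun i => (vec chevF4 4 t i - vec chevF4 4 s i) / 2],
      (m = vec chevF4 4 t ∨ (2 : ℤ) • m = vec chevF4 4 t - vec chevF4 4 s) ∧
      (Finset.univ.filter fun x : Fin 4 → ZMod 2 => c2 (vec chevF4 4 s) ⬝ᵥ x = 0 ∧ c2 m ⬝ᵥ x = 0).card ≤ 4 := by
  decide +kernel

end G67

open G67

theorem tlF4 : TLF4 := fun r e _ k _ _ _ X he hr => by
  refine L4.tl ⟨⟨fun i => Pi.single i 1, fun b i => (dotProduct_single _ _ _).trans (mul_one _)⟩, forall_rt X fun s => ?_,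
    forall_rt X fun s => forall_rt X fun t => ?_⟩ hr he rfl
  · obtain ⟨i, hi⟩ := f4_odd s
    have e : vec chevF4 4 s ⬝ᵥ Pi.single i 1 = vec chevF4 4 s i := by rw [dotProduct_single, mul_one]
    exact ⟨Pi.single i 1, fun h => hi (e ▸ h)⟩
  · exact (f4_two s t).imp_right (Or.imp_right fun ⟨m, _, h1, h2⟩ => ⟨m, h1, ncard_le h2⟩)

/-- **the row `F₄(q)`** -/
theorem row_f4 (B : Bx) : RowFor KM.CF4 := row_f4_of tlF4 B

end Cfsg.Agent.BH.R2
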