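import Cfsg.Agent.BH.Row2L.Defs
import Cfsg.Agent.KZ.Mts.Main

/-!
# BH (S4524), the prime `2` : the Deligne-Lusztig character is irreducible (helper60)

`SC.conj`, `SC.irr`, `boxSC : BoxSC`.
-/

set_option autoImplicit false
set_option linter.unusedSectionVars false

namespace Cfsg.Agent.BH.R2

open Cfsg Matrix Cfsg.Agent.DL Cfsg.Agent.DL.PP Cfsg.Agent.KZ.Lie Cfsg.Agent.Characters.Core

namespace SC

/-- Bessel with an integrality condition -/
theorem eq_of_dvd {H : Type} [Group H] [Fintype H] {χ R : H → ℂ} (hχ : IsIrrCharacter H χ) {t m : ℤ} {z : ℕ}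
    (h1 : classInner χ R = t) (h2 : classInner R χ = t) (h3 : classInner R R = z) (h0 : t ≠ 0) (h : t = z * m) :
    z = 1 ∧ (R = χ ∨ R = -χ) := by
  have h4 : classInner (R - (t : ℂ) • χ) (R - (t : ℂ) • χ) = ((z - t ^ 2 : ℤ) : ℝ) := by
    simp only [classInner_sub_left, classInner_sub_right, classInner_smul_left, classInner_smul_right, h1, h2, h3,
      classInner_irr_self hχ, map_intCast]
    push_cast
    ring
  have h5 : 0 ≤ (z : ℤ) - t ^ 2 := by
    rw [classInner_self_eq_ofReal, Complex.ofReal_inj] at h4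
    exact_mod_cast h4 ▸ mul_nonneg (inv_nonneg.2 (Nat.cast_nonneg _)) (Finset.sum_nonneg fun _ _ => Complex.normSq_nonneg _)
  have h6 : 0 < (z : ℤ) := lt_of_lt_of_le (sq_pos_of_ne_zero h0) (by omega)
  have h7 : 0 < m ^ 2 := sq_pos_of_ne_zero fun e => h0 (by rw [h, e, mul_zero])
  have h8 : (z : ℤ) = 1 := by
    rw [h, mul_pow] at h5
    have h8 := mul_le_mul_of_nonneg_left (show (1 : ℤ) ≤ m ^ 2 from h7) (sq_nonneg (z : ℤ))
    nlinarith
  have h9 : t ^ 2 = 1 := by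
    have := sq_pos_of_ne_zero h0
    omega
  rw [h8, h9, sub_self, Int.cast_zero, Complex.ofReal_zero] at h4
  have h10 := sub_eq_zero.1 (classInner_self_eq_zero h4)
  refine ⟨by exact_mod_cast h8, (sq_eq_one_iff.1 h9).imp (fun e => ?_) fun e => ?_⟩
  · rw [h10, e, Int.cast_one, one_smul]
  · rw [h10, e, Int.cast_neg, Int.cast_one, neg_smul, one_smul]

variable {p : ℕ} [Fact p.Prime] {k : Type} [Field k] [CharP k p] {Y : Type} [Group Y] {N : Type} [Fintype N]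
  [DecidableEq N] {ρ : Y →* GL N k} {F : MulAut Y} {G : Subgroup Y} [IsAlgClosed k] {X : Datum p ρ F G}

theorem conj {y : Y} (hy : y ∈ G) (hN : y⁻¹ * F y ∈ X.NN) (h : AT X) : AT (X.conj hy hN) := by
  have hw := X.rp_pr hN
  have e1 : ∀ w, (X.conj hy hN).Wm w * (X.conj hy hN).Mx = X.Wm (w * X.pr (y⁻¹ * F y)) * X.Mx := fun w => by
    rw [conj_Wm, X.conj_Mx, X.Wm_mul, mul_assoc]
  have od : ∀ w, Od (X.conj hy hN) w → Od X (w * X.pr (y⁻¹ * F y)) := fun w e v hv => e v (by rw [e1]; exact hv)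
  have fw : ∀ v, (X.conj hy hN).Fw v = X.pr (y⁻¹ * F y) * X.Fw v * (X.pr (y⁻¹ * F y))⁻¹ := fun v => by
    obtain ⟨m, hm, -⟩ := X.exists_rp v
    refine (X.conj hy hN).rp_unique ((X.conj_rp_iff hy hN).2 hm).mapF ?_
    have := (X.conj_rp_iff hy hN).2 ((hw.mul hm.mapF).mul hw.inv)
    convert this using 1
    rw [map_mul, map_mul, map_inv]
    group
  intro w c h1 h2 h3
  obtain ⟨lam, a1, a2, a3⟩ := h _ c (od w h1) (fun v => by rw [← e1]; exact h2 v) h3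
  refine ⟨lam, ⟨fun a ha e => ?_, h2, ?_⟩, fun u => ?_, fun u hu e => ?_⟩
  · have := a1.stab a ha e
    rwa [CF.act_mul] at this
  · obtain ⟨ξ, x, b1, b2⟩ := a1.cen
    exact ⟨ξ, x, fun a ha e => by rw [ApiC.conj_cor hy hN ha]; exact b1 a ha e, b2⟩
  · rw [ApiC.conj_Wl, ← a2]
    exact forall_congr' fun v => by rw [conj_Wm]
  · rw [ApiC.conj_Wl] at hu ⊢
    obtain ⟨v, hv, e'⟩ := a3 u hu (by rw [← mul_assoc]; exact od _ e)
    refine ⟨v, hv, ?_⟩
    show u * w * (X.conj hy hN).Fw v = v * w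
    rw [fw, ← mul_assoc, mul_inv_eq_iff_eq_mul, ← mul_assoc, mul_assoc u, mul_assoc v]
    exact e'

theorem irr (hA : AT X) (f : Fr X) [Fintype ↥(GF F G)] {χ : GF F G → ℂ} (hχ : IsIrrCharacter (GF F G) χ)
    (H : ∀ w c, classInner χ (RW f w c) ≠ 0 → Od X w ∧ Oo X c) {w : X.W} {c : Lbl X} (ht : classInner χ (RW f w c) ≠ 0) :
    (RW f w c = χ ∨ RW f w c = -χ) ∧ (∀ v, Tc X v w w → Rel X v c c → v = 1) ∧ Rg X {b | X.Rt b} c := by
  have hx : Fx X w c := by_contra fun e => ht (by rw [RW_zero f e, classInner_zero_right])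
  obtain ⟨lam, hL, hW, h1⟩ := hA w c (H w c ht).1 hx (H w c ht).2
  have := Fintype.ofFinite (Wl X lam)
  let q : Wl X lam → Wl X lam := fun v => ⟨v * w * (X.Fw v)⁻¹ * w⁻¹, (hW _).1 (hx.div (hx.rel ((hW _).2 v.2)) f.L)⟩
  have hq : ∀ v u : Wl X lam, q v = u ↔ Tc X v w (u * w) := fun v u => by
    rw [Subtype.ext_iff]
    show v * w * (X.Fw v)⁻¹ * w⁻¹ = u ↔ u * w * X.Fw v = v * w
    rw [mul_inv_eq_iff_eq_mul, mul_inv_eq_iff_eq_mul, eq_comm]
  have h2 : ∀ v u : Wl X lam, Tc X v w (u * w) → RW f (u * w) c = RW f w c := fun v u e => (RW_conj f e ((hW _).2 v.2)).symm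
  have h3 : ∀ u : Wl X lam, (Nat.card {v // q v = u} : ℂ) = classInner (RW f w c) (RW f (u * w) c) := fun u => by
    rw [RW_ip f hx (hx.mul ((hW _).2 u.2))]
    exact congrArg _ (Nat.card_congr ⟨fun v => ⟨v.1, (hq _ _).1 v.2, (hW _).2 v.1.2⟩,
      fun v => ⟨⟨v.1, (hW _).1 v.2.2⟩, (hq _ _).2 v.2.1⟩, fun _ => rfl, fun _ => rfl⟩)
  obtain ⟨t, t1, t2⟩ := LV.Lift.exists_int hχ (RW_gen f w c)
  obtain ⟨m, -, hm⟩ := LV.Lift.exists_int hχ (avg_levi KZ.Mts.boxExLin f lam w c hL)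
  have hz := RW_ip f hx hx
  have h4 := sum_fib q fun u => classInner (RW f (u * w) c) χ
  have h4' : ∀ u : Wl X lam, (Nat.card {v // q v = u} : ℂ) * classInner (RW f (u * w) c) χ =
      classInner (RW f w c) (RW f w c) * classInner (RW f (u * w) c) χ := fun u => by
    by_cases e : classInner χ (RW f (u * w) c) = 0
    · rw [← classInner_conj_symm χ, e, map_zero, mul_zero, mul_zero]
    · obtain ⟨v, hv, e'⟩ := h1 u u.2 (H _ _ e).1
      rw [h3, h2 ⟨v, hv⟩ u e']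
  rw [Finset.sum_congr rfl fun v _ => by rw [h2 v _ ((hq _ _).1 rfl), t2], Finset.sum_const, Finset.sum_congr rfl fun u _ => h4' u,
    ← Finset.mul_sum, Finset.card_univ, nsmul_eq_mul, ← Nat.card_eq_fintype_card, hz] at h4
  rw [show avg f (Wl X lam) (fun _ => 1) w c = (Nat.card (Wl X lam) : ℂ)⁻¹ • ∑ u : Wl X lam, RW f (u * w) c from
    funext fun g => by
      show (Nat.card (Wl X lam) : ℂ)⁻¹ * ∑ᶠ u : Wl X lam, 1 * RW f (u * w) c g = _
      simp only [one_mul, finsum_eq_sum_of_fintype, Pi.smul_apply, Finset.sum_apply, smul_eq_mul],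
    classInner_smul_left, classInner_sum_left, inv_mul_eq_iff_eq_mul₀ (Nat.cast_ne_zero.2 Nat.card_pos.ne')] at hm
  rw [hm, mul_left_comm, mul_right_inj' (Nat.cast_ne_zero.2 Nat.card_pos.ne')] at h4
  obtain ⟨h5, h6⟩ := eq_of_dvd hχ t1 t2 hz (fun e => ht (by rw [t1, e, Int.cast_zero])) (m := m) (by exact_mod_cast h4)
  have h7 : ∀ v, Tc X v w w → Rel X v c c → v = 1 := fun v e e' => congrArg Subtype.val
    ((Nat.card_eq_one_iff_unique.1 h5).1.elim ⟨v, e, e'⟩ ⟨1, tc_one w, rel_one X c⟩)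
  refine ⟨h6, h7, fun a ha e => ?_⟩
  have h8 : Function.Injective q := fun v v' e => by
    have e1 : (q v' : X.W) * w * X.Fw v = v * w := (hq _ _).1 e
    have e2 : (q v' : X.W) * w * X.Fw v' = v' * w := (hq _ _).1 rfl
    refine Subtype.ext (inv_mul_eq_one.1 (h7 _ ?_ ((hW _).2 (v'⁻¹ * v).2))).symm
    show w * X.Fw ((v' : X.W)⁻¹ * v) = (v' : X.W)⁻¹ * v * w
    rw [map_mul, map_inv, mul_assoc, ← e1, ← mul_inv_cancel_right ((q v' : X.W) * w) (X.Fw v'), e2]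
    group
  obtain ⟨v, hv⟩ := Finite.injective_iff_surjective.1 h8 ⟨_, (hW _).1 (rel_rf ha e)⟩
  have h9 := sg_tc X ((hq _ _).1 hv)
  rw [sg_mul, sg_eq X (X.rf a), sgZ_rf X ha] at h9
  rcases sg_sign X w with e | e <;> norm_num [e] at h9

end SC

/-- **[SC]** -/
theorem boxSC : BoxSC :=
  ⟨fun _ _ hy hN h => SC.conj hy hN h, fun _ _ hA f _ _ hχ H _ _ ht => SC.irr hA f hχ H ht⟩

end Cfsg.Agent.BH.R2
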