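import Cfsg.Agent.BH.Row2L.Defs
import Cfsg.Agent.TO.Kr
import Cfsg.Agent.BHZ.Nil.Lift
import Cfsg.Agent.Classification.TitsFin.TwoFEnd

/-!
# BH (S4524), the prime `2`: the box `BoxT` (helper87)
-/

set_option autoImplicit false

namespace Cfsg.Agent.BH.R2

open Cfsg Subgroup Cfsg.Agent.TO Cfsg.Agent.KM.BK Cfsg.Agent.BHZ.Nil
open Cfsg.Agent.KM.Sp (LocA)
open Cfsg.Agent.Classification.TitsFin.TwoFEnd (orb ncard_orb dvd_ncard)

namespace T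

section pure

variable {S : Type} [Group S] [Finite S] {Q E : Subgroup S} {Γ : Subgroup (MulAut S)}

omit [Finite S] in
theorem conj_mem (h : St Q E Γ) {t u : S} (ht : t ∈ E) (hu : u ∈ Q) : t * u * t⁻¹ ∈ Q :=
  (h.nrm _ ((h.inn t).2 ht) u).2 hu

omit [Finite S] in
theorem map_E (h : St Q E Γ) {α : MulAut S} (hα : α ∈ Γ) : E.map α.toMonoidHom = E := by
  have key : ∀ β ∈ Γ, ∀ s ∈ E, β s ∈ E := fun β hβ s hs => (h.inn _).1 (by
    rw [show MulAut.conj (β s) = β * MulAut.conj s * β⁻¹ from MulEquiv.ext fun x => by simp]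
    exact mul_mem (mul_mem hβ ((h.inn s).2 hs)) (inv_mem hβ))
  exact le_antisymm (map_le_iff_le_comap.2 (key α hα)) fun s hs => ⟨α⁻¹ s, key _ (inv_mem hα) s hs, α.apply_symm_apply s⟩

omit [Finite S] in
/-- all orbits have the same length -/
theorem idx_eq (h : St Q E Γ) {u v : S} (hu : u ∈ Q) (hv : v ∈ Q) (h1 : u ≠ 1) (h2 : v ≠ 1) :
    (Cu u).relIndex E = (Cu v).relIndex E := by
  obtain ⟨α, hα, e⟩ := h.tr u hu v hv h1 h2
  conv_rhs => rw [← map_E h hα, ← relIndex_comap]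
  congr 1
  ext x
  rw [mem_comap, mem_centralizer_singleton_iff, mem_centralizer_singleton_iff, ← e]
  exact ⟨fun k => by simpa using congrArg α k, fun k => α.injective (by simpa using k)⟩

theorem exists_d (h : St Q E Γ) : ∃ d, (∀ u ∈ Q, u ≠ 1 → (Cu u).relIndex E = d) ∧ d ≠ 1 ∧ d ∣ (Ce Q).relIndex E ∧
    ∀ X : Set S, (∀ x ∈ X, x ∈ Q ∧ x ≠ 1) → (∀ x ∈ X, ∀ k ∈ E, k * x * k⁻¹ ∈ X) → d ∣ X.ncard := by
  obtain ⟨u, hu, h1⟩ : ∃ u ∈ Q, u ≠ 1 := (Q.bot_or_exists_ne_one).resolve_left fun e => by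
    have := h.big
    rw [e, card_bot] at this
    omega
  refine ⟨_, fun v hv h2 => idx_eq h hv hu h2 h1, fun e => h1 (mem_bot.1 (h.fx.le ⟨hu, mem_centralizer_iff.2 fun t ht =>
    mem_centralizer_singleton_iff.1 (relIndex_eq_one.1 e ht)⟩)), relIndex_dvd_of_le_left _ (Cn.Ce_le_Cu hu),
    fun X h2 h3 => dvd_ncard h3 fun x hx => (idx_eq h hu (h2 x hx).1 h1 (h2 x hx).2).dvd⟩

omit [Finite S] in
theorem ncard_sharp (V : Subgroup S) : ((V : Set S) \ {1}).ncard = Nat.card V - 1 := by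
  rw [Set.ncard_sdiff_singleton_of_mem V.one_mem]
  rfl

omit [Finite S] in
theorem dvd_sharp {d : ℕ} (h : ∀ X : Set S, (∀ x ∈ X, x ∈ Q ∧ x ≠ 1) → (∀ x ∈ X, ∀ k ∈ E, k * x * k⁻¹ ∈ X) → d ∣ X.ncard)
    {V : Subgroup S} (h1 : V ≤ Q) (h2 : ∀ t ∈ E, ∀ v ∈ V, t * v * t⁻¹ ∈ V) : d ∣ Nat.card V - 1 :=
  ncard_sharp V ▸ h _ (fun _ hx => ⟨h1 hx.1, hx.2⟩) fun x hx k hk => ⟨h2 k hk x hx.1, mt conj_eq_one_iff.1 hx.2⟩

omit [Finite S] in
theorem le_of_idx {A B : Subgroup S} (h : E ⊓ A ≤ B) (e : A.relIndex E = B.relIndex E) (h0 : B.relIndex E ≠ 0) :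
    E ⊓ B ≤ A := by
  have h1 : A.subgroupOf E ≤ B.subgroupOf E := fun x hx => h ⟨x.2, hx⟩
  have h2 := relIndex_mul_index h1
  rw [show (A.subgroupOf E).index = (B.subgroupOf E).index from e] at h2
  exact fun x hx => relIndex_eq_one.1 ((Nat.mul_eq_right h0).1 h2) (show (⟨x, hx.1⟩ : E) ∈ B.subgroupOf E from hx.2)

/-- the stabiliser of the coset `w V` -/
def cs (E V : Subgroup S) (h : ∀ t ∈ E, ∀ v ∈ V, t * v * t⁻¹ ∈ V) (w : S) : Subgroup S where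
  carrier := {t | t ∈ E ∧ w⁻¹ * (t * w * t⁻¹) ∈ V}
  one_mem' := ⟨E.one_mem, by simp⟩
  mul_mem' := fun {s t} hs ht => ⟨E.mul_mem hs.1 ht.1, by
    rw [show w⁻¹ * (s * t * w * (s * t)⁻¹) = w⁻¹ * (s * w * s⁻¹) * (s * (w⁻¹ * (t * w * t⁻¹)) * s⁻¹) by group]
    exact V.mul_mem hs.2 (h s hs.1 _ ht.2)⟩
  inv_mem' := fun {t} ht => ⟨E.inv_mem ht.1, by
    rw [show w⁻¹ * (t⁻¹ * w * t⁻¹⁻¹) = t⁻¹ * (w⁻¹ * (t * w * t⁻¹))⁻¹ * t⁻¹⁻¹ by group]
    exact h _ (E.inv_mem ht.1) _ (V.inv_mem ht.2)⟩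

theorem not_s9 (h : St Q E Γ) : ¬ S9 Q E := by
  rintro ⟨h16, -, ⟨V, hV, h4, hi⟩, h3⟩
  obtain ⟨d, a1, a2, -, a4⟩ := exists_d h
  obtain rfl : d = 3 := ((Nat.dvd_prime Nat.prime_three).1 (by simpa [h4] using dvd_sharp a4 hV hi)).resolve_left a2
  have b1 : ∀ w ∈ Q, w ∉ V → cs E V hi w ≤ Cu w := fun w hw hw' => by
    have b0 : w ≠ 1 := fun e => hw' (e ▸ V.one_mem)
    have b2 : E ⊓ Cu w ≤ cs E V hi w := fun t ht => ⟨ht.1, by
      rw [mem_centralizer_singleton_iff.1 ht.2, mul_inv_cancel_right, inv_mul_cancel]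
      exact V.one_mem⟩
    have b3 := relIndex_dvd_of_le_left E b2
    rw [inf_relIndex_left, a1 w hw b0] at b3
    rcases (Nat.dvd_prime Nat.prime_three).1 b3 with e | e
    · have b4 := a4 ((w * ·) '' V) (by
        rintro _ ⟨v, hv, rfl⟩
        exact ⟨mul_mem hw (hV hv), fun e => hw' (by rw [eq_inv_of_mul_eq_one_left e]; exact V.inv_mem hv)⟩) (by
        rintro _ ⟨v, hv, rfl⟩ k hk
        exact ⟨_, V.mul_mem (relIndex_eq_one.1 e hk).2 (hi k hk v hv), by group⟩)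
      rw [Set.ncard_image_of_injective _ (mul_right_injective w), show (V : Set S).ncard = 4 from h4] at b4
      exact absurd b4 (by decide)
    · exact fun t ht => le_of_idx b2 ((a1 w hw b0).trans e.symm) (by omega) ⟨ht.1, ht⟩
  obtain ⟨u, hu, b2⟩ : ∃ u ∈ V, u ≠ 1 := (V.bot_or_exists_ne_one).resolve_left fun e => by
    rw [e, card_bot] at h4
    omega
  have b3 : ∀ w ∈ Q, w ∉ V → E ⊓ Cu u ≤ Cu w := fun w hw hw' => by
    have c1 : w * u ∉ V := fun e => hw' ((V.mul_mem_cancel_right hu).1 e)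
    have c2 : ∀ t ∈ E ⊓ Cu (w * u), t ∈ Cu w ∧ t ∈ Cu u := fun t ht => by
      have c3 := mem_centralizer_singleton_iff.1 ht.2
      have c4 : t ∈ Cu w := b1 w hw hw' ⟨ht.1, by
        rw [show w⁻¹ * (t * w * t⁻¹) = w⁻¹ * (t * (w * u)) * t⁻¹ * (t * u⁻¹ * t⁻¹) by group, c3,
          show w⁻¹ * (w * u * t) * t⁻¹ = u by group]
        exact V.mul_mem hu (hi t ht.1 _ (V.inv_mem hu))⟩
      refine ⟨c4, mem_centralizer_singleton_iff.2 (mul_left_cancel (a := w) ?_)⟩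
      rw [← mul_assoc, ← mem_centralizer_singleton_iff.1 c4, mul_assoc, c3, mul_assoc]
    have c3 := a1 u (hV hu) b2
    exact fun t ht => (c2 t ⟨ht.1, le_of_idx (fun t ht => (c2 t ht).2)
      ((a1 _ (mul_mem hw (hV hu)) fun e => c1 (e ▸ V.one_mem)).trans c3.symm) (by omega) ht⟩).1
  obtain ⟨w, hw, hw'⟩ : ∃ w ∈ Q, w ∉ V := SetLike.not_le_iff_exists.1 fun e => by
    have := card_le_of_le e
    omega
  have b4 : E ⊓ Cu u ≤ Ce Q := fun t ht => mem_centralizer_iff.2 fun x hx => by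
    by_cases e : x ∈ V
    · have c1 := mem_centralizer_singleton_iff.1 (b3 (w * x) (mul_mem hw hx) (fun k => hw' ((V.mul_mem_cancel_right e).1 k)) ht)
      refine mul_left_cancel (a := w) ?_
      rw [← mul_assoc, ← c1, ← mul_assoc, mem_centralizer_singleton_iff.1 (b3 w hw hw' ht), mul_assoc]
    · exact (mem_centralizer_singleton_iff.1 (b3 x hx e ht)).symm
  have b5 := relIndex_dvd_of_le_left E b4
  rw [inf_relIndex_left, a1 u (hV hu) b2] at b5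
  exact h3.not_ge (Nat.le_of_dvd three_pos b5)

theorem cor (h : St Q E Γ) : ¬ Ix Q E ∧ ¬ S9 Q E ∧ 3 ≤ (Ce Q).relIndex E ∧
    (Nat.card Q = 8 → 7 ≤ (Ce Q).relIndex E ∧ ∀ u ∈ Q, ∀ v ∈ Q, u ≠ 1 → v ≠ 1 → ∃ s ∈ E, s * u * s⁻¹ = v) := by
  obtain ⟨d, a1, a2, a3, a4⟩ := exists_d h
  have b1 := h.odd
  have b2 := Nat.le_of_dvd (Nat.pos_of_ne_zero fun e : (Ce Q).relIndex E = 0 => b1 (by rw [e]; exact dvd_zero 2)) a3
  have b3 : ¬ 2 ∣ d := fun e => b1 (e.trans a3)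
  refine ⟨fun ⟨R, h1, h2, h3⟩ => ?_, not_s9 h, by omega, fun h8 => ?_⟩
  · have h4 : R = ⊥ := le_bot_iff.1 fun r hr => h.fx.le ⟨h1 hr, mem_centralizer_iff.2 fun t ht =>
      mul_inv_eq_iff_eq_mul.1 (h3 t ht r hr)⟩
    have := h.big
    rw [h4, relIndex_bot_left] at h2
    omega
  · obtain rfl : d = 7 := ((Nat.dvd_prime (by norm_num)).1
      (by simpa [h8] using dvd_sharp a4 le_rfl fun t ht v hv => conj_mem h ht hv)).resolve_left a2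
    refine ⟨b2, fun u hu v hv h1 h2 => ?_⟩
    have h3 : orb E u = (Q : Set S) \ {1} := Set.eq_of_subset_of_ncard_le (by
      rintro _ ⟨k, hk, rfl⟩
      exact ⟨conj_mem h hk hu, mt conj_eq_one_iff.1 h1⟩) (by rw [ncard_sharp, ncard_orb, a1 u hu h1, h8])
    exact h3.ge ⟨hv, h2⟩

end pure

variable {K S : Type} [Group K] [Finite K] [Group S] {σ : K →* S} {M : Ideal AlgInt} {b : Set (IrrCharacter K)}
  {Q : Subgroup K} {θ : K → ℂ}

omit [Finite K] in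
theorem comm (H : QHyp 2 M b Q θ σ) {u g : K} (hu : u ∈ Q) (h : σ u * σ g = σ g * σ u) : u * g = g * u := by
  have := Fact.mk Nat.prime_two
  obtain ⟨n, h1⟩ := H.pg ⟨u, hu⟩
  exact CentPP.comm_of_pelt (p := 2) ⟨H.ker.le, by rw [H.ker]; exact H.zp⟩ (congrArg Subtype.val h1) h

omit [Finite K] in
theorem inj (H : QHyp 2 M b Q θ σ) {u v : K} (hu : u ∈ Q) (hv : v ∈ Q) (e : σ u = σ v) : u = v := by
  have := Fact.mk Nat.prime_two
  obtain ⟨n, h1⟩ := H.pg ⟨u * v⁻¹, mul_mem hu (inv_mem hv)⟩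
  exact mul_inv_eq_one.1 (CentPP.eq_one (p := 2) ⟨H.ker.le, by rw [H.ker]; exact H.zp⟩
    (by rw [map_mul, map_inv, e, mul_inv_cancel]) (congrArg Subtype.val h1))

theorem loc (H : QHyp 2 M b Q θ σ) : LocA 2 (Q.map σ) ∧ Nat.card (Q.map σ) = Nat.card Q ∧
    (Ce Q).map σ = Ce (Q.map σ) ∧ (Ce (Q.map σ)).relIndex ((In Q θ).map σ) = (Ce Q).relIndex (In Q θ) := by
  have := Fact.mk Nat.prime_two
  have h1 : (Ce Q).map σ = Ce (Q.map σ) := le_antisymm (by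
    rintro _ ⟨c, hc, rfl⟩ _ ⟨u, hu, rfl⟩
    rw [← map_mul, ← map_mul, hc u hu]) fun s hs => by
      obtain ⟨g, rfl⟩ := H.surj s
      exact ⟨g, fun u hu => comm H hu (hs _ ⟨u, hu, rfl⟩), rfl⟩
  refine ⟨(KM.Sp.locA_of_block H.can.hM H.hb H.can.hD (ab_iff.1 H.can.comm)).quot σ H.surj H.ker.le,
    (Nat.card_congr (Equiv.ofBijective (σ.subgroupMap Q) ⟨fun u v e => Subtype.ext (inj H u.2 v.2 (congrArg Subtype.val e)),
      σ.subgroupMap_surjective Q⟩)).symm, h1, ?_⟩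
  rw [← h1, ← relIndex_comap, comap_map_eq_self (H.ker.le.trans (center_le_centralizer _))]

theorem ex (H : QHyp 2 M b Q θ σ) (hn : ¬ NoT b Q θ) : ∃ Γ, St (Q.map σ) ((In Q θ).map σ) Γ := by
  have := Fact.mk Nat.prime_two
  simp only [NoT, Classical.not_imp, not_or] at hn
  obtain ⟨h1, h2, h3, -, h4⟩ := hn
  obtain ⟨a1, a2, a3, a4⟩ := loc H
  obtain ⟨f, f1, f2, -⟩ := H.exists_dn
  have f3 : ∀ k, f (MulAut.conj k) = MulAut.conj (σ k) := fun k => MulEquiv.ext (H.surj.forall.2 fun g => by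
    rw [← f1]; simp)
  obtain ⟨n, hn⟩ := IsPGroup.iff_card.1 H.pg
  have b0 : n ≠ 0 := fun e => h2 (card_eq_one.1 (by rw [hn, e, pow_zero]))
  refine ⟨(LA Q θ).map f, a1, a3 ▸ map_mono H.can.Ce_le_In, a4 ▸ H.can.idx, ?_, ?_, ?_, fun s => ⟨?_, ?_⟩, ?_, ?_⟩
  · rintro _ ⟨u, hu, rfl⟩
    by_cases e : u = 1
    · rw [e, map_one, mul_one]
    obtain ⟨z, hz⟩ := exists_prime_orderOf_dvd_card' (G := Q) 2 (hn ▸ dvd_pow_self 2 b0)
    rw [← orderOf_coe] at hz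
    obtain ⟨α, -, rfl⟩ := h1 z z.2 u hu (fun k => by simp [k] at hz) e
    rw [← map_mul, ← map_mul, ← pow_two, ← hz, pow_orderOf_eq_one, map_one, map_one]
  · have b1 : n ≠ 1 := fun e => by
      obtain ⟨z, hz, k⟩ := (Nat.card_eq_two_iff' (1 : Q)).1 (by rw [hn, e, pow_one])
      refine hz (Subtype.ext (mem_bot.1 (h3.le ⟨z.2, mem_centralizer_iff.2 fun t ht => mul_inv_eq_iff_eq_mul.1 ?_⟩)))
      exact congrArg Subtype.val (k ⟨_, (ht.1 z).2 z.2⟩ fun e =>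
        hz (Subtype.ext (conj_eq_one_iff.1 (congrArg Subtype.val e))))
    have b2 : n ≠ 2 := fun e => h4 (by rw [hn, e]; rfl)
    rw [a2, hn]
    exact (Nat.pow_le_pow_right two_pos (by omega) : 2 ^ 3 ≤ 2 ^ n)
  · rintro _ ⟨α, hα, rfl⟩ x
    refine ⟨fun ⟨y, hy, e⟩ => ⟨α⁻¹ y, ((inv_mem hα : α⁻¹ ∈ LA Q θ).1 y).2 hy, (f α).injective ?_⟩, ?_⟩
    · rw [← f1, MulAut.apply_inv_self, e]
    · rintro ⟨y, hy, rfl⟩
      exact ⟨α y, (hα.1 y).2 hy, f1 α y⟩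
  · rintro ⟨α, hα, e⟩
    obtain ⟨k, rfl⟩ := H.surj s
    exact ⟨k, (f2 (e.trans (f3 k).symm) ▸ hα : MulAut.conj k ∈ LA Q θ), rfl⟩
  · rintro ⟨k, hk, rfl⟩
    exact ⟨MulAut.conj k, hk, f3 k⟩
  · rintro _ ⟨u, hu, rfl⟩ _ ⟨v, hv, rfl⟩ k1 k2
    obtain ⟨α, hα, e⟩ := h1 u hu v hv (fun e => k1 (by rw [e, map_one])) fun e => k2 (by rw [e, map_one])
    exact ⟨f α, ⟨α, hα, rfl⟩, by rw [← f1, e]⟩
  · refine le_bot_iff.1 ?_
    rintro _ ⟨⟨u, hu, rfl⟩, k⟩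
    rw [mem_bot.1 (h3.le ⟨hu, fun t ht => (comm H hu (k _ ⟨t, ht, rfl⟩).symm).symm⟩), map_one]
    exact one_mem _

end T

/-- **[T]** -/
theorem boxT : BoxT :=
  ⟨fun _ _ _ _ _ _ _ _ _ _ H => T.ex H, fun _ _ _ _ _ _ _ _ _ _ H => T.loc H, fun _ _ _ _ _ _ h => T.cor h⟩

end Cfsg.Agent.BH.R2
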