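import Cfsg.Agent.BH.Row2L.Defs

/-!
# BH / Row2L : the block form of the toral bound (helper37)

`boxTB_of : BoxTor → BoxLam → BoxTB`; tools `TBx.conj_conj` (equality of data), `TBx.tl_conj`.
-/

set_option autoImplicit false
set_option linter.unusedSectionVars false

namespace Cfsg.Agent.BH.R2

open Cfsg Subgroup Matrix Cfsg.Agent.TO Cfsg.Agent.KM.BK Cfsg.Agent.BH.RO
open Cfsg.Agent.KM.Ev (Om)
open Cfsg.Agent.KM.Ht (Z0 Toral)
open Cfsg.Agent.DL Cfsg.Agent.DL.PP Cfsg.Agent.Nodes.Reps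

namespace TBx

section grp

variable {Y K : Type} [Group Y] [Group K]

theorem up_surj {H : Subgroup Y} [Finite H] {π : H →* K} (hπ : Function.Surjective π) {Q : Subgroup K} (hQ : IsPGroup 2 Q)
    {D : Subgroup Y} (hD : Up π Q D) {u : K} (hu : u ∈ Q) : ∃ h : H, (h : Y) ∈ D ∧ π h = u := by
  obtain ⟨h, rfl⟩ := hπ u
  obtain ⟨j, hj⟩ := hQ ⟨_, hu⟩
  obtain ⟨a, m, hm, e⟩ := Nat.exists_eq_two_pow_mul_odd (orderOf_pos h).ne'
  have h1 : π (h ^ m ^ (2 ^ j).totient) = π h := by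
    rw [map_pow, pow_eq_pow_of_modEq (Nat.ModEq.pow_totient (hm.coprime_two_right.pow_right j)) (congrArg Subtype.val hj :), pow_one]
  refine ⟨_, (hD _).2 ⟨(h ^ m ^ (2 ^ j).totient).2, h1.symm ▸ hu, a, ?_⟩, h1⟩
  rw [← Subgroup.coe_pow, ← pow_mul, OneMemClass.coe_eq_one, ← orderOf_dvd_iff_pow_eq_one, e, mul_comm]
  exact mul_dvd_mul_right (dvd_pow_self m (Nat.totient_pos.2 (by positivity)).ne') _

theorem iff_of_imp {A : Subgroup Y} {x : Y} (h1 : ∀ a ∈ A, x * a * x⁻¹ ∈ A) (h2 : ∀ a ∈ A, x⁻¹ * a * x ∈ A) (a : Y) :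
    x * a * x⁻¹ ∈ A ↔ a ∈ A := ⟨fun h => by simpa [mul_assoc] using h2 _ h, h1 a⟩

theorem relIndex_le_of {Γ : Type} [Group Γ] {U C : Subgroup Γ} {A B : Subgroup Y} (h0 : A.relIndex B ≠ 0) (f : U → B)
    (hf : ∀ α β : U, (f α : Y)⁻¹ * f β ∈ A → (α : Γ)⁻¹ * β ∈ C) : C.relIndex U ≤ A.relIndex B := by
  have : Finite (B ⧸ A.subgroupOf B) := Nat.finite_of_card_ne_zero h0
  refine Nat.card_le_card_of_injective (fun q : U ⧸ C.subgroupOf U => (f q.out : B ⧸ A.subgroupOf B)) fun q q' h => ?_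
  rw [← q.out_eq, ← q'.out_eq]
  exact QuotientGroup.eq.2 (hf _ _ (mem_subgroupOf.1 ((QuotientGroup.eq (s := A.subgroupOf B)).1 h)))

end grp

variable {p : ℕ} [Fact p.Prime] {k : Type} [Field k] [CharP k p] {Y : Type} [Group Y] {N : Type} [Fintype N]
  [DecidableEq N] {ρ : Y →* GL N k} {F : MulAut Y} {G : Subgroup Y} [IsAlgClosed k] (X : Datum p ρ F G)

section conj

variable {y y' : Y} (hy : y ∈ G) (hN : y⁻¹ * F y ∈ X.NN) (hy' : y' ∈ G) (hN' : y'⁻¹ * F y' ∈ (X.conj hy hN).NN)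

include hN' in
theorem mem_NN : (y' * y)⁻¹ * F (y' * y) ∈ X.NN := by
  rw [X.conj_NN, mem_cj] at hN'
  convert mul_mem hN' hN using 1
  rw [map_mul]
  group

include hN' in
theorem pr_eq : X.pr ((y' * y)⁻¹ * F (y' * y)) = (X.conj hy hN).pr (y'⁻¹ * F y') * X.pr (y⁻¹ * F y) := by
  have h1 := (X.conj hy hN).rp_pr hN'
  rw [show y'⁻¹ * F y' = y * (y⁻¹ * (y'⁻¹ * F y') * y) * y⁻¹ by group, X.conj_rp_iff] at h1
  have h2 := h1.mul (X.rp_pr hN)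
  rw [show y * (y⁻¹ * (y'⁻¹ * F y') * y) * y⁻¹ = y'⁻¹ * F y' by group] at h2
  refine Datum.Rp.pr_eq ?_
  convert h2 using 1
  rw [map_mul]
  group

theorem conj_Wm (w : X.W) : (X.conj hy hN).Wm w = X.Wm w := by
  obtain ⟨m, hm⟩ := exists_rp X.cs X.nsys w
  refine mon_inj (k := k) fun c => (X.conj hy hN).τ_inj ?_
  rw [← (X.conj hy hN).conj_τ ((X.conj_rp_iff hy hN).2 hm), X.conj_tau, X.conj_tau, ← X.conj_τ hm]
  group

/-- two conjugations are one -/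
theorem conj_conj : (X.conj hy hN).conj hy' hN' = X.conj (mul_mem hy' hy) (mem_NN X hy hN hN') := by
  have e1 : ((X.conj hy hN).conj hy' hN').τ = (X.conj (mul_mem hy' hy) (mem_NN X hy hN hN')).τ := MonoidHom.ext fun c => by
    rw [Datum.conj_tau, Datum.conj_tau, Datum.conj_tau]; group
  have e2 : ((X.conj hy hN).conj hy' hN').T = (X.conj (mul_mem hy' hy) (mem_NN X hy hN hN')).T := (cj_mul _ _ _).symm
  have e3 : ((X.conj hy hN).conj hy' hN').X = (X.conj (mul_mem hy' hy) (mem_NN X hy hN hN')).X := funext fun _ => (cj_mul _ _ _).symm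
  have e4 : ((X.conj hy hN).conj hy' hN').x = (X.conj (mul_mem hy' hy) (mem_NN X hy hN hN')).x := funext₂ fun a u => by
    rw [Datum.conj_x, Datum.conj_x, Datum.conj_x]; group
  have e5 : ((X.conj hy hN).conj hy' hN').n = (X.conj (mul_mem hy' hy) (mem_NN X hy hN hN')).n := funext fun i => by
    rw [Datum.conj_n, Datum.conj_n, Datum.conj_n]; group
  have e6 : ((X.conj hy hN).conj hy' hN').g = (X.conj (mul_mem hy' hy) (mem_NN X hy hN hN')).g := funext fun a => by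
    rw [Datum.conj_g, Datum.conj_g, Datum.conj_g, pr_eq X hy hN hN']
    simp only [Datum.act, map_mul, Module.End.mul_apply]
  have e7 : ((X.conj hy hN).conj hy' hN').Mx = (X.conj (mul_mem hy' hy) (mem_NN X hy hN hN')).Mx := by
    rw [Datum.conj_Mx, Datum.conj_Mx, Datum.conj_Mx, pr_eq X hy hN hN', X.Wm_mul, conj_Wm, Matrix.mul_assoc]
  unfold Datum.conj Datum.cjBy
  congr 1

end conj

theorem tl_conj {a : ℕ} (h : TL X a) {y : Y} (hy : y ∈ G) (hN : y⁻¹ * F y ∈ X.NN) : TL (X.conj hy hN) a := fun _ hy' hN' =>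
  (conj_conj X hy hN hy' hN').symm ▸ h _ _ _

theorem zg_comm {z : Y} (hz : z ∈ KM.E2.ZG X) {g : Y} (hg : g ∈ G) : g * z = z * g := by
  obtain ⟨c, rfl⟩ := (X.mem_T z).1 hz.1
  refine KZ.Lie.τ_central (fun b hb => Units.ext ?_) g hg
  have := hz.2 b hb
  rwa [X.χ_τ] at this

theorem ht_conj {x : Y} (hx : x ∈ Ht F G) {g : Y} (hg : F g = g) : F (x * g * x⁻¹) = x * g * x⁻¹ := by
  have e : F x = x * (x⁻¹ * F x) := by group
  rw [map_mul, map_mul, map_inv, hg, e, mul_assoc x, ← mem_center_iff.1 hx.2 g]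
  group

theorem ht_gf {x : Y} (hx : x ∈ Ht F G) {g : Y} (hg : g ∈ GF F G) : x * g * x⁻¹ ∈ GF F G :=
  ⟨G.mul_mem (G.mul_mem hx.1 hg.1) (G.inv_mem hx.1), ht_conj hx hg.2⟩

theorem gf_le : GF F G ≤ Ht F G := fun g hg => ⟨hg.1, by rw [show F g = g from hg.2, inv_mul_cancel]; exact one_mem _⟩

theorem cen_nrm {D : Subgroup Y} (hD : (D : Set Y) ⊆ X.T) {x : Y} (hx : x ∈ G) (h : ∀ d, x * d * x⁻¹ ∈ D ↔ d ∈ D) {g : Y}
    (hg : g ∈ X.cen D) : x * g * x⁻¹ ∈ X.cen D := by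
  have e : Nodes.Reps.cj x (G ⊓ centralizer (D : Set Y)) = G ⊓ centralizer (D : Set Y) := by
    ext z
    rw [mem_cj]
    refine and_congr ⟨fun k => by simpa [mul_assoc] using G.mul_mem (G.mul_mem hx k) (G.inv_mem hx),
      fun k => G.mul_mem (G.mul_mem (G.inv_mem hx) k) hx⟩ ⟨fun k d hd => ?_, fun k d hd => ?_⟩
    · have := k (x⁻¹ * d * x) ((h _).1 (by simpa [mul_assoc] using hd))
      calc d * z = x * (x⁻¹ * d * x * (x⁻¹ * z * x)) * x⁻¹ := by group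
        _ = _ := by rw [this]; group
    · have := k _ ((h d).2 hd)
      calc d * (x⁻¹ * z * x) = x⁻¹ * (x * d * x⁻¹ * z) * x := by group
        _ = _ := by rw [this]; group
  rw [← X.conn_eq_cen hD] at hg ⊢
  rw [← e, ← CF.cj_conn]
  exact ⟨g, hg, rfl⟩

theorem l_nrm {D : Subgroup Y} (hD : (D : Set Y) ⊆ X.T) {x : Y} (hx : x ∈ Ht F G) (h : ∀ d, x * d * x⁻¹ ∈ D ↔ d ∈ D) (g : Y) :
    x * g * x⁻¹ ∈ GF F (X.cen D) ↔ g ∈ GF F (X.cen D) :=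
  iff_of_imp (A := GF F (X.cen D)) (fun _ ha => ⟨cen_nrm X hD hx.1 h ha.1, ht_conj hx ha.2⟩) (fun a ha => by
    have h1 : ∀ d, x⁻¹ * d * x⁻¹⁻¹ ∈ D ↔ d ∈ D := fun d => by rw [← h]; simp [mul_assoc]
    have h2 : x⁻¹ * a * x⁻¹⁻¹ ∈ GF F (X.cen D) := ⟨cen_nrm X hD (G.inv_mem hx.1) h1 ha.1, ht_conj (inv_mem hx) ha.2⟩
    rwa [inv_inv] at h2) g

end TBx

open TBx in
/-- **[TB]** -/
theorem boxTB_of (hT : BoxTor) (hL : BoxLam) : BoxTB := by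
  intro p _ k _ _ Y _ N _ _ ρ F G _ X hp a tl fin K _ _ π M b Q θ D hπ hk hC hU ⟨y, hy, hN, hz⟩ rk U hU1 hU2
  have hDT : (D : Set Y) ⊆ (X.conj hy hN).T := hz.trans (KM.Ht.Z0_le_T _ _)
  have hDH : D ≤ GF F G := fun d hd => ((hU d).1 hd).1
  have hel : ∀ d ∈ D, ∃ j : ℕ, d ^ 2 ^ j = 1 := fun d hd => ((hU d).1 hd).2.2
  have hQ : IsPGroup 2 Q := Blocks.Basic.isPGroup_of_isDefectGroup hC.hD
  obtain ⟨lam, l1, -, l3⟩ := hL Y K (GF F G) (GF F ((X.conj hy hN).cen D)) D π M b Q θ hπ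
    (fun h hh => mem_center_iff.2 fun g => Subtype.ext (zg_comm X (hk h hh) g.2.1)) hC hU
    (fun d hd => ⟨Datum.T_le_cen _ _ (hDT hd), (hDH hd).2⟩)
    (fun g hg => ⟨⟨Datum.cen_le_G _ _ hg.1, hg.2⟩, Datum.cen_le_centralizer _ hDT hg.1⟩)
    (fun h hh => ⟨Datum.T_le_cen _ _ (by
      rw [X.conj_T, mem_cj, mul_assoc, ← zg_comm X (hk h hh) hy, inv_mul_cancel_left]
      exact (hk h hh).1), h.2.2⟩)
    (fun g hg ho => ⟨TO.E6.mem_cen_of_cop _ hDT hg.1.1 hg.2 (Nat.pos_of_ne_zero fun e => ho (by rw [e]; exact dvd_zero 2))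
      (fun z hz => (hel z hz).elim fun j hj => ⟨2 ^ j, ((Nat.prime_two.coprime_iff_not_dvd).2 ho).pow_left j, hj⟩)
      (by rw [pow_orderOf_eq_one]; exact one_mem _), hg.1.2⟩)
    (fun x hx h => l_nrm _ hDT (gf_le hx) h)
  obtain ⟨t1, t2⟩ := hT (X.conj hy hN) hp a (tl_conj X tl hy hN) fin D lam
    ⟨Finite.of_injective _ (inclusion_injective hDH), hDH, fun d => (hel d d.2).imp fun _ e => Subtype.ext e, hz, rk⟩ l1
  have key : ∀ α : U, ∃ x : ↥(Ht F G ⊓ In D lam), ∀ h h' : GF F G, (h' : Y) = x * h * (x : Y)⁻¹ → π h ∈ Q → π h' = (α : MulAut K) (π h) := by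
    intro α
    obtain ⟨x, hx, h1⟩ := hU2 α α.2
    have hH : ∀ h, x * h * x⁻¹ ∈ GF F G ↔ h ∈ GF F G :=
      iff_of_imp (fun _ => ht_gf hx) fun _ h => by simpa using ht_gf (inv_mem hx) h
    have hD : ∀ d, x * d * x⁻¹ ∈ D ↔ d ∈ D := fun d => by
      rw [hU, hU]
      have e : ∀ j : ℕ, (x * d * x⁻¹) ^ 2 ^ j = 1 ↔ d ^ 2 ^ j = 1 := fun j => by rw [conj_pow, conj_eq_one_iff]
      simp only [e]
      exact ⟨fun ⟨h, k1, k2⟩ => ⟨(hH d).1 h, ((hU1 α.2).1 _).1 (h1 ⟨d, (hH d).1 h⟩ ⟨_, h⟩ rfl ▸ k1), k2⟩,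
        fun ⟨h, k1, k2⟩ => ⟨(hH d).2 h, (h1 ⟨d, h⟩ ⟨_, (hH d).2 h⟩ rfl).symm ▸ ((hU1 α.2).1 _).2 k1, k2⟩⟩
    obtain ⟨c, c1, c2⟩ := l3 x hH hD (l_nrm _ hDT hx hD) fun h h' e => by rw [h1 h h' e, (hU1 α.2).2]
    refine ⟨⟨c * x, mul_mem (gf_le c.2) hx, c2⟩, fun h h' e hq => ?_⟩
    have e1 : h' = c * ⟨_, (hH h).2 h.2⟩ * c⁻¹ := Subtype.ext (by
      rw [e]
      simp [mul_assoc])
    rw [e1, map_mul, map_mul, map_inv, h1 h ⟨_, (hH h).2 h.2⟩ rfl, ← c1 _ (((hU1 α.2).1 _).2 hq), mul_inv_cancel_right]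
  choose f hf using key
  refine (relIndex_le_of t1 f fun α β h => ?_).trans t2
  rw [mem_fixingSubgroup_iff]
  intro u hu
  obtain ⟨d, hd, rfl⟩ := up_surj hπ hQ hU hu
  have e : (f β : Y) * d * (f β : Y)⁻¹ = f α * d * (f α : Y)⁻¹ := by
    have := h d hd
    calc _ = (f α : Y) * ((f α : Y)⁻¹ * f β * d) * (f β : Y)⁻¹ := by group
      _ = _ := by rw [← this]; group
  have e1 := hf α d ⟨_, ht_gf (f α).2.1 d.2⟩ rfl hu
  have e2 := hf β d ⟨_, ht_gf (f α).2.1 d.2⟩ e.symm hu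
  rw [MulAut.smul_def, MulAut.mul_apply, ← e2, e1, MulAut.inv_apply_self]

end Cfsg.Agent.BH.R2
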