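import Cfsg.Agent.BH.Row2L.Defs
import Cfsg.Agent.KM.Ht.Z
import Cfsg.Agent.KM.Tor.Kill
import Cfsg.Agent.KM.Ev.Two

/-!
# BH, the prime `2`: the inertial index of a toral defect group (helper2)

`boxTor_of : BoxWL → BoxLB → BoxSC → BoxTor`.
-/

set_option autoImplicit false
set_option linter.unusedSectionVars false

namespace Cfsg.Agent.BH.R2

open Cfsg Subgroup Matrix Cfsg.Agent.TO Cfsg.Agent.Nodes.Reps
open Cfsg.Agent.KM.Ht (Z0 mem_Z0 Z0_le_T cen_comm_Z0)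
open Cfsg.Agent.DL Cfsg.Agent.DL.PP Cfsg.Agent.DL.Uni Cfsg.Agent.DL.Asm Cfsg.Agent.DL.Mk Cfsg.Agent.KZ.Lie

namespace TF

variable {p : ℕ} [Fact p.Prime] {k : Type} [Field k] [CharP k p] {Y : Type} [Group Y] {N : Type} [Fintype N]
  [DecidableEq N] {ρ : Y →* GL N k} {F : MulAut Y} {G : Subgroup Y} [IsAlgClosed k] {X : Datum p ρ F G} {D M : Subgroup Y}
  {x : Y}

theorem comm (hx : x ∈ Ht F G) (y : Y) : MulAut.conj x (F y) = F (MulAut.conj x y) := by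
  rw [MulAut.conj_apply, MulAut.conj_apply, map_mul, map_mul, map_inv, ← mul_inv_cancel_left x (F x), mul_assoc x _ (F y),
    ← mem_center_iff.1 hx.2]
  group

theorem fix_iff (hx : x ∈ Ht F G) {y : Y} : F (x * y * x⁻¹) = x * y * x⁻¹ ↔ F y = y :=
  (comm hx y).congr_left.symm.trans (MulAut.conj x).injective.eq_iff

theorem GF_le : GF F G ≤ Ht F G := fun y hy => ⟨hy.1, by rw [show F y = y from hy.2, inv_mul_cancel]; exact one_mem _⟩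

theorem nrm_cen (hT : D ≤ X.T) (hx : x ∈ G) (hn : ∀ d, x * d * x⁻¹ ∈ D ↔ d ∈ D) : Nodes.Reps.cj x (X.cen D) = X.cen D := by
  rw [← X.conn_eq_cen hT, CF.cj_conn, cj_inf', cj_eq_of_mem hx]
  congr 2
  ext y
  rw [mem_cj]
  refine ⟨fun e a ha => ?_, fun e a ha => ?_⟩
  · have := e (x⁻¹ * a * x) ((hn _).1 (by simpa [mul_assoc] using ha))
    exact (MulAut.conj x⁻¹).injective (by simpa [mul_assoc] using this)
  · have := e _ ((hn a).2 ha)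
    exact (MulAut.conj x).injective (by simpa [mul_assoc] using this)

/-- the pairs of the centralizer are permuted by the normalizer -/
theorem pair (hT : (D : Set Y) ⊆ X.T) (hF : ∀ b ∈ X.Sz D, X.g b ∈ X.Sz D) (hx : x ∈ Ht F G)
    (hn : ∀ d, x * d * x⁻¹ ∈ D ↔ d ∈ D) {T V : Subgroup Y} (h : Pair (X.sub hT hF rfl) T V) :
    Pair (X.sub hT hF rfl) (Nodes.Reps.cj x T) (Nodes.Reps.cj x V) := by
  obtain ⟨y, hy, rfl, rfl, h1⟩ := h
  obtain ⟨c, hc, m, hm, -, e⟩ := X.exists_conj_form (s := fun a : D => (a : Y)) (t := fun a : D => x * a * x⁻¹)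
    (fun a => hT a.2) (fun a => hT ((hn a).2 a.2)) hx.1 fun a => by group
  have h2 : c ∈ X.cen D := by
    refine X.cen_anti (fun a ha => ?_) (X.S_le_cen _ hc)
    exact ⟨⟨x⁻¹ * a * x, (hn _).1 (by simpa [mul_assoc] using ha)⟩, by group⟩
  have h3 := nrm_cen hT hx.1 hn
  have h4 : Nodes.Reps.cj m (X.cen D) = X.cen D := by
    rw [eq_inv_mul_of_mul_eq e.symm, cj_mul, h3, cj_eq_of_mem (inv_mem h2)]
  obtain ⟨m', hm', h5⟩ := X.exists_cj_U_inf hT hF rfl hm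
  have h6 : x * y = x * y * x⁻¹ * c * m := by rw [mul_assoc _ c, ← e, inv_mul_cancel_right]
  refine ⟨x * y * x⁻¹ * c * m', mul_mem (mul_mem (h3.le (conj_mem_cj.2 hy)) h2) hm'.2, ?_, ?_, ?_⟩
  · rw [cj_mul _ m', ← cj_mul x y, X.sub_T, X.cj_T hm'.1, ← (congrArg _ (X.cj_T hm) : Nodes.Reps.cj (x * y * x⁻¹ * c) _ = _),
      ← cj_mul, ← h6]
  · rw [cj_mul _ m', ← cj_mul x y, X.sub_U, ← h5, ← (congrArg _ h4 : Nodes.Reps.cj m X.U ⊓ _ = _), ← cj_inf', ← cj_mul, ← h6]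
  · rw [Nodes.Reps.cj, Subgroup.map_map]
    conv_rhs => rw [← h1, Nodes.Reps.cj, Subgroup.map_map]
    exact congrArg (Subgroup.map · _) (MonoidHom.ext fun a => (comm hx a).symm)

section frame

variable {z : Y} (hT : D ≤ X.T) (hz : z ∈ X.cen D) (hN : z⁻¹ * F z ∈ X.NN)
include hT hz

theorem cj_eq {d : Y} (hd : d ∈ D) : z * d * z⁻¹ = d := by rw [← X.cen_le_centralizer hT hz d hd, mul_inv_cancel_right]

theorem Sz_conj : (X.conj (X.cen_le_G _ hz) hN).Sz D = X.Sz D := Set.ext fun a =>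
  and_congr_right fun _ => forall₂_congr fun d hd => by rw [← X.conj_χ _ hN a (hT hd), cj_eq hT hz hd]

theorem cen_conj : (X.conj (X.cen_le_G _ hz) hN).cen D = X.cen D := by
  rw [Datum.cen, X.conj_T, X.conj_S, ← cj_sup, Sz_conj hT hz hN]
  exact cj_eq_of_mem hz

theorem le_Z0 : Z0 X D ≤ Z0 (X.conj (X.cen_le_G _ hz) hN) D := by
  refine (closure_le _).2 ?_
  rintro _ ⟨v, a, h, rfl⟩
  have h1 := mem_Z0 (X := X.conj (X.cen_le_G _ hz) hN) (A := D) (v := v) (by rwa [Sz_conj hT hz hN]) a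
  rwa [X.conj_tau, cen_comm_Z0 X D hz (mem_Z0 h a), mul_inv_cancel_right] at h1

end frame

/-- a frame in which the character is a Deligne-Lusztig character of the torus of the frame -/
structure Gd (X : Datum p ρ F G) (E : Datum p ρ F M) (D : Subgroup Y) (lam θ : Y → ℂ) (c : Lbl X) (ν : (X.R → ℤ) → Y) :
    Prop where
  le : D ≤ X.T
  fx : ∀ d ∈ D, F d = d
  pg : IsPGroup 2 D
  eq : X.cen D = M
  pair : ∀ x ∈ Ht F G, (∀ d, x * d * x⁻¹ ∈ D ↔ d ∈ D) → ∀ T V, Pair E T V → Pair E (Nodes.Reps.cj x T) (Nodes.Reps.cj x V)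
  tor : X.T ∈ tori E
  lin : IsLin (X.T ⊓ GF F M) θ
  val : ∃ ε : ℂ, (ε = 1 ∨ ε = -1) ∧ ∀ g ∈ GF F M, R E X.T θ g = ε * lam g
  lab : ∀ v, θ (ν v) = chr v c
  mem : ∀ v, ν v ∈ X.T ⊓ GF F M
  sur : ∀ t ∈ X.T ⊓ GF F M, ∃ v, t = ν v
  act : ∀ n ∈ Ht F G, ∀ u, X.Rp u n → ∀ v, n * ν v * n⁻¹ = ν (X.Wm u *ᵥ v)
  frb : ∀ v, F (ν v) = ν (X.Mx *ᵥ v)
  syl : KM.Uu.SylIn F 2 X.T D

namespace Gd

variable {E : Datum p ρ F M} {lam θ : Y → ℂ} {c : Lbl X} {ν : (X.R → ℤ) → Y} (h : Gd X E D lam θ c ν)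
include h

theorem mem_iff (hx : x ∈ Ht F G) (hn : ∀ d, x * d * x⁻¹ ∈ D ↔ d ∈ D) (y : Y) : x * y * x⁻¹ ∈ GF F M ↔ y ∈ GF F M :=
  and_congr (by rw [← h.eq]; exact ((nrm_cen h.le hx.1 hn).symm ▸ Iff.rfl : _ ↔ _ ∈ Nodes.Reps.cj x (X.cen D)).trans conj_mem_cj)
    (fix_iff hx)

theorem R_conj (hx : x ∈ Ht F G) (hn : ∀ d, x * d * x⁻¹ ∈ D ↔ d ∈ D) : Nodes.Reps.cj x⁻¹ X.T ∈ tori E ∧
    ∀ g ∈ GF F M, R E (Nodes.Reps.cj x⁻¹ X.T) (fun t => θ (x * t * x⁻¹)) g = R E X.T θ (x * g * x⁻¹) := by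
  have h1 := h.pair _ (inv_mem hx) (fun d => by rw [← hn, inv_inv]; simp [mul_assoc]) _ _ (pair_Vof h.tor)
  refine ⟨h1.mem_tori, fun g hg => (R_eq' h1 _ g hg).trans (RV_map (α := MulAut.conj x) (comm hx) (fun y => ?_)
    (fun y => by rw [mem_cj, inv_inv]; rfl) (fun y => by rw [mem_cj, inv_inv]; rfl) θ g)⟩
  rw [← h.eq]
  exact ((nrm_cen h.le hx.1 hn).symm ▸ Iff.rfl : _ ↔ _ ∈ Nodes.Reps.cj x (X.cen D)).trans conj_mem_cj

theorem ip_one (hl : IsIrrCharacter (GF F M) fun g => lam g) {f : Y → ℂ} (hf : ∀ g ∈ GF F M, f g = R E X.T θ g) :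
    ip (GF F M) f (R E X.T θ) = 1 := by
  obtain ⟨ε, h1, h2⟩ := h.val
  have := finite_GF E
  have := Fintype.ofFinite (GF F M)
  rw [ip_congr (f' := ε • lam) (g' := ε • lam) (fun g hg => (hf g hg).trans (h2 g hg)) h2, ip_smul_left, ip_smul_right,
    ip_eq_classInner, show classInner (res (GF F M) lam) (res (GF F M) lam) = 1 from Characters.Core.classInner_irr_self hl]
  rcases h1 with rfl | rfl <;> simp

theorem gen (hl : IsIrrCharacter (GF F M) fun g => lam g) : GenPos (GF F M) X.T θ := fun m hm hc => by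
  have := finite_GF E
  have h1 := h.ip_one hl fun _ _ => rfl
  rw [(sys' E).ip_R_R h.tor h.tor h.lin h.lin, div_eq_one_iff_eq ((sys' E).cardT_ne _), Nat.cast_inj] at h1
  obtain ⟨t, ht⟩ := ((Nat.bijective_iff_injective_and_card (fun t : ↥(X.T ⊓ GF F M) =>
    (⟨⟨t, t.2.2⟩, (sys' E).conj_of_mem h.tor θ t.2⟩ : {a : GF F M // Conj (GF F M) X.T θ X.T θ a}))).2
      ⟨fun a b e => Subtype.ext (congrArg (fun a => a.1.1) e), h1.symm⟩).2 ⟨⟨m, hm⟩, hc⟩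
  exact (show (t : Y) = m from congrArg (fun a => a.1.1) ht) ▸ t.2.1

theorem exists_rel (hl : IsIrrCharacter (GF F M) fun g => lam g) (hx : x ∈ Ht F G ⊓ In D lam) :
    ∃ m ∈ M, ∃ u, X.Rp u (m * x⁻¹) ∧ Rel X u c c := by
  obtain ⟨h1, h2⟩ := h.R_conj hx.1 hx.2.1
  obtain ⟨ε, -, h3⟩ := h.val
  have h4 := h.ip_one hl fun g hg => (h2 g hg).trans ((h3 _ ((h.mem_iff hx.1 hx.2.1 g).2 hg)).trans
    ((congrArg _ (hx.2.2 g)).trans (h3 g hg).symm))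
  have h5 : ∀ t, x⁻¹ * t * x ∈ Nodes.Reps.cj x⁻¹ X.T ⊓ GF F M ↔ t ∈ X.T ⊓ GF F M := fun t => by
    rw [mem_inf, mem_inf, mem_cj, ← h.mem_iff hx.1 hx.2.1 (x⁻¹ * t * x)]
    simp [mul_assoc]
  have h6 : IsLin (Nodes.Reps.cj x⁻¹ X.T ⊓ GF F M) fun t => θ (x * t * x⁻¹) := IsLin.cj (h.lin.mono fun t ht => (h5 t).1 (mem_cj.1 ht))
  obtain ⟨m, hm, h7, h8⟩ : ∃ m ∈ GF F M, Conj (GF F M) (Nodes.Reps.cj x⁻¹ X.T) (fun t => θ (x * t * x⁻¹)) X.T θ m := by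
    by_contra! h7
    exact one_ne_zero (h4.symm.trans ((sys' E).ip_R_R_eq_zero h1 h.tor h6 h.lin h7))
  have hG : M ≤ G := h.eq ▸ X.cen_le_G _
  have h9 : m * x⁻¹ ∈ X.NN := X.mem_NN_of_conj (mul_mem (hG hm.1) (inv_mem hx.1.1)) fun t ht =>
    ((cj_mul _ _ _).trans h7).le (conj_mem_cj.2 ht)
  refine ⟨m, hm.1, _, X.rp_pr h9, fun v => Units.ext ?_⟩
  rw [← h.lab, ← h.lab, ← h.act _ (mul_mem (GF_le ⟨hG hm.1, hm.2⟩) (inv_mem hx.1)) _ (X.rp_pr h9)]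
  have h10 := h8 _ ((h5 _).2 (h.mem v))
  simp only [mul_assoc, mul_inv_cancel_left, mul_inv_cancel, mul_one, _root_.mul_inv_rev, inv_inv] at h10 ⊢
  exact h10

/-- the regular case -/
theorem bound (hl : IsIrrCharacter (GF F M) fun g => lam g) :
    (Ce D).relIndex (Ht F G ⊓ In D lam) ≠ 0 ∧ (Ce D).relIndex (Ht F G ⊓ In D lam) ≤ Nat.card {u // Rel X u c c} := by
  choose m hm u h1 h2 using fun x : ↥(Ht F G ⊓ In D lam) => h.exists_rel hl (inv_mem x.2)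
  have hM : M ≤ Ce D := h.eq ▸ X.cen_le_centralizer h.le
  have h3 : Function.Injective fun q : ↥(Ht F G ⊓ In D lam) ⧸ (Ce D).subgroupOf _ =>
      (⟨u q.out, h2 _⟩ : {u // Rel X u c c}) := fun q q' e => by
    rw [← q.out_eq, ← q'.out_eq]
    refine QuotientGroup.eq.2 fun d hd => ?_
    have h4 := (h1 q.out).unique ((show u q.out = u q'.out from congrArg Subtype.val e).symm ▸ h1 q'.out)
    have h5 := X.T_comm (h.le hd) h4
    have h6 := hM (mul_mem (inv_mem (hm q.out)) (hm q'.out)) _ ((q.out.2.2.1 d).2 hd)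
    change d * ((q.out : Y)⁻¹ * q'.out) = (q.out : Y)⁻¹ * q'.out * d
    generalize m q.out = a, m q'.out = b, (q.out : Y) = y, (q'.out : Y) = y' at h5 h6
    simp only [inv_inv, MulAut.conj_apply] at h5 h6
    have h7 : y⁻¹ * y' = (y⁻¹ * (a⁻¹ * b) * y)⁻¹ * ((a * y)⁻¹ * (b * y')) := by group
    have h8 : Commute d (y⁻¹ * (a⁻¹ * b) * y) :=
      calc _ = y⁻¹ * (y * d * y⁻¹ * (a⁻¹ * b)) * y := by group
        _ = _ := by rw [h6]; group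
    rw [h7]
    exact h8.inv_right.mul_right h5
  have := Finite.of_injective _ h3
  exact ⟨Nat.card_pos.ne', Nat.card_le_card_of_injective _ h3⟩

/-- no involution -/
theorem no_inv (hL : Lam (GF F G) (GF F M) D lam) {r : X.W} (h1 : r * r = 1) (h2 : X.Fw r = r) (h3 : Rel X r c c) :
    r = 1 := by
  obtain ⟨n, hn, h4⟩ := X.exists_rp_fix h2
  have hG : n ∈ GF F G := ⟨hn.mem_G, h4⟩
  have h5 : ∀ y ∈ GF F G ⊓ X.NN, ∀ d ∈ D, y * d * y⁻¹ ∈ D := fun y hy d hd =>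
    h.syl _ (X.conj_mem_T hy.2 (h.le hd)) ((fix_iff (GF_le hy.1)).2 (h.fx d hd))
      ((h.pg ⟨d, hd⟩).imp fun i hi => by rw [conj_pow, show d ^ 2 ^ i = 1 from congrArg Subtype.val hi, mul_one, mul_inv_cancel])
  have h6 : ∀ d, n * d * n⁻¹ ∈ D ↔ d ∈ D := fun d => ⟨fun hd => by
    simpa [mul_assoc] using h5 _ (inv_mem ⟨hG, r, hn⟩) _ hd, h5 n ⟨hG, r, hn⟩ d⟩
  have h7 : ∀ m ∈ GF F G, X.Rp r m → ∀ t ∈ X.T ⊓ GF F M, θ (m * t * m⁻¹) = θ t := fun m hm h7 t ht => by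
    obtain ⟨v, rfl⟩ := h.sur t ht
    rw [h.act m (GF_le hm) r h7, h.lab, h.lab, h3]
  obtain ⟨ε, h8, h9⟩ := h.val
  obtain ⟨j, h10, h11⟩ := hL.odd n ⟨hG, h6, fun g => by
    change lam (n * g * n⁻¹) = lam g
    by_cases hg : g ∈ GF F M
    · have h10 := (h.R_conj (GF_le hG) h6).2 g hg
      rw [X.cj_T (inv_mem ⟨r, hn⟩), (sys' E).R_congr h.tor (h7 n hG hn) g hg, h9 g hg,
        h9 _ ((h.mem_iff (GF_le hG) h6 g).2 hg)] at h10
      exact (mul_left_cancel₀ (by rcases h8 with rfl | rfl <;> simp) h10).symm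
    · rw [hL.zero g hg, hL.zero _ fun e => hg ((h.mem_iff (GF_le hG) h6 g).1 e)]⟩
  have h12 : X.Rp r (n ^ j) := by
    have h12 := KFacts.RgdDiag.rp_pow hn j
    obtain ⟨i, rfl⟩ := Nat.not_even_iff_odd.1 (even_iff_two_dvd.not.2 h10)
    rwa [pow_succ, pow_mul, sq, h1, one_pow, one_mul] at h12
  exact X.rp_unique h12 (rp_of_mem (h.gen hL.irr _ h11 ⟨X.cj_T ⟨r, h12⟩, h7 _ (pow_mem hG j) h12⟩))

theorem fx1 : Fx X 1 c := fun v => Units.ext <| by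
  rw [X.Wm_one, Matrix.one_mul, ← h.lab, ← h.lab, ← h.frb, show F (ν v) = ν v from (h.mem v).2.2]

end Gd

/-- the good frame -/
theorem exists_gd (LB : BoxLB) (SC : BoxSC) (hp : p ≠ 2) (hD : TD X D)
    (hA : ∀ (hZ : (D : Set Y) ⊆ X.T) (hF : ∀ b ∈ X.Sz D, X.g b ∈ X.Sz D), AT (X.sub hZ hF rfl)) {lam : Y → ℂ}
    (hL : Lam (GF F G) (GF F (X.cen D)) D lam) : ∃ (z : Y) (hz : z ∈ G) (hN : z⁻¹ * F z ∈ X.NN) (E : Datum p ρ F (X.cen D))
      (θ : Y → ℂ) (c : Lbl X) (ν : (X.R → ℤ) → Y), Gd (X.conj hz hN) E D lam θ c ν ∧ Oo X c ∧ Rg X (X.Sz D) c ∧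
        (X.conj hz hN).Sz D = X.Sz D := by
  have hT : D ≤ X.T := hD.z0.trans (Z0_le_T X D)
  have hF : ∀ b ∈ X.Sz D, X.g b ∈ X.Sz D := fun a => X.g_mem_Sz hT fun z hz => (hD.le hz).2.symm ▸ hz
  obtain ⟨y, hy, hN, hq⟩ := (X.sub hT hF rfl).exists_qs
  obtain ⟨f⟩ := nonempty_fr ((X.sub hT hF rfl).conj hy hN)
  have := X.amb.finite_GF (X.cen D)
  have := Fintype.ofFinite ↥(GF F (X.cen D))
  have h1 := LB _ hp hq f D (fun g => lam g) (fun d hd => ⟨X.T_le_cen _ (hT hd), (hD.le hd).2⟩) hD.pg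
    (hD.z0.trans ((closure_le _).2 (by
      rintro _ ⟨v, a, h, rfl⟩
      have h1 := mem_Z0 (X := (X.sub hT hF rfl).conj hy hN) (A := {1}) (v := v)
        (fun b hb => h _ ((X.sub_rt hT hF rfl).1 hb.1)) a
      rwa [Datum.conj_tau, show y * (X.sub hT hF rfl).τ _ = _ from cen_comm_Z0 X D hy (mem_Z0 h a),
        mul_inv_cancel_right] at h1))) hL.irr (fun d hd => hL.triv d hd) hL.deg
  obtain ⟨w, hw⟩ := KM.Uu.exists_w hq f (Blocks.Basic.irr_one_ne_zero hL.irr)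
  obtain ⟨c, hc⟩ : ∃ c, classInner (fun g : GF F (X.cen D) => lam g) (RW f w c) ≠ 0 := by
    by_contra! h2
    exact hw (finsum_eq_zero_of_forall_eq_zero h2)
  obtain ⟨h2, -, h3⟩ := SC.irr _ hq (SC.conj _ y hy hN (hA hT hF)) f _ hL.irr
    (fun w c h => ⟨(h1 w c h).1, (h1 w c h).2.1⟩) w c hc
  obtain ⟨-, h4, h5⟩ := h1 w c hc
  obtain ⟨h6, h7⟩ := th_spec f (LV.One.fx_of_ne f hc)
  have h8 := yw_mem _ w
  have h9 := yw_rp _ w
  have h10 := Tw_mem (D := (X.sub hT hF rfl).conj hy hN) w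
  have h11 := R_conj_datum hy hN ((X.sub hT hF rfl).tori_conj hy hN ▸ h10) (th f w c)
  rw [Datum.tori_conj] at h10
  unfold RW at h2
  unfold KZ.Lie.Tw at h2 h5 h6 h10 h11
  generalize yw ((X.sub hT hF rfl).conj hy hN) w = x at h2 h5 h6 h7 h8 h9 h10 h11
  have hz := mul_mem h8 hy
  have e : Nodes.Reps.cj x ((X.sub hT hF rfl).conj hy hN).T = Nodes.Reps.cj (x * y) X.T := (cj_mul x y _).symm
  have hN' : (x * y)⁻¹ * F (x * y) ∈ X.NN := (X.stable_iff (X.cen_le_G _ hz)).1 (e ▸ h10.choose_spec.2.1 ▸ h10.choose_spec.2.2)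
  replace e : Nodes.Reps.cj x ((X.sub hT hF rfl).conj hy hN).T = (X.conj (X.cen_le_G _ hz) hN').T := e
  have e' : ∀ a, (X.conj (X.cen_le_G _ hz) hN').τ a = x * ((X.sub hT hF rfl).conj hy hN).τ a * x⁻¹ := fun a => by
    change x * y * X.τ a * (x * y)⁻¹ = x * (y * X.τ a * y⁻¹) * x⁻¹
    group
  refine ⟨x * y, X.cen_le_G _ hz, hN', X.sub hT hF rfl, th f w c, c,
    fun v => nrm F f.d ((X.conj (X.cen_le_G _ hz) hN').τ (coch v f.ζ)), ⟨KM.Uu.le_cj hT hz, fun d hd => (hD.le hd).2, hD.pg,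
      cen_conj hT hz hN', fun a ha hn _ _ => pair hT hF ha hn, e ▸ h10, e ▸ h6, ?_, fun v => ?_, fun v => ?_, fun t ht => ?_,
      fun n hn u hu v => ?_, fun v => ?_, e ▸ h5⟩, h4, fun a ha => ?_, Sz_conj hT hz hN'⟩
  · rw [e] at h2 h11
    rcases h2 with h2 | h2
    · exact ⟨1, .inl rfl, fun g hg => (h11 g hg).symm.trans ((congrFun h2 ⟨g, hg⟩).trans (one_mul _).symm)⟩
    · exact ⟨-1, .inr rfl, fun g hg => (h11 g hg).symm.trans ((congrFun h2 ⟨g, hg⟩).trans (neg_one_mul _).symm)⟩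
  · rw [e']
    exact h7 v
  · rw [e']
    exact e ▸ nrm_mem f.L f.hζ h8 h9 v
  · simp only [e']
    exact exists_nrm f.L f.hζ h8 h9 (e ▸ ht)
  · rw [← mon_coch, ← Datum.conj_τ _ hu]
    exact (nrm_map (α := MulAut.conj n) (comm hn) _ _).symm
  · rw [← mon_coch, ← Datum.F_τ, nrm_map (α := F) fun _ => rfl]
  · obtain ⟨b, hb, rfl⟩ := (X.io_roots D).ge ha
    have h12 := h3 b hb
    rwa [KM.Tor.conj_cor, KM.Ev.sub_cor hT hF hb] at h12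

theorem core (WL : BoxWL) (LB : BoxLB) (SC : BoxSC) (hp : p ≠ 2) {a : ℕ} (h0 : TL0 X a) (hD : TD X D) {lam : Y → ℂ}
    (hL : Lam (GF F G) (GF F (X.cen D)) D lam) :
    (Ce D).relIndex (Ht F G ⊓ In D lam) ≠ 0 ∧ (Ce D).relIndex (Ht F G ⊓ In D lam) ≤ a := by
  obtain ⟨z, hz, hN, E, θ, c, ν, h, h1, h2, h3⟩ := exists_gd LB SC hp hD (fun hZ hF => h0.lc D hZ hF hD) hL
  obtain ⟨e, m, φ, k1, k2, k3⟩ := h0.sc
  rcases WL (X.conj hz hN) hp ⟨e, m, X.pr (z⁻¹ * F z) * φ, k1, k2, by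
    rw [Datum.conj_Mx, KM.Tor.conj_Wm', k3, X.Wm_mul, Matrix.mul_smul]⟩ D c hD.fin hD.pg h.le h.fx h.fx1
    (fun b hb => by rw [KM.Tor.conj_cor]; exact h2 b (h3 ▸ hb)) with h4 | ⟨r, h4, h5, h6, h7⟩
  · refine (h.bound hL.irr).imp_right fun h5 => h5.trans (le_of_eq_of_le ?_ (h0.con c h1 fun b hb => ?_))
    · simp only [PP.Rel, KM.Tor.conj_Wm']
    · have h6 := h4 b hb
      rwa [KM.Tor.conj_cor] at h6
  · exact (h4 (h.no_inv hL h5 h6 h7)).elim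

end TF

open TF in
/-- **[TOR]** -/
theorem boxTor_of (WL : BoxWL) (LB : BoxLB) (SC : BoxSC) : BoxTor := by
  intro p _ k _ _ Y _ N _ _ ρ F G _ X hp a h _ D lam hD hL
  have hT : D ≤ X.T := hD.z0.trans (Z0_le_T X D)
  have hN : (1 : Y)⁻¹ * F 1 ∈ X.NN := by rw [map_one, inv_one, one_mul]; exact one_mem _
  refine core WL LB SC hp (h 1 (X.cen_le_G _ (one_mem (X.cen D))) hN)
    ⟨hD.fin, hD.le, hD.pg, hD.z0.trans (le_Z0 hT (one_mem _) hN), hD.rk⟩ ?_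
  rwa [cen_conj hT (one_mem _) hN]

end Cfsg.Agent.BH.R2
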