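import Cfsg.Agent.BH.Row2L.Defs

/-!
# BH / Row2L : an involution in the stabiliser of the label (helper24)

`boxWL`.  The roots of maximal height for a generic invariant form are mutually orthogonal.
-/

set_option autoImplicit false
set_option linter.unusedSectionVars false
set_option linter.style.haveILetI false
set_option maxHeartbeats 400000

namespace Cfsg.Agent.BH.R2

open Cfsg Subgroup Matrix Cfsg.Agent.DL Cfsg.Agent.DL.PP Cfsg.Agent.KZ.Lie Cfsg.Agent.KZ.DatX Cfsg.Agent.Nodes.Reps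
  Cfsg.Agent.Nodes.Coroot Cfsg.Agent.Tits.Roots Cfsg.Agent.ChevalleyStructure.CoxeterGeom

namespace WLa

theorem two_pow_dvd {m : ℤ} (hm : Odd m) (k : ℕ) : (2 : ℤ) ^ k ∣ m ^ 2 ^ k - 1 := by
  induction k with
  | zero => simp
  | succ k ih =>
    rw [show m ^ 2 ^ (k + 1) - 1 = (m ^ 2 ^ k - 1) * (m ^ 2 ^ k + 1) by rw [pow_succ, pow_mul]; ring, pow_succ]
    exact mul_dvd_mul ih (hm.pow.add_one).two_dvd

/-- a fixed involution -/
theorem exists_inv {W : Type} [Group W] [Finite W] {H : Subgroup W} {g : W} (hg : ∀ u ∈ H, g * u * g⁻¹ ∈ H) {k : ℕ}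
    (h : 2 ∣ Nat.card ↥(H ⊓ centralizer {g ^ 2 ^ k})) : ∃ r ∈ H, r ≠ 1 ∧ r * r = 1 ∧ g * r = r * g := by
  classical
  let f : Function.End ↥(H ⊓ centralizer {g ^ 2 ^ k}) := fun u => ⟨g * u * g⁻¹, hg _ u.2.1, mem_centralizer_singleton_iff.2 (by
    have h1 := mem_centralizer_singleton_iff.1 u.2.2
    rw [mul_assoc, ((Commute.refl g).inv_left.pow_right _).eq, ← mul_assoc, mul_assoc g, h1, ← mul_assoc,
      ((Commute.refl g).pow_right _).eq]
    group)⟩
  have h1 : ∀ (n : ℕ) u, ((f ^ n) u : W) = g ^ n * u * (g ^ n)⁻¹ := fun n u => by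
    induction n with
    | zero => simp; rfl
    | succ n ih =>
      rw [pow_succ']
      show g * ((f ^ n) u : W) * g⁻¹ = _
      rw [ih, pow_succ']
      group
  letI := Fintype.ofFinite ↥(H ⊓ centralizer {g ^ 2 ^ k})
  have h2 := Equiv.Perm.card_fixedPoints_modEq (f := f) (p := 2) (n := k) (funext fun u => Subtype.ext (by
    rw [h1, ← mem_centralizer_singleton_iff.1 u.2.2, mul_inv_cancel_right]
    rfl))
  have h3 : Nat.card f.fixedPoints = Nat.card ↥(H ⊓ centralizer {g}) := Nat.card_congr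
    ⟨fun u => ⟨u.1, u.1.2.1, mem_centralizer_singleton_iff.2 (eq_mul_of_mul_inv_eq (congrArg Subtype.val u.2)).symm⟩,
      fun u => ⟨⟨u, u.2.1, mem_centralizer_singleton_iff.2 (Commute.pow_right (mem_centralizer_singleton_iff.1 u.2.2) _)⟩,
        Subtype.ext (mul_inv_eq_of_eq_mul (mem_centralizer_singleton_iff.1 u.2.2).symm)⟩, fun _ => rfl, fun _ => rfl⟩
  rw [← Nat.card_eq_fintype_card, ← Nat.card_eq_fintype_card, h3] at h2
  obtain ⟨r, hr⟩ := exists_prime_orderOf_dvd_card' 2 ((h2.dvd_iff dvd_rfl).1 h)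
  refine ⟨r, r.2.1, fun e => ?_, ?_, (mem_centralizer_singleton_iff.1 r.2.2).symm⟩
  · rw [show r = 1 from Subtype.ext e, orderOf_one] at hr
    omega
  · rw [← coe_mul, ← sq, ← hr, pow_orderOf_eq_one, coe_one]

variable {p : ℕ} [Fact p.Prime] {k : Type} [Field k] [CharP k p] {Y : Type} [Group Y] {N : Type} [Fintype N]
  [DecidableEq N] {ρ : Y →* GL N k} {F : MulAut Y} {G : Subgroup Y} [IsAlgClosed k] (X : Datum p ρ F G)

/-- an invariant form which vanishes only on the roots of the centraliser -/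
theorem exists_form {A : Subgroup Y} (hA : A ≤ X.T) [Finite A] {l : ℕ} (hP : IsPGroup l A) {w : X.W}
    (hw : ∀ x ∈ A, ∀ a, X.χ (X.act w a) x = X.χ a x) {n : ℕ} (hn : n.Coprime l) (hj : w ^ n = 1) :
    ∃ g : (X.I → ℤ) →+ ℤ, (∀ a, g (X.act w a) = g a) ∧ ∀ a, X.Rt a → g a = 0 → a ∈ X.Sz A := by
  have := Fintype.ofFinite A
  choose ζ f hζ hf using fun x : A => CF.exists_log X (hA x.2)
  have h1 : ∀ x ∈ A, ∀ i a, X.χ (X.act (w ^ i) a) x = X.χ a x := by
    intro x hx i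
    induction i with
    | zero => intro a; rw [pow_zero, CF.act_one]
    | succ i ih => intro a; rw [pow_succ, CF.act_mul, ih, hw x hx]
  let f' : A → (X.I → ℤ) →+ ℤ := fun x => ∑ i ∈ Finset.range n, (f x).comp (rep X.cs X.h (w ^ i)).toAddMonoidHom
  have hf' : ∀ x a, f' x a = ∑ i ∈ Finset.range n, f x (X.act (w ^ i) a) := fun x a =>
    AddMonoidHom.finsetSum_apply _ _ _
  obtain ⟨g, h2, h3⟩ := KM.Ht.exists_generic X Finset.univ f' w fun x _ a => by
    rw [hf', hf']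
    have h2 := Finset.sum_range_succ (fun i => f x (X.act (w ^ i) a)) n
    have h3 := Finset.sum_range_succ' (fun i => f x (X.act (w ^ i) a)) n
    simp only [hj, pow_zero] at h2 h3
    simp only [← CF.act_mul, ← pow_succ]
    omega
  refine ⟨g, h2, fun a ha h0 => ⟨ha, fun x hx => ?_⟩⟩
  have h4 : ∀ n, ζ ⟨x, hx⟩ ^ (∑ i ∈ Finset.range n, f ⟨x, hx⟩ (X.act (w ^ i) a)) = X.χ a x ^ n := by
    intro n
    induction n with
    | zero => simp
    | succ n ih => rw [Finset.sum_range_succ, zpow_add₀ (hζ _), ih, ← hf, h1 x hx, pow_succ]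
  have h5 : X.χ a x ^ n = 1 := by rw [← h4, ← hf', h3 a ha h0 _ (Finset.mem_univ _), zpow_zero]
  obtain ⟨j, h6⟩ := hP ⟨x, hx⟩
  have h7 : ∀ i : ℕ, X.χ a (x ^ i) = X.χ a x ^ i := by
    intro i
    induction i with
    | zero => rw [pow_zero, pow_zero, X.χ_one]
    | succ i ih => rw [pow_succ, pow_succ, X.χ_mul a (hA (pow_mem hx i)) (hA hx), ih]
  have h8 : X.χ a x ^ l ^ j = 1 := by rw [← h7, show x ^ l ^ j = 1 from congrArg Subtype.val h6, X.χ_one]
  have h9 := pow_gcd_eq_one.2 ⟨h5, h8⟩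
  rwa [hn.pow_right j, pow_one] at h9

/-- the product of the reflections in mutually orthogonal roots -/
theorem exists_prod {H : Subgroup X.W} (S : Finset (X.I → ℤ)) (h1 : ∀ a ∈ S, X.Rt a) (h2 : ∀ a ∈ S, X.rf a ∈ H)
    (h3 : ∀ a ∈ S, ∀ b ∈ S, a ≠ b → cp X a b = 0) : ∃ r ∈ H, ∀ x, X.act r x = x - ∑ b ∈ S, cp X x b • b := by
  classical
  induction S using Finset.induction_on with
  | empty => exact ⟨1, one_mem _, fun x => by rw [CF.act_one, Finset.sum_empty, sub_zero]⟩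
  | insert b S hb ih =>
    obtain ⟨r, hr, h4⟩ := ih (fun a ha => h1 a (Finset.mem_insert_of_mem ha)) (fun a ha => h2 a (Finset.mem_insert_of_mem ha))
      fun a ha c hc => h3 a (Finset.mem_insert_of_mem ha) c (Finset.mem_insert_of_mem hc)
    have h5 := h1 b (Finset.mem_insert_self _ _)
    refine ⟨X.rf b * r, mul_mem (h2 b (Finset.mem_insert_self _ _)) hr, fun x => ?_⟩
    have h6 : ell X.cs X.h h5 (∑ c ∈ S, cp X x c • c) = 0 := by
      rw [map_sum]
      exact Finset.sum_eq_zero fun c hc => by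
        rw [map_zsmul, ell_apply, show cpr X.cs X.h c b = 0 from
          h3 c (Finset.mem_insert_of_mem hc) b (Finset.mem_insert_self _ _) fun e => hb (e ▸ hc), smul_zero]
    rw [CF.act_mul, h4, X.act_rf h5, ← ell_apply X.cs X.h h5, map_sub, h6, sub_zero, ell_apply, Finset.sum_insert hb]
    abel

/-- the centraliser has even order -/
theorem even_cen {H : Subgroup X.W} {Ψ : Set (X.I → ℤ)} (h1 : ∀ a ∈ Ψ, X.Rt a) (h2 : ∀ a ∈ Ψ, X.rf a ∈ H)
    (h3 : ∀ a ∈ Ψ, ∀ b ∈ Ψ, X.act (X.rf b) a ∈ Ψ) (hne : Ψ.Nonempty) {w : X.W} (hw : ∀ a ∈ Ψ, X.act w a ∈ Ψ)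
    {g : (X.I → ℤ) →+ ℤ} (h4 : ∀ a, g (X.act w a) = g a) (h5 : ∀ a ∈ Ψ, g a ≠ 0) : 2 ∣ Nat.card ↥(H ⊓ centralizer {w}) := by
  classical
  have hf : Ψ.Finite := X.finite_roots.subset h1
  obtain ⟨a, ha, hm⟩ := Set.exists_max_image Ψ g hf hne
  have hS : ∀ b, b ∈ hf.toFinset.filter (fun b => g b = g a) ↔ b ∈ Ψ ∧ g b = g a := fun b => by
    rw [Finset.mem_filter, hf.mem_toFinset]
  generalize hf.toFinset.filter (fun b => g b = g a) = S at hS
  have h6 : 0 < g a := by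
    have h7 := hm _ (h3 a ha a ha)
    have h8 := h5 a ha
    rw [X.act_rf_self (h1 a ha), map_neg] at h7
    omega
  have h7 : ∀ b ∈ S, ∀ c ∈ S, 0 ≤ cp X b c ∧ cp X b c ≠ 1 := fun b hb c hc => by
    obtain ⟨e1, e2⟩ := (hS b).1 hb
    obtain ⟨e3, e4⟩ := (hS c).1 hc
    have e5 := hm _ (h3 b e1 c e3)
    have e6 := h5 _ (h3 b e1 c e3)
    rw [X.act_rf (h1 c e3), map_sub, map_zsmul, e2, e4, smul_eq_mul] at e5 e6
    exact ⟨by nlinarith, fun e => e6 (by rw [show cpr X.cs X.h b c = 1 from e, one_mul, sub_self])⟩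
  have h8 : ∀ b ∈ S, ∀ c ∈ S, b ≠ c → cp X b c = 0 := fun b hb c hc e => by
    obtain ⟨e1, e2⟩ := (hS b).1 hb
    obtain ⟨e3, e4⟩ := (hS c).1 hc
    have e5 : cp X b c * cp X c b < 4 := Base.cpr_mul_lt (h1 b e1) (h1 c e3) e fun e => by
      rw [e, map_neg] at e2
      omega
    have e6 : cp X b c = 0 ↔ cp X c b = 0 := cpr_zero_comm _ _ (h1 b e1) (h1 c e3)
    have e7 := h7 b hb c hc
    have e8 := h7 c hc b hb
    by_contra e9
    have : 2 ≤ cp X b c := by omega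
    have : 2 ≤ cp X c b := by omega
    nlinarith
  obtain ⟨r, hr, h9⟩ := exists_prod X S (fun b hb => h1 b ((hS b).1 hb).1) (fun b hb => h2 b ((hS b).1 hb).1) h8
  have hi : Function.Injective (X.act w) := fun x y e => by rw [← act_inv_act X w x, e, act_inv_act]
  have hm' : Set.MapsTo (X.act w) S S := fun b hb => (hS _).2 ⟨hw b ((hS b).1 hb).1, (h4 b).trans ((hS b).1 hb).2⟩
  have h10 : r * w = w * r := by
    refine mul_inv_eq_one.1 (X.act_eq_one fun i => ?_)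
    rw [CF.act_mul]
    generalize hx : X.act (w * r)⁻¹ (sr i) = x
    rw [← act_act_inv X (w * r) (sr i), hx, CF.act_mul, CF.act_mul, h9, h9]
    refine Eq.trans ?_ (map_sub (rep X.cs X.h w) _ _).symm
    rw [map_sum]
    congr 1
    refine (Finset.sum_nbij (X.act w) hm' hi.injOn ((S.finite_toSet.injOn_iff_bijOn_of_mapsTo hm').1 hi.injOn).surjOn
      fun b hb => ?_).symm
    rw [map_zsmul, ← cp_act X w x (h1 b ((hS b).1 hb).1)]
  have h11 : X.act r a = -a := by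
    rw [h9, Finset.sum_eq_single a (fun b hb e => by rw [h8 a ((hS a).2 ⟨ha, rfl⟩) b hb e.symm, zero_smul])
      fun e => (e ((hS a).2 ⟨ha, rfl⟩)).elim, cp, cpr_self _ _ (h1 a ha), two_smul]
    abel
  have h12 : ∀ n : ℕ, g (X.act (r ^ n) a) = (-1) ^ n * g a := fun n => by
    induction n with
    | zero => rw [pow_zero, CF.act_one, pow_zero, one_mul]
    | succ n ih => rw [pow_succ, CF.act_mul, h11, Datum.act, map_neg, map_neg, ← Datum.act, ih, pow_succ]; ring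
  by_contra h13
  have h14 := h12 (Nat.card ↥(H ⊓ centralizer {w}))
  rw [show r ^ Nat.card ↥(H ⊓ centralizer {w}) = 1 from congrArg Subtype.val
    (pow_card_eq_one' (x := (⟨r, hr, mem_centralizer_singleton_iff.2 h10⟩ : ↥(H ⊓ centralizer {w})))), CF.act_one,
    (Nat.odd_iff.2 (Nat.two_dvd_ne_zero.1 h13)).neg_one_pow] at h14
  omega

end WLa

open WLa in
/-- **[WL]** -/
theorem boxWL : BoxWL := by
  intro p _ k _ _ Y _ N _ _ ρ F G _ X hp ⟨e, m, φ, _, hm, hM⟩ D c _ hD hT hF hc hR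
  refine or_iff_not_imp_left.2 fun hn => ?_
  have ho : Odd m := by
    have : Odd ((p : ℤ) ^ e) := (((Fact.out : p.Prime).odd_of_ne_two hp).natCast (R := ℤ)).pow
    rcases hm with rfl | rfl
    exacts [this, this.neg]
  have h1 : ∀ v, chr (X.Wm φ⁻¹ *ᵥ v) c = chr v c ^ m := fun v => by
    rw [← hc, X.Wm_one, one_mul, hM, mulVec_mulVec, smul_mul_assoc, ← X.Wm_mul, mul_inv_cancel, X.Wm_one, smul_mulVec,
      one_mulVec, chr_zsmul]
  let H : Subgroup X.W := ⟨⟨⟨{u | Rel X u c c}, fun ha hb => hb.trans ha⟩, rel_one X c⟩, fun ha => ha.symm⟩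
  haveI := Fact.mk Nat.prime_two
  obtain ⟨j, hj⟩ := IsPGroup.iff_card.1 hD
  obtain ⟨i, o, h2, h3⟩ := Nat.exists_eq_pow_mul_and_not_dvd (orderOf_pos φ⁻¹).ne' 2 (by norm_num)
  obtain ⟨g, h4, h5⟩ := exists_form X hT hD (w := φ⁻¹ ^ 2 ^ (i + j)) (n := o) (fun x hx a => by
    obtain ⟨t, rfl⟩ := (X.mem_T x).1 (hT hx)
    have e1 : mon X.Mx t = t := X.τ_inj (by rw [← X.F_τ, hF _ hx])
    have e2 : ∀ n : ℕ, chr (X.wt (X.act (φ⁻¹ ^ n) a)) t ^ m ^ n = chr (X.wt a) t := fun n => by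
      induction n with
      | zero => rw [pow_zero, pow_zero, zpow_one, CF.act_one]
      | succ n ih =>
        rw [pow_succ', CF.act_mul, X.wt_act', pow_succ', _root_.zpow_mul, ← chr_zsmul m, ← vecMul_smul, ← hM, ← chr_mon, e1, ih]
    have e3 : t ^ 2 ^ (i + j) = 1 := X.τ_inj (by
      rw [map_pow, map_one, pow_add, mul_comm, pow_mul, ← hj,
        show X.τ t ^ Nat.card D = 1 from congrArg Subtype.val (pow_card_eq_one' (x := (⟨_, hx⟩ : D))), one_pow])
    obtain ⟨s, hs⟩ := two_pow_dvd ho (i + j)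
    rw [X.χ_τ, X.χ_τ, ← e2 (2 ^ (i + j)), eq_add_of_sub_eq hs, _root_.zpow_add_one, _root_.zpow_mul,
      show (2 : ℤ) ^ (i + j) = (2 ^ (i + j) : ℕ) by norm_cast, _root_.zpow_natCast, ← map_pow, e3, map_one, _root_.one_zpow, one_mul])
    ((Nat.Prime.coprime_iff_not_dvd Nat.prime_two).2 h2).symm
    (by rw [← pow_mul, pow_add, mul_right_comm, ← h3, pow_mul, pow_orderOf_eq_one, one_pow])
  have h6 : ∀ (n : ℕ) a, X.Rt a ∧ chr (X.cor a) c = 1 → X.Rt (X.act (φ⁻¹ ^ n) a) ∧ chr (X.cor (X.act (φ⁻¹ ^ n) a)) c = 1 := fun n a ha => by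
    induction n with
    | zero => rwa [pow_zero, CF.act_one]
    | succ n ih => exact ⟨ha.1.act _, by rw [pow_succ', CF.act_mul, X.cor_act _ ih.1, h1, ih.2, _root_.one_zpow]⟩
  obtain ⟨r, h7, h8, h9, h10⟩ := exists_inv (H := H) (g := φ⁻¹) (k := i + j)
    (fun u hu v => by
      rw [X.Wm_mul, X.Wm_mul, ← mulVec_mulVec, ← mulVec_mulVec, h1, hu, ← h1, mulVec_mulVec, ← X.Wm_mul, mul_inv_cancel, X.Wm_one,
        one_mulVec])
    (even_cen X (Ψ := {a | X.Rt a ∧ chr (X.cor a) c = 1}) (fun _ h => h.1) (fun _ h => rel_rf h.1 h.2)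
      (fun a ha b hb => ⟨ha.1.act _, by rw [X.cor_act _ ha.1, rel_rf hb.1 hb.2, ha.2]⟩)
      (by
        by_contra h
        exact hn fun a ha e => h ⟨a, ha, e⟩) (h6 _) h4 fun a ha e => hR a (h5 a ha.1 e) ha.2)
  refine ⟨r, h8, h9, mul_right_cancel (b := φ) (X.Wm_injective ?_), h7⟩
  have h11 := X.Mx_Wm r
  rw [hM, smul_mul_assoc, mul_smul_comm, ← X.Wm_mul, ← X.Wm_mul, (Commute.inv_left_iff.1 h10).eq] at h11
  exact (smul_right_injective _ (fun e : m = 0 => by simp [e] at ho) h11).symm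

end Cfsg.Agent.BH.R2
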