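import Cfsg.Agent.BH.Row2L.A
import Cfsg.Agent.BH.Row2L.T
import Cfsg.Agent.BH.Row2L.NS
import Cfsg.Agent.BH.Row2L.CN
import Cfsg.Agent.BH.Row2L.D4x
import Cfsg.Agent.BH.Row2L.O73
import Cfsg.Agent.BH.Row2L.Nil
import Cfsg.Agent.BH.Row2L.NC
import Cfsg.Agent.BH.Row2L.Not
import Cfsg.Agent.BH.Row2L.TB
import Cfsg.Agent.BH.Row2L.TF
import Cfsg.Agent.BH.Row2L.WL
import Cfsg.Agent.BH.Row2L.LB
import Cfsg.Agent.BH.Row2L.SC
import Cfsg.Agent.BH.Row2L.ConA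
import Cfsg.Agent.BH.Row2L.RowC
import Cfsg.Agent.BH.Row2L.RowGF
import Cfsg.Agent.BH.Row2L.RowE8
import Cfsg.Agent.BH.Row2L.RowE6c
import Cfsg.Agent.BH.RowO.Sh
import Cfsg.Agent.BH.Main.Final
import Cfsg.Agent.BZ.L.TA.All
import Cfsg.Agent.BZ.Asm2

/-!
# BH (S4524): the assembly from the last boxes (helper77)
-/

set_option autoImplicit false

namespace Cfsg.Agent.BH.R2

open Cfsg

theorem bx_of (fx : BoxFX) (v : BoxV) (lam : BoxLam) (lift : BoxLift) (lc : BoxLC) (p3 : BoxP3n) : Bx :=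
  ⟨⟨RO.boxSh, boxA2, boxA3, fx, v, boxT, lam, lift, boxNS⟩, boxD4o, boxCN, boxD4x, boxO73, boxNil, boxNC, boxNot,
    boxTB_of (boxTor_of boxWL boxLB boxSC) lam, lc, p3⟩

theorem rows_of (B : Bx) (psl : RowFor KM.CPsl) (psu : RowFor KM.CPsu) (e6 : RowFor KM.CE6) (e7 : RowFor KM.CE7)
    (te6 : RowFor KM.CTe6) : Rows :=
  ⟨psl, row_psp B, psu, row_oodd B, row_oplus B, row_ominus B, row_g2 B, row_f4 B, e6, e7, row_e8 B, te6, row_td4 B⟩

/-- **S4524** from the rows for the prime two and the quasisimple case -/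
theorem s4524_of2.{u} (R : Rows) (hZ : BZ.All BZ.RowP) {G : Type u} [Group G] [Finite G] (p : ℕ)
    [Fact p.Prime] (M : Ideal AlgInt) (hM : IsPModular p M) (B : Set (IrrCharacter G)) (hB : IsPBlock M B)
    (D : Subgroup G) (hD : IsDefectGroup p M B D) : IsMulCommutative D ↔ ∀ χ ∈ B, blockHeight p B (χ : G → ℂ) = 0 :=
  s4524_ta BZ.L.boxTA R hZ p M hM B hB D hD

end Cfsg.Agent.BH.R2
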