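import Cfsg.Agent.BH.Row2L.ConA
import Cfsg.Agent.KM.E2.L7
import Cfsg.Agent.KM.Ev.E6X
import Cfsg.Agent.KM.Tor.E6R

/-!
# BH, `Row2L`: the lattice facts `LT` for the simply connected covers of type `E₆`, `E₇` (helper86)

`lt_e6`, `lt_e7`, `sc_one`, `sc_P6`.
-/

set_option autoImplicit false
set_option linter.unusedSectionVars false
set_option maxHeartbeats 400000
set_option maxRecDepth 100000

namespace Cfsg.Agent.BH.R2

open Cfsg Cfsg.Lie Matrix Cfsg.Agent.Tits.Roots Cfsg.Agent.DL Cfsg.Agent.KZ.DatX Cfsg.Agent.Nodes.RGDChev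
  Cfsg.Agent.ChevalleyStructure.NPerm Cfsg.Agent.ChevalleyStructure.CoxeterGeomTypes
open Cfsg.Agent.KM.Tor (Sl SL InQ co cor_eq dot_co forall_rt)
open Cfsg.Agent.KM.E2 (pr Ev LS)
open Cfsg.Agent.KM.Sc (Isog QL mem_QL cor_QL QL_le)
open Cfsg.Agent.KM.Ev (c2 c2_eq)
open Cfsg.Agent.TO.X.Cn (Pi1)

namespace Cn6

section isog

variable {p : ℕ} [Fact p.Prime] {k : Type} [Field k] [CharP k p] [IsAlgClosed k]
  {Y' : Type} [Group Y'] {N' : Type} [Fintype N'] [DecidableEq N'] {ρ' : Y' →* GL N' k} {F' : MulAut Y'}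
  {G' : Subgroup Y'} {Y : Type} [Group Y] {N : Type} [Fintype N] [DecidableEq N] {ρ : Y →* GL N k} {F : MulAut Y}
  {G : Subgroup Y} {X' : Datum p ρ' F' G'} {X : Datum p ρ F G} {θ : Y' →* Y} {z : ℕ} (I : Isog X' X θ z)

theorem pr_isog {a' b' : X'.I → ℤ} {a b : X.I → ℤ} (ea : X'.wt a' = X.wt a ᵥ* I.P) (hb' : X'.Rt b') (hb : X.Rt b)
    (eb : X'.wt b' = X.wt b ᵥ* I.P) : pr X' a' b' = pr X a b := by
  rw [pr, ea, ← dotProduct_mulVec, I.cor hb' hb eb, pr]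

theorem ev_isog {u : X'.R → ℤ} (h : Ev X' u) : Ev X (I.P *ᵥ u) := fun a ha => by
  obtain ⟨a', ha', e⟩ := I.root' a ha
  rw [dotProduct_mulVec, ← e]
  exact h a' ha'

include I

theorem inq_isog (h1 : Pi1 X' 1) {f : ℤ} (hf : f ≠ 0) (h3 : ∀ v, InQ X (f • v)) (u : X'.R → ℤ) : InQ X' u := by
  obtain ⟨_, ⟨β, rfl⟩, e⟩ := QL_le (X := X) (S := (QL X').map (AddMonoidHom.mk' (I.P *ᵥ ·) (mulVec_add _)))
    (fun a ha => let ⟨_, ha', e⟩ := I.root' a ha; ⟨_, cor_QL ha', I.cor ha' ha e⟩) (mem_QL.2 (h3 (I.P *ᵥ u)))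
  obtain ⟨γ, hγ⟩ := h1 u f β hf (I.P_inj ((mulVec_smul _ _ _).trans e.symm))
  exact ⟨γ, by rwa [Nat.cast_one, one_smul] at hγ⟩

theorem ls_isog (h1 : ∀ u, InQ X' u) (sl : Sl X) (nz : ∀ a, X.Rt a → ¬ Ev X (X.cor a))
    (inj : ∀ a b, X.Rt a → X.Rt b → Ev X (X.cor a - X.cor b) → b = a ∨ b = -a) : LS X' := by
  have h2 : Sl X' := fun a' b' ha' hb' => by
    obtain ⟨a, ha, ea⟩ := I.root a' ha'
    obtain ⟨b, hb, eb⟩ := I.root b' hb'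
    exact (pr_isog I ea hb' hb eb).trans ((sl a b ha hb).trans (pr_isog I eb ha' ha ea).symm)
  refine ⟨h2, h1, KM.E2.L7c.cz_of_sl h2, fun a' ha' h => ?_, fun a' b' ha' hb' h => ?_⟩
  · obtain ⟨a, ha, ea⟩ := I.root a' ha'
    exact nz a ha (I.cor ha' ha ea ▸ ev_isog I h)
  · obtain ⟨a, ha, ea⟩ := I.root a' ha'
    obtain ⟨b, hb, eb⟩ := I.root b' hb'
    have h3 := ev_isog I h
    rw [mulVec_sub, I.cor ha' ha ea, I.cor hb' hb eb] at h3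
    exact (inj a b ha hb h3).imp (fun e => X'.wt_injective (by rw [ea, eb, e])) fun e =>
      X'.wt_injective (by rw [map_neg, ea, eb, e, map_neg, neg_vecMul])

theorem sc_isog (h : Sc X) : Sc X' := by
  obtain ⟨e, m, φ, h1, h2, h3⟩ := h
  obtain ⟨n, hn, -⟩ := X.exists_rp φ
  obtain ⟨n', h4, rfl⟩ := I.surj n (X.NN_le_G ⟨φ, hn⟩)
  obtain ⟨φ', h5⟩ := I.mem_NN h4 ⟨φ, hn⟩
  exact ⟨e, m, φ', h1, h2, Matrix.ext_iff_mulVec.2 fun u => I.P_inj (by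
    rw [← I.Mx_P, h3, smul_mulVec, smul_mulVec, mulVec_smul, I.Wm_P h5 hn])⟩

theorem card_isog : Fintype.card X'.R ≤ Fintype.card X.R := by
  rw [← Module.finrank_fintype_fun_eq_card ℤ, ← Module.finrank_fintype_fun_eq_card ℤ]
  exact LinearMap.finrank_le_finrank_of_injective (f := I.P.mulVecLin) fun _ _ => I.P_inj

omit I in
theorem vec_RL (I : Isog X' X θ z) {m : X.R → ℤ} (h : m ∈ RL X) : m ᵥ* I.P ∈ RL X' :=
  (Submodule.span_le (p := (RL X').comap I.P.vecMulLinear)).2 (by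
    rintro _ ⟨a, ha, rfl⟩
    obtain ⟨a', ha', e⟩ := I.root' a ha
    exact Submodule.subset_span ⟨a', ha', e⟩) h

omit I in
theorem vec_QP (I : Isog X' X θ z) (m : X'.R → ℤ) : m ᵥ* I.Q ᵥ* I.P = (z : ℤ) • m := by
  rw [vecMul_vecMul, I.QP, vecMul_smul, vecMul_one]

omit I in
theorem idx_isog (I : Isog X' X θ z) (h0 : ∀ m, m ∈ RL X) (r : X.R)
    (h1 : ∀ x : X.R → ℤ, (∀ a, X.Rt a → (z : ℤ) ∣ x ⬝ᵥ X.cor a) → (z : ℤ) ∣ x r → ∀ i, (z : ℤ) ∣ x i) :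
    (RL X').toAddSubgroup.index ≤ z := by
  have : NeZero z := ⟨I.pos.ne'⟩
  let f : (X'.R → ℤ) →+ ZMod z := AddMonoidHom.mk' (fun m => (((m ᵥ* I.Q) r : ℤ) : ZMod z)) fun a b => by
    rw [add_vecMul, Pi.add_apply, Int.cast_add]
  have h5 : f.ker ≤ (RL X').toAddSubgroup := fun m hm => by
    choose y hy using h1 (m ᵥ* I.Q) (fun a ha => by
      obtain ⟨a', ha', e⟩ := I.root' a ha
      rw [← I.cor ha' ha e, dotProduct_mulVec, vec_QP, smul_dotProduct]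
      exact dvd_mul_right _ _) ((ZMod.intCast_zmod_eq_zero_iff_dvd _ z).1 hm)
    have h6 := vec_QP I m
    rw [show m ᵥ* I.Q = (z : ℤ) • y from funext hy, smul_vecMul] at h6
    exact smul_right_injective _ (Int.natCast_ne_zero.2 I.pos.ne') h6 ▸ vec_RL I (h0 y)
  refine (Nat.le_of_dvd (Nat.pos_of_ne_zero AddSubgroup.FiniteIndex.index_ne_zero) (AddSubgroup.index_dvd_of_le h5)).trans ?_
  rw [AddSubgroup.index_ker]
  exact (AddSubgroup.card_le_card_addGroup _).trans (Nat.card_zmod z).le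

theorem du_isog (h : ∀ α β, X.Rt α → X.Rt β → pr X α β = -1 → ∃ c, X.Rt c ∧ pr X α c = 1 ∧ pr X β c = 0) (α β : X'.I → ℤ)
    (ha' : X'.Rt α) (hb' : X'.Rt β) (h1 : pr X' α β = -1) : ∃ c, X'.Rt c ∧ pr X' α c = 1 ∧ pr X' β c = 0 := by
  obtain ⟨a, ha, ea⟩ := I.root α ha'
  obtain ⟨b, hb, eb⟩ := I.root β hb'
  obtain ⟨c, k1, k2, k3⟩ := h a b ha hb (pr_isog I ea hb' hb eb ▸ h1)
  obtain ⟨c', k4, ec⟩ := I.root' c k1
  exact ⟨c', k4, (pr_isog I ea k4 k1 ec).trans k2, (pr_isog I eb k4 k1 ec).trans k3⟩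

end isog

theorem du6 : ∀ s t : Fin chevE6.nroots, vec chevE6 6 s ⬝ᵥ co chevE6 6 (vec chevE6 6 t) = -1 → ∃ c : Fin chevE6.nroots,
    vec chevE6 6 s ⬝ᵥ co chevE6 6 (vec chevE6 6 c) = 1 ∧ vec chevE6 6 t ⬝ᵥ co chevE6 6 (vec chevE6 6 c) = 0 := by decide +kernel

theorem ker6 {x : Fin 6 → ℤ} (h : ∀ i, 3 ∣ x ⬝ᵥ cartanOf chevE6 6 i) (h0 : 3 ∣ x 0) (i : Fin 6) : 3 ∣ x i := by
  have hA : cartanOf chevE6 6 = ![![2, 0, -1, 0, 0, 0], ![0, 2, 0, -1, 0, 0], ![-1, 0, 2, -1, 0, 0],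
    ![0, -1, -1, 2, -1, 0], ![0, 0, 0, -1, 2, -1], ![0, 0, 0, 0, -1, 2]] := by decide +kernel
  have h1 := h 0
  have h2 := h 1
  have h3 := h 2
  have h4 := h 3
  have h5 := h 4
  simp [hA, dotProduct, Fin.sum_univ_six] at h1 h2 h3 h4 h5
  fin_cases i <;> simp <;> omega

variable {C : ChevalleyDatum} {n : ℕ} {M : CoxeterMatrix (Fin n)} {hp : IsType C n M} {r : ℕ} [Fact r.Prime] {k : Type}
  [Field k] [CharP k r] [IsAlgClosed k] {Mx : Matrix (Fin n) (Fin n) ℤ} (X : XF hp r k Mx)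

theorem ev_ad {u : Fin n → ℤ} (h : Ev X.D u) (i : Fin n) : 2 ∣ u i :=
  KM.Ex.sr_dot i u ▸ h _ (isRoot_sr X.D.cs X.D.h i)

theorem pr_ad (h : SL C n) (a : Fin n → ℤ) {b : Fin n → ℤ} (hb : X.D.Rt b) : pr X.D a b = a ⬝ᵥ co C n b :=
  congrArg (a ⬝ᵥ ·) (cor_eq X h hb)

theorem sl_ad (h : SL C n) : Sl X.D := fun (a b : Fin n → ℤ) ha hb => (pr_ad X h a hb).trans
  (Eq.trans (by rw [dot_co, dot_co, H92.NE.bl_comm h.1.1]) (pr_ad X h b ha).symm)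

end Cn6

open Cn6

variable {r e : ℕ} [Fact r.Prime] {k : Type} [Field k] [CharP k r] [IsAlgClosed k] {Y : Type} [Group Y] {N : Type} [Fintype N]
  [DecidableEq N] {ρ : Y →* GL N k} {F : MulAut Y} {X' : Datum r ρ F ⊤}

theorem sc_one {C : ChevalleyDatum} {n : ℕ} {M : CoxeterMatrix (Fin n)} {hp : IsType C n M}
    (X : XF hp r k ((r : ℤ) ^ e • 1)) (he : 0 < e) : Sc X.D := ⟨e, _, 1, he, .inl rfl, by rw [X.D.Wm_one]; rfl⟩

theorem sc_P6 (X : XF hpE6 r k ((r : ℤ) ^ e • P6)) (he : 0 < e) : Sc X.D :=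
  let ⟨w, hw⟩ := X.exists_neg_E6
  ⟨e, _, w, he, .inr rfl, (neg_smul_neg _ P6).symm.trans (congrArg _ hw.symm)⟩

/-- **`E₆`, simply connected** -/
theorem lt_e6 {Mx : Matrix (Fin 6) (Fin 6) ℤ} (X : XF hpE6 r k Mx) {θ : Y →* ↥(chevE6.group k)} (I : Isog X' X.D θ 3)
    (h1 : Pi1 X' 1) (h2 : Sc X.D) : LT X' 3 := by
  have hc := fun a => cor_eq X KM.Ev.sl6 (a := a)
  have h3 : ∀ m, m ∈ RL X.D := fun m => mem_RL.2 ⟨m, rfl⟩
  have h4 : Fintype.card X'.R ≤ 6 := (card_isog I).trans (Fintype.card_fin 6).le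
  refine ⟨ls_isog I (inq_isog I h1 three_ne_zero fun (v : Fin 6 → ℤ) => (KM.Tor.E6R.inQ_iff X _).2 (by
      show 3 ∣ 3 * v 0 - 3 * v 2 + 3 * v 4 - 3 * v 5
      omega)) (sl_ad X KM.Ev.sl6) (fun a ha h => ?_) fun a b ha hb h => ?_, sc_isog I h2, h4.trans (by decide),
    .inr ⟨rfl, h4, fun m => vec_QP I m ▸ vec_RL I (h3 _), idx_isog I h3 (0 : Fin 6) fun (x : Fin 6 → ℤ) h =>
      ker6 fun i => X.cor_sr i ▸ h _ (isRoot_sr X.D.cs X.D.h i), du_isog I fun a b ha hb h => ?_⟩⟩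
  · have h5 := forall_rt X (Q := fun a => KM.Ev.q6 (c2 (co chevE6 6 a)) = 1) (fun s => KM.Ev.q6_root s trivial) a ha
    rw [hc a ha] at h
    rw [← (c2_eq (u := 0)).2 fun i => by simpa using ev_ad X h i] at h5
    exact absurd h5 (by decide)
  · obtain ⟨s, hs, rfl⟩ := (X.rt_iff a).1 ha
    obtain ⟨t, ht, rfl⟩ := (X.rt_iff b).1 hb
    rw [hc _ ha, hc _ hb] at h
    exact KM.Ev.uq6 ⟨s, hs⟩ trivial ⟨t, ht⟩ trivial (c2_eq.2 (ev_ad X h)).symm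
  · obtain ⟨s, hs, rfl⟩ := (X.rt_iff a).1 ha
    obtain ⟨t, ht, rfl⟩ := (X.rt_iff b).1 hb
    obtain ⟨c, k1, k2⟩ := du6 ⟨s, hs⟩ ⟨t, ht⟩ ((pr_ad X KM.Ev.sl6 _ hb).symm.trans h)
    have k3 := (X.rt_iff _).2 ⟨c, c.2, rfl⟩
    exact ⟨_, k3, (pr_ad X KM.Ev.sl6 _ k3).trans k1, (pr_ad X KM.Ev.sl6 _ k3).trans k2⟩

/-- **`E₇`, simply connected** -/
theorem lt_e7 (X : XF hpE7 r k ((r : ℤ) ^ e • 1)) {θ : Y →* ↥(chevE7.group k)} (I : Isog X' X.D θ 2) (h1 : Pi1 X' 1)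
    (he : 0 < e) : LT X' 1 :=
  have h := (KM.E2.boxL7 r k e X Y N ρ F X' θ I h1).1
  ⟨h.toLS, sc_isog I (sc_one X he), (card_isog I).trans ((Fintype.card_fin 7).le.trans (by decide)), .inl ⟨rfl, h.ctr⟩⟩

end Cfsg.Agent.BH.R2
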