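import Cfsg.Agent.BH.V4.Star
import Cfsg.Agent.KM.Two.Blk

/-!
# BH (S4524), box FX, part 1: an automorphism which fixes the regular parts (helper82)
-/

set_option autoImplicit false
set_option linter.unusedSectionVars false

namespace Cfsg.Agent.BH.R2.FX

open Cfsg Cfsg.Agent.TO Cfsg.Agent.TO.Q8 Cfsg.Agent.Blocks.Basic Cfsg.Agent.Blocks.Local Cfsg.Agent.H650
open Cfsg.Agent.H649 Cfsg.Agent.H651 Cfsg.Agent.BH.RZ.SA Cfsg.Agent.BH.V4 Cfsg.Agent.H660.BlockTransport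
open Cfsg.Agent.CharactersDeep.AbelianQuotient
open scoped ComplexConjugate

variable {K : Type} [Group K] [Finite K] {M : Ideal AlgInt} {b : Set (IrrCharacter K)} {Q : Subgroup K} {θ : K → ℂ}

section gen

variable {p : ℕ} [Fact p.Prime]

theorem chiE_fsum {ι : Type} (T : Finset ι) (a : BrauerPairIdx K) (X : ι → K → ℂ) (g : K) :
    chiE a (∑ i ∈ T, X i) g = ∑ i ∈ T, chiE a (X i) g := by
  have := Fintype.ofFinite K
  simp only [chiE_eq_sum, Finset.sum_apply, Finset.mul_sum]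
  exact Finset.sum_comm

theorem cls_sum {ι : Type} (T : Finset ι) {X : ι → K → ℂ} (hX : ∀ i ∈ T, X i ∈ Fn b) :
    IsClassFunction K (∑ i ∈ T, X i) := fun g h => by
  simp only [Finset.sum_apply]
  exact Finset.sum_congr rfl fun i hi => irr_isClassFunction (fn_irr (hX i hi)) g h

/-- sums of members are determined by their parts below the maximal pair -/
theorem ext_parts (hM : IsPModular p M) {a : BrauerPairIdx K} (hmax : IsMaximalBrauerPair p M b a.1 a.2) {ι : Type}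
    (T : Finset ι) {X Y : ι → K → ℂ} (hX : ∀ i ∈ T, X i ∈ Fn b) (hY : ∀ i ∈ T, Y i ∈ Fn b)
    (h : ∀ (w : K) (f : Set (IrrCharacter (Cz w))), LEIdx p M ⟨Subgroup.zpowers w, f⟩ a → ∀ s : Cz w, ¬ p ∣ orderOf s →
      ∑ i ∈ T, blockPart f (secFun w (X i)) s = ∑ i ∈ T, blockPart f (secFun w (Y i)) s) :
    ∑ i ∈ T, X i = ∑ i ∈ T, Y i := by
  have := isPrime_of_isPModular hM
  have h' : ∀ (w s : K) (c : BrauerPairIdx K), c.1 = Subgroup.zpowers w → LEIdx p M c a → Commute w s →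
      ¬ p ∣ orderOf s → ∑ i ∈ T, chiE c (X i) (w * s) = ∑ i ∈ T, chiE c (Y i) (w * s) := by
    rintro w s ⟨R, f⟩ hc h1 h2 h3
    obtain rfl : R = _ := hc
    have h4 := h w f h1 ⟨s, mem_Cz_iff.2 h2⟩ (by rwa [orderOf_coe_dvd])
    refine Eq.trans (Finset.sum_congr rfl fun i hi => ?_) (h4.trans (Finset.sum_congr rfl fun i hi => ?_))
    · exact chiE_zpowers w f (irr_isClassFunction (fn_irr (hX i hi))) ⟨s, mem_Cz_iff.2 h2⟩
    · exact (chiE_zpowers w f (irr_isClassFunction (fn_irr (hY i hi))) ⟨s, mem_Cz_iff.2 h2⟩).symm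
  funext g
  obtain ⟨hu, s, hs, e⟩ := exists_pp_mul (p := p) g
  rw [← e]
  generalize pp p g = u at hu s hs
  show secFun u (∑ i ∈ T, X i) s = secFun u (∑ i ∈ T, Y i) s
  rw [← wSum_one M (isClassFunction_secFun (cls_sum T hX) u), ← wSum_one M (isClassFunction_secFun (cls_sum T hY) u),
    wSum_eq_finsum, wSum_eq_finsum]
  refine finsum_mem_congr rfl fun f hf => ?_
  rw [one_mul, one_mul]
  refine (chiE_zpowers u f (cls_sum T hX) s).symm.trans (Eq.trans ?_ (chiE_zpowers u f (cls_sum T hY) s))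
  rw [chiE_fsum, chiE_fsum]
  by_cases hn : IsBrauerPairOf p M b (Subgroup.zpowers u) f
  · obtain ⟨x, hx⟩ := exists_conj_leIdx hM hmax hn
    have h1 := h' (x * u * x⁻¹) (x * s * x⁻¹) _ (by rw [conjIdx_fst, MonoidHom.map_zpowers]; rfl) hx
      ((mem_Cz_iff.1 s.2).map (MulAut.conj x)) (by
        rw [show x * s * x⁻¹ = MulAut.conj x s from rfl, MulEquiv.orderOf_eq, ← orderOf_coe_dvd]
        exact hs)
    rw [show x * u * x⁻¹ * (x * s * x⁻¹) = x * (u * s) * x⁻¹ by group] at h1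
    refine Eq.trans (Finset.sum_congr rfl fun i hi => ?_) (h1.trans (Finset.sum_congr rfl fun i hi => ?_))
    · exact (chiE_conjIdx x _ (irr_isClassFunction (fn_irr (hX i hi))) _).symm
    · exact chiE_conjIdx x _ (irr_isClassFunction (fn_irr (hY i hi))) _
  · have h1 : ∀ x ∈ Fn b, chiE ⟨Subgroup.zpowers u, f⟩ x (u * s) = 0 := by
      rintro _ ⟨χ, hχ, rfl⟩
      exact (chiE_zpowers u f (irr_isClassFunction χ.2) s).trans
        (blockPart_secFun_eq_zero hM hmax.1.2.1 hχ hu hf hn hs)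
    rw [Finset.sum_eq_zero fun i hi => h1 _ (hX i hi), Finset.sum_eq_zero fun i hi => h1 _ (hY i hi)]

theorem star_part (h : Can p M b Q θ) {η : K → ℂ} (hη : IsStable p M ⟨Q, Can.root M Q θ⟩ η) {w : K}
    {f : Set (IrrCharacter (Cz w))} (hf : LEIdx p M ⟨Subgroup.zpowers w, f⟩ ⟨Q, Can.root M Q θ⟩) {x : K → ℂ}
    (hx : x ∈ Fn b) {s : Cz w} (hs : ¬ p ∣ orderOf s) :
    blockPart f (secFun w (star p M ⟨Q, Can.root M Q θ⟩ η x)) s = η w * blockPart f (secFun w x) s := by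
  have := h.prime
  have h2 := blockPart_secFun_starW h.hM (isWInv_etaW hη) (irr_isClassFunction (fn_irr hx))
    (Cn.pElt h.pg (hf.le (Subgroup.mem_zpowers w))) (LEIdx.isBrauerPair hf h.hmax.1.1).2 hs
  rwa [etaW_eq hη (x := 1) rfl (by rw [conjIdx_one]; exact hf), one_mul, inv_one, mul_one] at h2

theorem bp_comp {c : Set (IrrCharacter K)} {γ : MulAut K} (hγ : γ ∈ Stab c) (F : K → ℂ) (s : K) :
    blockPart c (fun x => F (γ x)) s = blockPart c F (γ s) := by
  have := Fintype.ofFinite K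
  rw [Blocks.CentralizerSum.blockPart_eq, Blocks.CentralizerSum.blockPart_eq]
  conv_rhs => rw [← blockMap_stab hγ, blockMap_eq_image, finsum_mem_image (H660.BlockTransport.irrMap_injective γ).injOn]
  refine finsum_mem_congr rfl fun ξ _ => ?_
  rw [H660.BlockTransport.irrMap_apply, MulEquiv.symm_apply_apply, ← classInner_comp γ F]
  congr 2
  funext x
  rw [H660.BlockTransport.irrMap_apply, MulEquiv.symm_apply_apply]

/-- an automorphism which fixes the members of `b` fixes the regular parts of the local blocks -/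
theorem reg_fix (hM : IsPModular p M) {u : K} (hu : PElt p u) {c : Set (IrrCharacter (Cu u))}
    (hc : IsInducedBlock M (Cu u) c b) {α : MulAut K} (hα : α u = u) (h1 : ∀ χ ∈ Fn b, χ ∘ α = χ)
    (H : ∀ x, α x ∈ Cu u ↔ x ∈ Cu u) (h2 : resAut α (Cu u) H ∈ Stab c) {ξ : Cu u → ℂ} (hξ : ξ ∈ Fn c) {s : Cu u}
    (hs : ¬ p ∣ orderOf s) : ξ (resAut α (Cu u) H s) = ξ s := by
  classical
  have := isPrime_of_isPModular hM
  have : Finite (IrrCharacter (Cu u)) := Characters.Core.finite_irr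
  have := Fintype.ofFinite (IrrCharacter (Cu u))
  have : Finite (IrrCharacter K) := Characters.Core.finite_irr
  have := Fintype.ofFinite (IrrCharacter K)
  set s' := resAut α (Cu u) H s with hs'
  have h3 : ¬ p ∣ orderOf s' := by rwa [hs', MulEquiv.orderOf_eq]
  have h4 : ∀ ζ : IrrCharacter K, blockPart c (fun y : Cu u => (ζ : K → ℂ) (u * (y : K))) s' =
      blockPart c (fun y : Cu u => (ζ : K → ℂ) (u * (y : K))) s := fun ζ => by
    by_cases hζ : ζ ∈ b
    · rw [hs', ← bp_comp h2]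
      congr 1
      funext y
      rw [resAut_coe]
      nth_rewrite 1 [← hα]
      rw [← map_mul]
      exact congrFun (h1 _ (fn_mk.2 hζ)) _
    · have h5 : ¬ IsInducedBlock M (Cu u) c (blockOf M (ζ : K → ℂ)) := fun h => hζ (by
        rw [Blocks.CentralizerSum.inducedBlock_unique hc h]
        exact mem_blockOf_self ζ)
      rw [Blocks.CentralizerSum.secondMain hM hu rfl (isPBlock_blockOf ζ) ζ (mem_blockOf_self ζ) hc.1 h5 s hs,
        Blocks.CentralizerSum.secondMain hM hu rfl (isPBlock_blockOf ζ) ζ (mem_blockOf_self ζ) hc.1 h5 s' h3]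
  have h5 := fun y y' hy hy' => sum_blockPart_mul_blockPart hM hu (H := Cu u) rfl (isUnB_of_isPBlock hc.1)
    (isUnB_of_isPBlock hc.1) y y' hy hy'
  have a1 := h5 s s hs hs
  have a2 := h5 s s' hs h3
  have a3 := h5 s' s h3 hs
  have a4 := h5 s' s' h3 h3
  simp only [h4, and_self] at a1 a2 a3 a4
  have h6 : ∑ ζ : IrrCharacter (Cu u) with ζ ∈ c, Complex.normSq ((ζ : Cu u → ℂ) s' - (ζ : Cu u → ℂ) s) = 0 := by
    apply Complex.ofReal_injective
    rw [Complex.ofReal_sum, Complex.ofReal_zero]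
    simp only [← Complex.mul_conj, map_sub, sub_mul, mul_sub, Finset.sum_sub_distrib]
    rw [← a1, ← a2, ← a3, ← a4]
    ring
  obtain ⟨ξ, hξ, rfl⟩ := hξ
  exact sub_eq_zero.1 (Complex.normSq_eq_zero.1 ((Finset.sum_eq_zero_iff_of_nonneg fun _ _ =>
    Complex.normSq_nonneg _).1 h6 ξ (Finset.mem_filter.2 ⟨Finset.mem_univ _, hξ⟩)))

end gen

/-- the parts at an involution with a nilpotent local block -/
theorem part_nil (h : Can 2 M b Q θ) {w : K} (w1 : w ≠ 1) (w2 : w * w = 1)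
    (hn : ∀ t ∈ In Q θ, t * w * t⁻¹ = w → t ∈ Ce Q) {f : Set (IrrCharacter (Cz w))}
    (hf : LEIdx 2 M ⟨Subgroup.zpowers w, f⟩ ⟨Q, Can.root M Q θ⟩) {x : K → ℂ} (hx : x ∈ Fn b) :
    blockPart f (secFun w x) 1 ≠ 0 ∧ ∀ γ ∈ LA Q θ, γ w = w → ∀ s : Cz w, ¬ 2 ∣ orderOf s →
      blockPart f (secFun w (x ∘ γ)) s = blockPart f (secFun w x) s := by
  have := h.prime
  have := Fintype.ofFinite K
  have : Finite (Fn b) := (fn_finite b).to_subtype
  have := Fintype.ofFinite (Fn b)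
  have hw : w ∈ Q := hf.le (Subgroup.mem_zpowers w)
  have f1 := LEIdx.isBrauerPair hf h.hmax.1.1
  have f3 := (S4658.result 2 M h.hM Q _ _ f h.hmax.1.1 f1 hf b h.hb).1 h.hmax.1
  obtain ⟨n, a, z, ha, hz, -, -, s3⟩ := pack h hw w1 w2 hn (Cz_eq w)
    ((isBrauerPairOf_iff_isInducedBlock h.hM h.hb f3.1.1 f1.2).1 f3) (loc_of_le h hf)
  refine ⟨fun h0 => ?_, fun γ hγ e s hs => ?_⟩
  · obtain ⟨χ, hχ, rfl⟩ := hx
    obtain ⟨s, k1, k2⟩ := exists_blockPart_ne_zero_of_major h.hM h.hmax hχ (h.ab hw) hf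
    exact k2 (part_zero h.hM n h0 k1)
  · have h1 := comp_mem (h.le_Stab hγ) hx
    have h2 := part_zero h.hM n (F := secFun w (x ∘ γ) - secFun w x) (by
      rw [blockPart_sub, Pi.sub_apply, sub_eq_zero]
      exact (hz ⟨_, h1⟩).trans (Eq.trans (by rw [s3 γ hγ e ⟨x, hx⟩ ⟨_, h1⟩ rfl]) (hz ⟨x, hx⟩).symm)) hs
    rwa [blockPart_sub, Pi.sub_apply, sub_eq_zero] at h2

/-- **the core**: an automorphism which fixes the regular parts and the classes in `Q` fixes all members -/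
theorem core (h : Can 2 M b Q θ) {α : MulAut K} (hα : α ∈ LA Q θ) {V R : Subgroup K} (sq : ∀ w ∈ Q, w * w = 1)
    (h1 : ∀ t ∈ In Q θ, ∀ w ∈ Q, w⁻¹ * (t * w * t⁻¹) ∈ V)
    (h2 : ∀ w ∈ Q, w ∉ R → ∀ t ∈ In Q θ, t * w * t⁻¹ = w → t ∈ Ce Q) (h3 : ∀ w ∈ V, w ∈ R → w = 1) {v : K}
    (hv : v ∈ V) (hv' : v ∈ Q) (v1 : v ≠ 1) (h4 : ∀ w ∈ Q, ∃ t ∈ In Q θ, t * α w * t⁻¹ = w)
    (h5 : ∀ x ∈ Fn b, ∀ s, ¬ 2 ∣ orderOf s → x (α s) = x s) {x : K → ℂ} (hx : x ∈ Fn b) : x ∘ α = x := by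
  classical
  have := h.prime
  have := Fintype.ofFinite K
  have hc : ∀ y z : Q, y * z = z * y := fun y z => Subtype.ext (h.comm y y.2 z z.2)
  have : (V.subgroupOf Q).Normal := ⟨fun n hn g => by rwa [hc g, mul_inv_cancel_right]⟩
  obtain ⟨Λ, l1, -, -, l2⟩ := exists_linear_dual (V.subgroupOf Q) fun y z => by
    rw [hc y z, mul_inv_cancel_right, mul_inv_cancel]
    exact one_mem _
  have st : ∀ l ∈ Λ, IsStable 2 M ⟨Q, Can.root M Q θ⟩ (ext0 Q l) := fun l hl => stable h fun t ht w hw => by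
    have a1 : t * w * t⁻¹ ∈ Q := (ht.1 w).2 hw
    have a2 := (l1 l).1 hl ((⟨w, hw⟩ : Q)⁻¹ * ⟨_, a1⟩) (h1 t ht w hw)
    rw [map_mul, map_inv, inv_mul_eq_one] at a2
    rw [ext0_of_mem l hw, ext0_of_mem l a1, a2]
  have hy := comp_mem (h.le_Stab hα) hx
  have nil : ∀ {w : K} {f : Set (IrrCharacter (Cz w))}, LEIdx 2 M ⟨Subgroup.zpowers w, f⟩ ⟨Q, Can.root M Q θ⟩ →
      w ∉ R → blockPart f (secFun w x) 1 ≠ 0 ∧ ∀ s : Cz w, ¬ 2 ∣ orderOf s →
        blockPart f (secFun w (x ∘ α)) s = blockPart f (secFun w x) s := fun {w f} hf hw => by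
    have a1 : w ∈ Q := hf.le (Subgroup.mem_zpowers w)
    obtain ⟨a2, a3⟩ := part_nil h (fun e => hw (by rw [e]; exact one_mem R)) (sq w a1) (h2 w a1 hw) hf hx
    obtain ⟨t, ht, e⟩ := h4 w a1
    refine ⟨a2, fun s hs => Eq.trans ?_ (a3 (MulAut.conj t * α) (mul_mem ht hα) e s hs)⟩
    rw [comp_mul, comp_conj (fn_irr hx)]
  have key := ext_parts h.hM (a := ⟨Q, Can.root M Q θ⟩) h.hmax Λ
    (X := fun l => star 2 M ⟨Q, Can.root M Q θ⟩ (ext0 Q l) (x ∘ α))
    (Y := fun l => star 2 M ⟨Q, Can.root M Q θ⟩ (ext0 Q l) x) (fun l hl => star_fn h (st l hl) hy)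
    (fun l hl => star_fn h (st l hl) hx) fun w f hf s hs => by
      have a1 : w ∈ Q := hf.le (Subgroup.mem_zpowers w)
      rw [Finset.sum_congr rfl fun l hl => star_part h (st l hl) hf hy hs,
        Finset.sum_congr rfl fun l hl => star_part h (st l hl) hf hx hs, ← Finset.sum_mul, ← Finset.sum_mul]
      by_cases hw : w ∈ V
      · congr 1
        by_cases hw' : w ∈ R
        · obtain rfl := h3 w hw hw'
          exact blockPart_congr_reg h.hM (isClassFunction_secFun (irr_isClassFunction (fn_irr hy)) _)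
            (isClassFunction_secFun (irr_isClassFunction (fn_irr hx)) _) (fun y hy => by
              show x (α (1 * y)) = x (1 * y)
              rw [one_mul]
              exact h5 x hx y (by rwa [← orderOf_coe_dvd])) (LEIdx.isBrauerPair hf h.hmax.1.1).2 hs
        · exact (nil hf hw').2 s hs
      · rw [Finset.sum_congr rfl fun l _ => ext0_of_mem l a1, l2 ⟨w, a1⟩ hw, zero_mul, zero_mul]
  have one : ∀ y ∈ Fn b, star 2 M ⟨Q, Can.root M Q θ⟩ (ext0 Q 1) y = y := by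
    rintro _ ⟨χ, hχ, rfl⟩
    exact (star_congr (a := ⟨Q, _⟩) h.hM h.hmax (st 1 ((l1 1).2 fun _ _ => rfl)) (isStable_const 1)
      (fun g hg => ext0_one hg) hχ).trans (star_one (a := ⟨Q, _⟩) h.hM h.hmax hχ)
  obtain ⟨l, hl, e⟩ : ∃ l ∈ Λ, star 2 M ⟨Q, Can.root M Q θ⟩ (ext0 Q l) x = x ∘ α := by
    by_contra h0
    push Not at h0
    have a1 := congrArg (classInner · (x ∘ α)) key
    simp only [Characters.Core.classInner_sum_left] at a1
    rw [Finset.sum_eq_single_of_mem 1 ((l1 1).2 fun _ _ => rfl), one _ hy, Characters.Core.classInner_irr_self (fn_irr hy),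
      Finset.sum_eq_zero] at a1
    · exact one_ne_zero a1
    · exact fun l hl => Characters.Core.classInner_irr_ne (fn_irr (star_fn h (st l hl) hx)) (fn_irr hy) (h0 l hl)
    · refine fun l hl hne => Characters.Core.classInner_irr_ne (fn_irr (star_fn h (st l hl) hy)) (fn_irr hy)
        fun e => hne (MonoidHom.ext fun w => Units.ext ?_)
      obtain ⟨χ, hχ, e'⟩ := hy
      rw [← e'] at e
      exact (ext0_of_mem l w.2).symm.trans (eq_one_of_star h (st l hl) hχ e w.2)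
  have a1 : ∀ w : Q, (w : K) ∉ R → l w = 1 := fun w hw => by
    obtain ⟨f, ⟨-, hf⟩, -⟩ := S4655.result 2 M h.hM Q _ _ h.hmax.1.1 (Subgroup.zpowers_le.2 w.2)
    obtain ⟨a2, a3⟩ := nil hf hw
    have a4 := star_part h (st l hl) hf hx (s := 1) nd_one
    rw [e, a3 1 nd_one, ext0_of_mem l w.2] at a4
    exact Units.ext ((mul_eq_right₀ a2).1 a4.symm)
  obtain rfl : l = 1 := MonoidHom.ext fun w => by
    by_cases hw : (w : K) ∈ R
    · have a2 := a1 (⟨v, hv'⟩ * w) fun e => v1 (h3 v hv ((mul_mem_cancel_right hw).1 e))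
      rwa [map_mul, (l1 l).1 hl ⟨v, hv'⟩ hv, one_mul] at a2
    · exact a1 w hw
  rw [← e, one x hx]

end Cfsg.Agent.BH.R2.FX
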