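import Cfsg.Agent.BH.V4.Grp
import Cfsg.Agent.S0660
import Cfsg.Agent.Lib.FrattiniPGroup

/-!
# BH (S4524), box FX, part 2: the group `3 × 3` on `2⁴` (helper82)
-/

set_option autoImplicit false
set_option linter.unusedSectionVars false

namespace Cfsg.Agent.BH.R2.FX

open Cfsg.Agent.BH.V4

variable {Q : Type} [CommGroup Q] [Finite Q] {E : Subgroup (MulAut Q)} {V W : Subgroup Q} {α : MulAut Q}

/-- a decomposition into two invariant four-groups -/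
structure Dec (E : Subgroup (MulAut Q)) (V W : Subgroup Q) : Prop where
  odd : ¬ 2 ∣ Nat.card E
  big : 3 < Nat.card E
  sq : ∀ u : Q, u * u = 1
  cV : Nat.card V = 4
  cW : Nat.card W = 4
  iV : ∀ e ∈ E, ∀ v ∈ V, e v ∈ V
  iW : ∀ e ∈ E, ∀ w ∈ W, e w ∈ W
  dis : ∀ v ∈ V, v ∈ W → v = 1
  gen : ∀ x, ∃ v ∈ V, ∃ w ∈ W, x = v * w

theorem Dec.symm (h : Dec E V W) : Dec E W V :=
  ⟨h.odd, h.big, h.sq, h.cW, h.cV, h.iW, h.iV, fun v h1 h2 => h.dis v h2 h1, fun x =>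
    let ⟨v, h1, w, h2, e⟩ := h.gen x
    ⟨w, h2, v, h1, e.trans (mul_comm v w)⟩⟩

theorem n1 (γ : MulAut Q) {w : Q} (hw : w ≠ 1) : γ w ≠ 1 := fun h => hw ((map_eq_one_iff _ γ.injective).1 h)

theorem Dec.four (h : Dec E V W) {v w : Q} (hv : v ∈ V) (hw : w ∈ V) (v1 : v ≠ 1) (w1 : w ≠ 1) (e : w ≠ v) :
    ∀ y ∈ V, y = 1 ∨ y = v ∨ y = w ∨ y = v * w := (four_el h.cV.le hv hw v1 w1 (h.sq v) e).2

theorem Dec.two (h : Dec E V W) {γ : MulAut Q} {v w : Q} (hv : v ∈ V) (hw : w ∈ V) (v1 : v ≠ 1) (w1 : w ≠ 1) (e : w ≠ v)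
    (h1 : γ v = v) (h2 : γ w = w) : ∀ y ∈ V, γ y = y := fun y hy => by
  rcases h.four hv hw v1 w1 e y hy with rfl | rfl | rfl | rfl
  exacts [map_one γ, h1, h2, by rw [map_mul, h1, h2]]

theorem Dec.nt (h : Dec E V W) : ∃ v ∈ V, v ≠ 1 := by
  have : Nontrivial V := Finite.one_lt_card_iff_nontrivial.1 (by rw [h.cV]; norm_num)
  obtain ⟨v, hv⟩ := exists_ne (1 : V)
  exact ⟨v, v.2, fun e => hv (Subtype.ext e)⟩

theorem Dec.fix (h : Dec E V W) {e : MulAut Q} (he : e ∈ E) {v : Q} (hv : v ∈ V) (v1 : v ≠ 1) (h1 : e v = v) :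
    ∀ y ∈ V, e y = y := fun y hy => by
  by_contra h2
  have y1 : y ≠ 1 := fun e => h2 (by rw [e, map_one])
  have y2 : y ≠ v := fun e => h2 (by rw [e, h1])
  rcases h.four hv hy v1 y1 y2 _ (h.iV e he y hy) with h3 | h3 | h3 | h3
  · exact n1 e y1 h3
  · exact y2 (e.injective (h3.trans h1.symm))
  · exact h2 h3
  · exact h2 (odd_fix h.odd he (by rw [h3, map_mul, h1, h3, ← mul_assoc, h.sq, one_mul]))

theorem Dec.eq_one (h : Dec E V W) {γ : MulAut Q} (h1 : ∀ v ∈ V, γ v = v) (h2 : ∀ w ∈ W, γ w = w) : γ = 1 :=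
  MulEquiv.ext fun x => by
    obtain ⟨v, hv, w, hw, rfl⟩ := h.gen x
    rw [map_mul, h1 v hv, h2 w hw, MulAut.one_apply]

theorem Dec.split (h : Dec E V W) {v w v' w' : Q} (hv : v ∈ V) (hw : w ∈ W) (hv' : v' ∈ V) (hw' : w' ∈ W)
    (e : v' * w' = v * w) : v' = v ∧ w' = w := by
  have h1 : v⁻¹ * v' = w * w'⁻¹ := by
    rw [inv_mul_eq_iff_eq_mul, ← mul_assoc, ← e, mul_inv_cancel_right]
  have h2 := h.dis _ (mul_mem (inv_mem hv) hv') (h1 ▸ mul_mem hw (inv_mem hw'))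
  exact ⟨(inv_mul_eq_one.1 h2).symm, (mul_inv_eq_one.1 (h1.symm.trans h2)).symm⟩

/-- the pointwise stabiliser of `W` is transitive on the involutions of `V` -/
theorem Dec.tr (h : Dec E V W) {v v' : Q} (hv : v ∈ V) (hv' : v' ∈ V) (v1 : v ≠ 1) (v1' : v' ≠ 1) :
    ∃ e ∈ E, (∀ w ∈ W, e w = w) ∧ e v = v' := by
  classical
  obtain ⟨u, hu, u1⟩ := h.symm.nt
  obtain ⟨e, he, e1, e2⟩ : ∃ e ∈ E, e ≠ 1 ∧ e u = u := by
    by_contra h0
    push Not at h0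
    have h1 : Nat.card E ≤ ((W : Set Q) \ {1}).ncard := by
      rw [← Nat.card_coe_set_eq]
      refine Nat.card_le_card_of_injective (fun e => ⟨e.1 u, h.iW _ e.2 u hu, n1 _ u1⟩) fun a c k => ?_
      by_contra h2
      refine h0 (c.1⁻¹ * a.1) (mul_mem (inv_mem c.2) a.2) (fun k' => h2 (Subtype.ext (inv_mul_eq_one.1 k').symm)) ?_
      rw [MulAut.mul_apply, show a.1 u = c.1 u from congrArg Subtype.val k, MulAut.inv_apply_self]
    rw [Set.ncard_sdiff_singleton_of_mem (one_mem W), show (W : Set Q).ncard = 4 from h.cW] at h1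
    exact absurd h.big (by omega)
  have e3 := h.symm.fix he hu u1 e2
  have e4 : ∀ y ∈ V, y ≠ 1 → e y ≠ y := fun y hy y1 k => e1 (h.eq_one (h.fix he hy y1 k) e3)
  have w0 := h.iV e he v hv
  have b1 := h.four hv w0 v1 (n1 e v1) (e4 v hv v1)
  rcases b1 v' hv' with k | k | k | k
  · exact absurd k v1'
  · exact ⟨1, one_mem E, fun _ _ => rfl, k.symm⟩
  · exact ⟨e, he, e3, k.symm⟩
  · refine ⟨e * e, mul_mem he he, fun w hw => by rw [MulAut.mul_apply, e3 w hw, e3 w hw], ?_⟩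
    rw [MulAut.mul_apply, k]
    rcases b1 _ (h.iV e he _ w0) with k' | k' | k' | k'
    · exact absurd k' (n1 e (n1 e v1))
    · exact absurd (odd_fix h.odd he k') (e4 v hv v1)
    · exact absurd k' (e4 _ w0 (n1 e v1))
    · exact k'

theorem Dec.al (h : Dec E V W) (hα : ∀ u, ∃ e ∈ E, e (α u) = u) : ∀ v ∈ V, α v ∈ V := fun v hv => by
  obtain ⟨e, he, k⟩ := hα v
  have h1 := h.iV _ (inv_mem he) v hv
  rwa [← k, MulAut.inv_apply_self] at h1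

theorem Dec.cen (h : Dec E V W) (h1 : ¬ ∀ v ∈ V, α v = v) {e : MulAut Q} (he : e ∈ E) (hc : e * α = α * e) {v : Q}
    (hv : v ∈ V) (h2 : α v = v) : e v = v := by
  by_contra h3
  have v1 : v ≠ 1 := fun k => h3 (by rw [k, map_one])
  exact h1 (h.two hv (h.iV e he v hv) v1 (n1 e v1) h3 h2 (by rw [← MulAut.mul_apply, ← hc, MulAut.mul_apply, h2]))

theorem Dec.one (h : Dec E V W) (h1 : ¬ ∀ v ∈ V, α v = v) : ∃ v₀, ∀ v ∈ V, α v = v → v = 1 ∨ v = v₀ := by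
  by_cases h0 : ∃ v ∈ V, v ≠ 1 ∧ α v = v
  · obtain ⟨v₀, k1, k2, k3⟩ := h0
    refine ⟨v₀, fun v hv k => ?_⟩
    by_contra h2
    push Not at h2
    exact h1 (h.two k1 hv k2 h2.1 h2.2 k3 k)
  · push Not at h0
    exact ⟨1, fun v hv k => .inl (by_contra fun k' => h0 v hv k' k)⟩

/-- the local configuration -/
structure Lc {Q : Type} [Group Q] (E : Subgroup (MulAut Q)) (α : MulAut Q) (V R : Subgroup Q) (u v : Q) : Prop where
  card : Nat.card R = 4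
  hu : u ∈ R
  u1 : u ≠ 1
  fu : α u = u
  hv : v ∈ V
  v1 : v ≠ 1
  dis : ∀ w ∈ V, w ∈ R → w = 1
  fix : ∀ e ∈ E, e u = u → ∀ r ∈ R, e r = r
  quo : ∀ e ∈ E, e u = u → ∀ w, w⁻¹ * e w ∈ V
  free : ∀ w ∉ R, ∀ e ∈ E, e u = u → e w = w → e = 1
  orb : ∀ w, ∃ e ∈ E, e u = u ∧ e (α w) = w
  hc : ∀ e ∈ E, e u = u → e * α = α * e → ∀ w, α w = w → e w = w

theorem Dec.lc (h : Dec E V W) (hα : ∀ u, ∃ e ∈ E, e (α u) = u) (hne : α ≠ 1) (h1 : ∀ w ∈ W, α w = w) :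
    ∃ u v, Lc E α V W u v := by
  obtain ⟨u, hu, u1⟩ := h.symm.nt
  obtain ⟨v, hv, v1⟩ := h.nt
  have a1 : ∀ e ∈ E, e u = u → ∀ r ∈ W, e r = r := fun e he k => h.symm.fix he hu u1 k
  refine ⟨u, v, h.cW, hu, u1, h1 u hu, hv, v1, h.dis, a1, fun e he k x => ?_, fun x hx e he k k' => ?_, fun x => ?_,
    fun e he k hc x k' => ?_⟩ <;> obtain ⟨y, hy, w, hw, rfl⟩ := h.gen x
  · rw [map_mul, a1 e he k w hw, mul_inv_rev, mul_comm (e y), mul_mul_mul_comm, inv_mul_cancel, one_mul]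
    exact mul_mem (inv_mem hy) (h.iV e he y hy)
  · rw [map_mul, a1 e he k w hw, mul_left_inj] at k'
    exact h.eq_one (h.fix he hy (fun e => hx (by rwa [e, one_mul])) k') (a1 e he k)
  · by_cases y1 : y = 1
    · exact ⟨1, one_mem E, rfl, by rw [y1, one_mul, h1 w hw, MulAut.one_apply]⟩
    · obtain ⟨e, he, k1, k2⟩ := h.tr (h.al hα y hy) hy (n1 α y1) y1
      exact ⟨e, he, k1 u hu, by rw [map_mul, map_mul, k2, h1 w hw, k1 w hw]⟩
  · rw [map_mul, h1 w hw, mul_left_inj] at k'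
    rw [map_mul, a1 e he k w hw, h.cen (fun k1 => hne (h.eq_one k1 h1)) he hc hy k']

/-- **the alternative** -/
theorem alt (h16 : Nat.card Q = 16) (sq : ∀ u : Q, u * u = 1) (odd : ¬ 2 ∣ Nat.card E) (big : 3 < Nat.card E)
    (cV : Nat.card V = 4) (iV : ∀ e ∈ E, ∀ v ∈ V, e v ∈ V) (hα : ∀ u, ∃ e ∈ E, e (α u) = u) (hne : α ≠ 1) :
    ((∀ e ∈ E, e * α = α * e → ∀ u, α u = u → e u = u) ∧ {u | α u = u}.ncard ≤ 4) ∨ ∃ V R u v, Lc E α V R u v := by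
  have : Fact (Nat.Prime 2) := ⟨Nat.prime_two⟩
  obtain ⟨W₀, h0⟩ := Lib.FrattiniPGroup.exists_isCompl_of_exponent (p := 2) (fun a => (pow_two a).trans (sq a)) V
  obtain ⟨W, k1, k2, k3⟩ := S0660.exists_invariant_complement E.subtype (by
    rw [h16, show 16 = 2 ^ 4 from rfl]
    exact Nat.Coprime.pow_right 4 (Nat.prime_two.coprime_iff_not_dvd.2 odd).symm) V W₀ (fun a => iV a a.2)
    h0.inf_eq_bot h0.sup_eq_top
  have h : Dec E V W := by
    refine ⟨odd, big, sq, cV, ?_, iV, fun e he => k1 ⟨e, he⟩, fun v h1 h2 => Subgroup.mem_bot.1 (k2.le ⟨h1, h2⟩),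
      fun x => ?_⟩
    · have h1 := (Subgroup.isComplement'_of_disjoint_and_mul_eq_univ (disjoint_iff.2 k2) (by
        rw [← Subgroup.mul_normal, k3, Subgroup.coe_top])).card_mul_card
      rw [cV, h16] at h1
      omega
    · obtain ⟨v, hv, w, hw, e⟩ := Subgroup.mem_sup.1 (k3.ge (Subgroup.mem_top x))
      exact ⟨v, hv, w, hw, e.symm⟩
  by_cases h1 : ∀ w ∈ W, α w = w
  · exact .inr ⟨V, W, h.lc hα hne h1⟩
  by_cases h2 : ∀ v ∈ V, α v = v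
  · exact .inr ⟨W, V, h.symm.lc hα hne h2⟩
  have a1 : ∀ v ∈ V, ∀ w ∈ W, α (v * w) = v * w → α v = v ∧ α w = w := fun v hv w hw e =>
    h.split hv hw (h.al hα v hv) (h.symm.al hα w hw) ((map_mul α v w).symm.trans e)
  refine .inl ⟨fun e he hc x k => ?_, ?_⟩
  · obtain ⟨v, hv, w, hw, rfl⟩ := h.gen x
    rw [map_mul, h.cen h2 he hc hv (a1 v hv w hw k).1, h.symm.cen h1 he hc hw (a1 v hv w hw k).2]
  · obtain ⟨v₀, b1⟩ := h.one h2
    obtain ⟨w₀, b2⟩ := h.symm.one h1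
    refine le_trans (Set.ncard_le_ncard (t := {1, v₀, w₀, v₀ * w₀}) (fun x k => ?_) (Set.toFinite _)) ?_
    · obtain ⟨v, hv, w, hw, rfl⟩ := h.gen x
      rcases b1 v hv (a1 v hv w hw k).1 with rfl | rfl <;> rcases b2 w hw (a1 _ hv w hw k).2 with rfl | rfl <;> simp
    · exact (Set.ncard_insert_le _ _).trans (Nat.succ_le_succ ((Set.ncard_insert_le _ _).trans (Nat.succ_le_succ
        ((Set.ncard_insert_le _ _).trans (Nat.succ_le_succ (Set.ncard_singleton _).le)))))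

theorem alt' {Q : Type} [Group Q] [Finite Q] {E : Subgroup (MulAut Q)} {V : Subgroup Q} {α : MulAut Q}
    (hc : ∀ x y : Q, x * y = y * x) (h16 : Nat.card Q = 16) (sq : ∀ u : Q, u * u = 1) (odd : ¬ 2 ∣ Nat.card E)
    (big : 3 < Nat.card E) (cV : Nat.card V = 4) (iV : ∀ e ∈ E, ∀ v ∈ V, e v ∈ V) (hα : ∀ u, ∃ e ∈ E, e (α u) = u)
    (hne : α ≠ 1) :
    ((∀ e ∈ E, e * α = α * e → ∀ u, α u = u → e u = u) ∧ {u | α u = u}.ncard ≤ 4) ∨ ∃ V R u v, Lc E α V R u v := by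
  let _ : CommGroup Q := { (inferInstance : Group Q) with mul_comm := hc }
  exact alt h16 sq odd big cV iV hα hne

end Cfsg.Agent.BH.R2.FX
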