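import Cfsg.Agent.BH.Row2L.Defs
import Cfsg.Agent.BH.Row2L.FX1
import Cfsg.Agent.BH.Row2L.FX2
import Cfsg.Agent.BH.RowO.Sh
import Cfsg.Agent.BH.RowO.E2
import Cfsg.Agent.H608.KKL.C1

/-!
# BH (S4524), box FX: no counterexample with `Q = 2⁴` and inertial quotient `3 × 3` (helper82)
-/

set_option autoImplicit false
set_option linter.unusedSectionVars false

namespace Cfsg.Agent.BH.R2

open Cfsg Subgroup Cfsg.Agent.TO Cfsg.Agent.TO.Q8 Cfsg.Agent.BH.RO Cfsg.Agent.BH.V4 Cfsg.Agent.H649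
open Cfsg.Agent.Blocks.Basic

namespace FX

variable {K : Type} [Group K] [Finite K] {M : Ideal AlgInt} {b : Set (IrrCharacter K)} {Q : Subgroup K} {θ : K → ℂ}
  {S : Type} [Group S] {σ : K →* S} {A A₀ : Subgroup (MulAut K)} {α : MulAut K}

theorem card_fn : (Fn b).ncard = Nat.card b := by
  rw [Nat.card_coe_set_eq]
  exact Set.ncard_image_of_injective _ Subtype.val_injective

theorem cnt (h : Can 2 M b Q θ) (hα : α ∈ LA Q θ) (hp : PElt 2 α) (H : HC Q θ α) (h1 : ∀ χ ∈ Fn b, χ ∘ α = χ) :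
    Nat.card b ≤ {u : K | u ∈ Q ∧ α u = u}.ncard := by
  have h2 := boxCNT K b Q θ h α hα hp H
  rwa [show {χ ∈ Fn b | χ ∘ α = χ} = Fn b from Set.ext fun χ => and_iff_left_of_imp (h1 χ), card_fn] at h2

/-- the commutators of a `2`-element -/
theorem dec (hN : NS S 2) (H : QHyp 2 M b Q θ σ) (hA : AHyp 2 b Q θ A A₀) (hα : α ∈ A) (hp : PElt 2 α) {γ : MulAut K}
    (hγ : γ ∈ A) : γ⁻¹ * α * γ * α⁻¹ ∈ A₀ ∧ ∃ (s : K) (e : MulAut K), MulAut.conj s ∈ zpowers (γ⁻¹ * α * γ * α⁻¹) ∧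
      e ∈ zpowers (γ⁻¹ * α * γ * α⁻¹) ∧ PElt 2 e ∧ γ⁻¹ * α * γ = MulAut.conj s * e * α := by
  obtain ⟨f, f1, f2, -⟩ := H.exists_dn
  have f3 : ∀ k, f (MulAut.conj k) = MulAut.conj (σ k) := fun k => MulEquiv.ext (H.surj.forall.2 fun g => by
    rw [← f1]; simp)
  have fo : ∀ α, PElt 2 α → PElt 2 (f α) := fun α h => by rwa [PElt, orderOf_injective f f2]
  refine ⟨?_, ?_⟩
  · have := hA.normal
    have h1 : Nat.card (A ⧸ A₀.subgroupOf A) = 2 := hA.index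
    have h2 : IsCyclic (A ⧸ A₀.subgroupOf A) := isCyclic_of_prime_card h1
    let π := QuotientGroup.mk' (A₀.subgroupOf A)
    have h3 : π ((⟨γ, hγ⟩ : A)⁻¹ * ⟨α, hα⟩ * ⟨γ, hγ⟩ * (⟨α, hα⟩ : A)⁻¹) = 1 := by
      rw [map_mul, map_mul, map_mul, map_inv, map_inv, mul_assoc (π _)⁻¹,
        (IsCyclic.isMulCommutative (α := A ⧸ A₀.subgroupOf A)).is_comm.comm (π ⟨α, hα⟩), inv_mul_cancel_left,
        mul_inv_cancel]
    exact mem_subgroupOf.1 ((QuotientGroup.eq_one_iff _).1 h3)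
  obtain ⟨j, t, ht⟩ := hN _ _ (fo _ (E2.pelt_conj hp γ)) (fo _ (E2.pelt_inv hp))
  obtain ⟨s, rfl⟩ := H.surj t
  rw [← map_mul, ← map_pow, ← f3] at ht
  have hs := f2 ht
  set d := γ⁻¹ * α * γ * α⁻¹ with hd
  obtain ⟨k, m, h1, h2⟩ := Nat.exists_eq_pow_mul_and_not_dvd (orderOf_pos d).ne' 2 Nat.prime_two.ne_one
  have h5 : Nat.Coprime m (2 ^ j) := (Nat.Coprime.pow_left j (Nat.prime_two.coprime_iff_not_dvd.2 h1)).symm
  obtain ⟨x, y, e⟩ := Nat.isCoprime_iff_coprime.2 h5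
  refine ⟨s ^ y, (d ^ m) ^ x, ?_, zpow_mem (npow_mem_zpowers d m) x, E2.pelt_iff.2 ⟨k, ?_⟩, ?_⟩
  · rw [map_zpow, hs]
    exact zpow_mem (npow_mem_zpowers d _) y
  · rw [← zpow_natCast, ← zpow_mul, mul_comm, zpow_mul, zpow_natCast, ← pow_mul, mul_comm, ← h2, pow_orderOf_eq_one,
      one_zpow]
  · rw [map_zpow, hs, ← zpow_natCast, ← zpow_natCast, ← zpow_mul, ← zpow_mul, ← zpow_add, add_comm, mul_comm (m : ℤ),
      mul_comm _ y, e, zpow_one, hd, inv_mul_cancel_right]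

theorem fix_fn (hN : NS S 2) (H : QHyp 2 M b Q θ σ) (hA : AHyp 2 b Q θ A A₀) (hα : α ∈ A) (hp : PElt 2 α) :
    ∀ χ ∈ Fn b, χ ∘ α = χ := fun χ hχ => by
  obtain ⟨γ, h1⟩ := exists_conj_mem (hA.orb χ hχ) (x := ⟨α, hα⟩) (let ⟨k, hk⟩ := hp; ⟨k, (orderOf_coe _).symm.trans hk⟩)
  obtain ⟨h2, s, e, -, h3, h4, h5⟩ := dec hN H hA hα hp γ.2
  have h6 : χ ∘ (γ.1⁻¹ * α * γ.1 : MulAut K) = χ := funext h1.2
  rwa [h5, comp_mul, comp_mul, comp_conj (fn_irr hχ), hA.f0 e (zpowers_le.2 h2 h3) h4 χ hχ] at h6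

theorem orb_Q (hN : NS S 2) (H : QHyp 2 M b Q θ σ) (hA : AHyp 2 b Q θ A A₀) (hα : α ∈ A ⊓ LA Q θ) (hp : PElt 2 α) :
    ∀ u ∈ Q, ∃ t ∈ In Q θ, t * α u * t⁻¹ = u := fun u hu => by
  obtain ⟨γ, h1⟩ := exists_conj_mem (hA.orbQ u hu) (x := ⟨α, hα⟩) (let ⟨k, hk⟩ := hp; ⟨k, (orderOf_coe _).symm.trans hk⟩)
  obtain ⟨h2, s, e, h0, h3, h4, h5⟩ := dec hN H hA hα.1 hp γ.2.1
  have h7 : zpowers (γ.1⁻¹ * α * γ.1 * α⁻¹) ≤ LA Q θ :=
    zpowers_le.2 (mul_mem (mul_mem (mul_mem (inv_mem γ.2.2) hα.2) γ.2.2) (inv_mem hα.2))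
  have h6 : (γ.1⁻¹ * α * γ.1 : MulAut K) u = u := h1
  rw [h5, MulAut.mul_apply, MulAut.mul_apply, hA.c0 e ⟨zpowers_le.2 h2 h3, h7 h3⟩ h4 _ ((hα.2.1 u).2 hu)] at h6
  exact ⟨s, h7 h0, h6⟩

/-- the local case -/
theorem loc (h : Can 2 M b Q θ) (hα : α ∈ LA Q θ) (hp : PElt 2 α) (h16 : Nat.card Q = 16) (sq : ∀ w ∈ Q, w * w = 1)
    (hne : ∃ w ∈ Q, α w ≠ w) (h1 : ∀ χ ∈ Fn b, χ ∘ α = χ) {V R : Subgroup Q} {u v : Q}
    (L : Lc (ri Q θ).range (rs Q θ ⟨α, hα⟩) V R u v) : False := by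
  have := h.prime
  obtain ⟨c, hci, hc⟩ := h.loc u.2
  have fu : α u = u := congrArg Subtype.val L.fu
  have H : ∀ x, α x ∈ Cu (u : K) ↔ x ∈ Cu (u : K) := Cn.Cu_iff fu
  have hQ : Q ≤ Cu (u : K) := h.ab.trans (ce_le_cu u.2)
  have hβ := resAut_mem_LA hα _ H
  set β := resAut α (Cu (u : K)) H with hβ'
  have up : ∀ t ∈ In (Q.subgroupOf (Cu (u : K))) fun x : Cu (u : K) => θ x, ∃ e ∈ (ri Q θ).range, e u = u ∧
      ∀ w : Q, (e w : K) = t * w * (t : K)⁻¹ := fun t ht =>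
    ⟨_, ⟨⟨t, in_cu_le h u.2 ht⟩, rfl⟩, Subtype.ext (by rw [ri_coe, mem_cu.1 t.2, mul_inv_cancel_right]), fun _ => rfl⟩
  have mem : ∀ (X : Subgroup Q) (w : Cu (u : K)) (hw : (w : K) ∈ Q),
      w ∈ (X.map Q.subtype).subgroupOf (Cu (u : K)) ↔ (⟨w, hw⟩ : Q) ∈ X := fun X w hw =>
    mem_map_iff_mem (f := Q.subtype) Q.subtype_injective (x := ⟨w, hw⟩)
  have pβ : PElt 2 β := by
    obtain ⟨k, hk⟩ := E2.pelt_iff.1 hp
    have a1 : ∀ (n : ℕ) x, ((β ^ n) x : K) = (α ^ n) x := fun n => by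
      induction n with
      | zero => exact fun _ => rfl
      | succ n ih => exact fun x => by rw [pow_succ, pow_succ, MulAut.mul_apply, MulAut.mul_apply, ih]; rfl
    exact E2.pelt_iff.2 ⟨k, MulEquiv.ext fun x => Subtype.ext (by rw [a1, hk]; rfl)⟩
  have a1 := cnt hc hβ pβ (fun t ht k w hw e => ?_) fun x hx => core hc hβ (V := (V.map Q.subtype).subgroupOf _)
    (R := (R.map Q.subtype).subgroupOf _) (fun w hw => Subtype.ext (sq w hw)) (fun t ht w hw => ?_)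
    (fun w hw k t ht e => ?_) (fun w k k' => ?_) (v := ⟨v, hQ v.2⟩) ((mem V _ v.2).2 L.hv) v.2
    (fun e => L.v1 (Subtype.ext (congrArg Subtype.val e :))) (fun w hw => ?_)
    (fun y hy s hs => reg_fix h.hM (Cn.pElt h.pg u.2) hci fu h1 H (hc.le_Stab hβ) hy hs) hx
  · have a2 : Nat.card (Q.subgroupOf (Cu (u : K))) = 16 :=
      (Nat.card_congr (subgroupOfEquivOfLe hQ).toEquiv).trans h16
    have a3 : Nat.card (Q.subgroupOf (Cu (u : K))) ≤ Nat.card c := (KM.Two.card_ge_idx h.hM _ _ rfl c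
      ⟨Q.subgroupOf (Cu (u : K)), Can.root M _ fun x : Cu (u : K) => θ x⟩ hc.hmax hc.comm
      ((R.map Q.subtype).subgroupOf _) (comap_mono (map_subtype_le R)) (by
        show Nat.card (Q.subgroupOf (Cu (u : K))) ∣ _
        rw [a2, Nat.card_congr (subgroupOfEquivOfLe ((map_subtype_le R).trans hQ)).toEquiv,
          card_map_of_injective Q.subtype_injective, L.card]) fun t ht r hr => by
        obtain ⟨e, k1, k2, k3⟩ := up t ((hc.mem_In_iff t).2 ((conjIdx_eq_iff hc.he t).1 ht))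
        have k4 : (r : K) ∈ Q := map_subtype_le R hr
        exact Subtype.ext ((k3 ⟨r, k4⟩).symm.trans (congrArg Subtype.val (L.fix e k1 k2 _ ((mem R r k4).1 hr))))).1
    obtain ⟨w, hw, e⟩ := hne
    have a4 : {y | y ∈ Q.subgroupOf (Cu (u : K)) ∧ β y = y}.ncard < (Q.subgroupOf (Cu (u : K)) : Set (Cu (u : K))).ncard :=
      Set.ncard_lt_ncard ⟨fun _ k => k.1, fun k => e (congrArg Subtype.val (k (a := ⟨w, hQ hw⟩) hw).2)⟩
    exact absurd (a3.trans a1) (not_le.2 a4)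
  · obtain ⟨e', k1, k2, k3⟩ := up t ht
    refine Subtype.ext ((k3 ⟨w, hw⟩).symm.trans (congrArg Subtype.val (L.hc e' k1 k2 (MulEquiv.ext fun y =>
      Subtype.ext ?_) ⟨w, hw⟩ (Subtype.ext (congrArg Subtype.val e :)))))
    rw [MulAut.mul_apply, MulAut.mul_apply, k3, rs_coe, rs_coe, k3]
    exact congrArg Subtype.val (k ⟨y, hQ y.2⟩ y.2)
  · obtain ⟨e, k1, k2, k3⟩ := up t ht
    exact ⟨_, L.quo e k1 k2 ⟨w, hw⟩, congrArg ((w : K)⁻¹ * ·) (k3 ⟨w, hw⟩)⟩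
  · obtain ⟨e', k1, k2, k3⟩ := up t ht
    have k4 := L.free ⟨w, hw⟩ (mt (mem R w hw).2 k) e' k1 k2 (Subtype.ext ((k3 _).trans (congrArg Subtype.val e)))
    refine mem_ce.2 fun d hd => Subtype.ext ?_
    have k5 := k3 ⟨d, hd⟩
    rw [k4] at k5
    exact eq_mul_inv_iff_mul_eq.1 k5
  · have k1 : (w : K) ∈ Q := map_subtype_le V k
    exact Subtype.ext (congrArg Subtype.val (L.dis _ ((mem V w k1).1 k) ((mem R w k1).1 k')) :)
  · obtain ⟨_, ⟨t, rfl⟩, k1, k2⟩ := L.orb ⟨w, hw⟩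
    exact ⟨⟨t, mem_cu.2 (mul_inv_eq_iff_eq_mul.1 (congrArg Subtype.val k1))⟩, ⟨fun x => t.2.1 x, fun g => t.2.2 g⟩,
      Subtype.ext (congrArg Subtype.val k2 :)⟩

end FX

open FX in
/-- **[FX]** -/
theorem boxFX : BoxFX := by
  intro S _ hN K _ _ σ M b Q θ H A A₀ ⟨_, hA, hn⟩ h9
  simp only [Cen, not_forall] at hn
  obtain ⟨α, hα, hp, u, hu, hne⟩ := hn
  have h := H.can
  have := h.prime
  have cpp : BHZ.Nil.CentPP 2 σ := ⟨H.ker.le, by rw [H.ker]; exact H.zp⟩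
  have inj : ∀ u ∈ Q, ∀ v ∈ Q, σ u = σ v → u = v := fun u hu v hv e => by
    obtain ⟨n, h1⟩ := h.pg ⟨u * v⁻¹, mul_mem hu (inv_mem hv)⟩
    exact mul_inv_eq_one.1 (cpp.eq_one (by rw [map_mul, map_inv, e, mul_inv_cancel]) (congrArg Subtype.val h1))
  have h16 : Nat.card Q = 16 := (Nat.card_congr (Equiv.ofBijective (σ.subgroupMap Q)
    ⟨fun u v e => Subtype.ext (inj u u.2 v v.2 (congrArg Subtype.val e)), σ.subgroupMap_surjective Q⟩)).trans h9.card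
  have sq : ∀ w ∈ Q, w * w = 1 := fun w hw => inj _ (mul_mem hw hw) 1 (one_mem Q) (by
    rw [map_mul, h9.sq _ ⟨w, hw, rfl⟩, map_one])
  obtain ⟨V, v1, v2, v3⟩ := h9.inv
  have h1 := fix_fn hN H hA hα.1 hp
  rcases alt' (E := (ri Q θ).range) (V := V.comap (σ.comp Q.subtype)) (α := rs Q θ ⟨α, hα.2⟩)
    (fun x y => Subtype.ext (h.comm x x.2 y y.2)) h16 (fun w => Subtype.ext (sq w w.2)) (ndvd_ri h) (by
      have a1 := h9.big
      rw [← relIndex_comap, relIndex, show ((Ce (Q.map σ)).comap σ).subgroupOf (In Q θ) = (Ce Q).subgroupOf (In Q θ) from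
        Subgroup.ext fun t => ⟨fun k => mem_ce.2 fun d hd => (mul_inv_eq_iff_eq_mul.1 (inj _ ((t.2.1 d).2 hd) d hd (by
          rw [MulAut.conj_apply, map_mul, map_mul, ← show σ d * σ t = σ t * σ d from mem_ce.1 k _ ⟨d, hd, rfl⟩, map_inv,
            mul_inv_cancel_right]))).symm,
          fun k => mem_ce.2 (by
            rintro _ ⟨d, hd, rfl⟩
            rw [← map_mul, ← map_mul, mem_ce.1 k d hd])⟩] at a1
      rwa [card_ri]) (by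
      rw [← v2]
      refine Nat.card_congr (Equiv.ofBijective (fun x => ⟨σ x.1, x.2⟩) ⟨fun x y e =>
        Subtype.ext (Subtype.ext (inj _ x.1.2 _ y.1.2 (congrArg Subtype.val e))), fun y => ?_⟩)
      obtain ⟨x, k1, k2⟩ := v1 y.2
      exact ⟨⟨⟨x, k1⟩, show σ x ∈ V from k2 ▸ y.2⟩, Subtype.ext k2⟩) (by
      rintro _ ⟨t, rfl⟩ w hw
      show σ (t * w * (t : K)⁻¹) ∈ V
      rw [map_mul, map_mul, map_inv]
      exact v3 _ ⟨t, t.2, rfl⟩ _ hw) (fun w =>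
      let ⟨t, k1, k2⟩ := orb_Q hN H hA hα hp w w.2
      ⟨_, ⟨⟨t, k1⟩, rfl⟩, Subtype.ext k2⟩)
    (fun e => hne (congrArg (fun f : MulAut Q => ((f ⟨u, hu⟩ : Q) : K)) e)) with ⟨a1, a2⟩ | ⟨V, R, u', v, L⟩
  · have a3 := cnt h hα.2 hp (fun t ht hc w hw e => congrArg Subtype.val
      (a1 _ ⟨⟨t, ht⟩, rfl⟩ (MulEquiv.ext fun y => Subtype.ext (hc y y.2)) ⟨w, hw⟩ (Subtype.ext e))) h1
    have a4 : {w : K | w ∈ Q ∧ α w = w}.ncard ≤ 4 := by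
      refine le_trans (Set.ncard_le_ncard (t := Subtype.val '' {w : Q | rs Q θ ⟨α, hα.2⟩ w = w})
        (fun w k => ⟨⟨w, k.1⟩, Subtype.ext k.2, rfl⟩) (Set.toFinite _)) ((Set.ncard_image_le (Set.toFinite _)).trans a2)
    have a5 := H608.KKL.eight_dvd h.hM h.hb h.hD (d := 4) h16 (by norm_num)
      (H.km M h.hM K b Q h.hb h.hD ⟨⟨fun x y => Subtype.ext (h.comm x x.2 y y.2)⟩⟩)
    have a6 : 0 < Nat.card b := by
      obtain ⟨χ, hχ⟩ := isPBlock_nonempty h.hb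
      have : Finite (IrrCharacter K) := Characters.Core.finite_irr
      exact Nat.card_pos_iff.2 ⟨⟨⟨χ, hχ⟩⟩, inferInstance⟩
    omega
  · exact loc h hα.2 hp h16 sq ⟨u, hu, hne⟩ h1 L

end Cfsg.Agent.BH.R2
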