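import Cfsg.Agent.BH.Row2L.Defs
import Cfsg.Agent.KM.E2.Tool
import Mathlib.GroupTheory.IndexNSmul

/-!
# BH, `Row2L`: the stabiliser of a regular label, change of the frame (helper86)

`lt_con`, `lt_conj`, `boxLC_of`, `tl_of_lt`; `Cn6.key`, `Cn6.con1`, `Cn6.con3`.
-/

set_option autoImplicit false
set_option linter.unusedSectionVars false
set_option maxHeartbeats 400000

namespace Cfsg.Agent.BH.R2

open Cfsg Subgroup Matrix Cfsg.Agent.Tits.Roots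
open Cfsg.Agent.KM.Tor (AllD conj_Wm')
open Cfsg.Agent.KM.E2 (pr_conj)
open Cfsg.Agent.DL Cfsg.Agent.DL.PP Cfsg.Agent.KZ.Lie

namespace Cn6

theorem exists_log {R : Type} [Fintype R] {c : R → ℂˣ} {n : ℕ} (hn : n ≠ 0) (hc : c ^ n = 1) :
    ∃ (x : R → ℤ) (ω : ℂˣ), IsPrimitiveRoot ω n ∧ ∀ y, chr y c = ω ^ (x ⬝ᵥ y) := by
  have : NeZero n := ⟨hn⟩
  have hω := (Complex.isPrimitiveRoot_exp _ hn).isUnit_unit hn
  choose x _ hx using fun i => hω.eq_pow_of_mem_rootsOfUnity (ξ := c i) (congrFun hc i)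
  refine ⟨fun i => x i, _, hω, fun y => ?_⟩
  rw [dotProduct_comm, dotProduct, ← chr_coch]
  congr 1
  funext i
  rw [coch_apply, zpow_natCast, hx]

variable {p : ℕ} [Fact p.Prime] {k : Type} [Field k] [CharP k p] {Y : Type} [Group Y] {N : Type} [Fintype N]
  [DecidableEq N] {ρ : Y →* GL N k} {F : MulAut Y} {G : Subgroup Y} [IsAlgClosed k] {X : Datum p ρ F G} {c : Lbl X}

variable (X) in
/-- the root lattice -/
abbrev RL : Submodule ℤ (X.R → ℤ) := Submodule.span ℤ (X.wt '' {b | X.Rt b})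

theorem mem_RL {m : X.R → ℤ} : m ∈ RL X ↔ ∃ β, X.wt β = m := by
  refine ⟨fun h => ?_, ?_⟩
  · exact (Submodule.span_le (p := LinearMap.range X.wt.toIntLinearMap)).2 (by rintro _ ⟨a, -, rfl⟩; exact ⟨a, rfl⟩) h
  · rintro ⟨β, rfl⟩
    rw [X.eq_sum_sr β, map_sum]
    exact sum_mem fun i _ => by
      rw [map_zsmul]
      exact Submodule.smul_mem _ _ (Submodule.subset_span ⟨_, isRoot_sr X.cs X.h i, rfl⟩)

/-- **Steinberg**: the stabiliser of a regular label embeds in the fundamental group -/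
theorem key {n : ℕ} (hn : n ≠ 0) (hc : c ^ n = 1) (h : Rg X {b | X.Rt b} c) :
    ∃ μ : {u // Rel X u c c} → X.R → ℤ, (∀ u, (n : ℤ) • μ u ∈ RL X) ∧ ∀ u v, μ u - μ v ∈ RL X → u = v := by
  obtain ⟨x, ω, hω, hx⟩ := exists_log hn hc
  choose β hβ using exists_wt X x
  have h1 : ∀ (u : {u // Rel X u c c}) i, (n : ℤ) ∣ X.wt (β u) i := fun u i => by
    have := u.2 (Pi.single i 1)
    rwa [hx, hx, dotProduct_mulVec, hβ, add_dotProduct, _root_.zpow_add, mul_eq_left, hω.zpow_eq_one_iff_dvd,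
      dotProduct_single, mul_one] at this
  choose μ hμ using h1
  have h2 : ∀ u : {u // Rel X u c c}, X.wt (β u) = (n : ℤ) • μ u := fun u => funext (hμ u)
  refine ⟨μ, fun u => mem_RL.2 ⟨_, h2 u⟩, fun u v e => ?_⟩
  obtain ⟨γ, hγ⟩ := mem_RL.1 e
  refine Subtype.ext (mul_inv_eq_one.1 (eq_one_of_generic X (η := x) (Int.natCast_pos.2 (Nat.pos_of_ne_zero hn))
    (fun a ha e => h a ha (by rwa [hx, hω.zpow_eq_one_iff_dvd])) (β := X.act v.1⁻¹⁻¹ γ) ?_))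
  have h3 : x ᵥ* X.Wm u.1 = x ᵥ* X.Wm v.1 + (n : ℤ) • X.wt γ := by
    rw [hβ, hβ, h2, h2, hγ, smul_sub]; abel
  rw [X.Wm_mul, ← vecMul_vecMul, h3, add_vecMul, vecMul_vecMul, ← X.Wm_mul, mul_inv_cancel, X.Wm_one, vecMul_one,
    smul_vecMul, X.wt_act']

theorem con1 (h2 : ∀ m : X.R → ℤ, (2 : ℤ) • m ∈ RL X) (ho : Oo X c) (h : Rg X {b | X.Rt b} c) :
    Nat.card {u // Rel X u c c} ≤ 1 := by
  obtain ⟨n, h0, hc⟩ := ho
  obtain ⟨μ, h1, h3⟩ := key (n := n) (fun e => h0 (e ▸ dvd_zero 2)) hc h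
  obtain ⟨j, rfl⟩ : ∃ j, n = 2 * j + 1 := ⟨n / 2, by omega⟩
  have h4 : ∀ u, μ u ∈ RL X := fun u => by
    have := sub_mem (h1 u) (h2 ((j : ℤ) • μ u))
    rwa [smul_smul, ← sub_smul, show ((2 * j + 1 : ℕ) : ℤ) - 2 * j = 1 by push_cast; ring, one_smul] at this
  exact Finite.card_le_one_iff_subsingleton.2 ⟨fun u v => h3 u v (sub_mem (h4 u) (h4 v))⟩

theorem con3 (h3 : ∀ m : X.R → ℤ, (3 : ℤ) • m ∈ RL X) (ho : Oo X c) (h : Rg X {b | X.Rt b} c) :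
    Nat.card {u // Rel X u c c} ≤ (RL X).toAddSubgroup.index := by
  obtain ⟨n, h0, hc⟩ := ho
  obtain ⟨μ, -, h1⟩ := key (n := n) (fun e => h0 (e ▸ dvd_zero 2)) hc h
  have : (nsmulAddMonoidHom (α := X.R → ℤ) 3).range.FiniteIndex :=
    ⟨by rw [AddSubgroup.index_range_nsmul]; exact pow_ne_zero _ three_ne_zero⟩
  have : (RL X).toAddSubgroup.FiniteIndex := AddSubgroup.finiteIndex_of_le
    (H := (nsmulAddMonoidHom (α := X.R → ℤ) 3).range) (by rintro _ ⟨m, rfl⟩; exact h3 m)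
  refine Nat.card_le_card_of_injective (fun u => (μ u : (X.R → ℤ) ⧸ (RL X).toAddSubgroup)) fun u v e => h1 u v ?_
  exact QuotientAddGroup.eq_iff_sub_mem.1 e

theorem sc_conj {y : Y} (hy : y ∈ G) (hN : y⁻¹ * F y ∈ X.NN) (h : Sc X) : Sc (X.conj hy hN) :=
  let ⟨e, m, φ, h1, h2, h3⟩ := h
  ⟨e, m, X.pr (y⁻¹ * F y) * φ, h1, h2, by rw [Datum.conj_Mx, conj_Wm', h3, X.Wm_mul, Matrix.mul_smul]⟩

end Cn6

/-- **[CON]** -/
theorem lt_con : AllD fun {_} _ _ _ _ _ _ _ _ _ _ _ _ _ X => ∀ a, LT X a → ∀ c, Oo X c → Rg X {b | X.Rt b} c →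
    Nat.card {u // Rel X u c c} ≤ a := fun _ _ h _ ho hr =>
  h.alt.elim (fun e => e.1 ▸ Cn6.con1 e.2 ho hr) fun e => e.1 ▸ (Cn6.con3 e.2.2.1 ho hr).trans e.2.2.2.1

theorem lt_conj : AllD fun {_} _ _ _ _ {Y} _ _ _ _ _ {F} {G} _ X => ∀ a (y : Y) (hy : y ∈ G) (hN : y⁻¹ * F y ∈ X.NN), LT X a →
    LT (X.conj hy hN) a := fun _ _ _ hy hN h =>
  ⟨h.toLS.conj hy hN, Cn6.sc_conj hy hN h.sc, h.rk, by rw [pr_conj]; exact h.alt⟩

theorem boxLC_of (lc : AllD fun {p} _ _ _ _ {Y} _ _ _ _ _ _ _ _ X => p ≠ 2 → ∀ a, LT X a → ∀ (D : Subgroup Y)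
    (hZ : (D : Set Y) ⊆ X.T) (hF : ∀ b ∈ X.Sz D, X.g b ∈ X.Sz D), TD X D → AT (X.sub hZ hF rfl)) : BoxLC :=
  ⟨lc, lt_con, lt_conj⟩

theorem tl_of_lt (B : BoxLC) {p : ℕ} [Fact p.Prime] {k : Type} [Field k] [CharP k p] {Y : Type} [Group Y] {N : Type}
    [Fintype N] [DecidableEq N] {ρ : Y →* GL N k} {F : MulAut Y} {G : Subgroup Y} [IsAlgClosed k] {X : Datum p ρ F G} {a : ℕ}
    (hp : p ≠ 2) (h : LT X a) : TL X a := fun y hy hN =>
  have h' := B.conj X a y hy hN h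
  ⟨h'.sc, B.con _ a h', B.lc _ hp a h'⟩

end Cfsg.Agent.BH.R2
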