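import Cfsg.Agent.BH.Row2L.Defs
import Cfsg.Agent.HZ.L.X.Bas
import Cfsg.Agent.HZ.L.X.FrA
import Cfsg.Agent.HZ.L.X.Fw
import Cfsg.Agent.KM.Ev.Two
import Cfsg.Agent.DL.CF.Uni

/-!
# BH, the prime `2`: `AT` for Levi subgroups of type `A` (helper2)

`at_sub`.
-/

set_option autoImplicit false
set_option linter.unusedSectionVars false

namespace Cfsg.Agent.BH.R2

open Cfsg Matrix Equiv Cfsg.Agent.DL Cfsg.Agent.DL.PP Cfsg.Agent.KZ.Lie Cfsg.Agent.Tits.Roots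
open Cfsg.Agent.HZ.L Cfsg.Agent.HZ.L.X Cfsg.Agent.HZ.L.X.FrA
open Cfsg.Agent.TO.X.Cn (cl)
open Cfsg.Agent.KM.Ht (Z0)

/-- all components are of type `A` and have even rank -/
def TyO {R : Type} [Fintype R] [DecidableEq R] (Ψ : RS R) : Prop := ∃ (n : ℕ) (blk : Fin n → ℕ), (∀ i, blk i ≠ 0) ∧
  (∀ i, Odd (Finset.univ.filter fun j => blk j = blk i).card) ∧ Iso Ψ (std .D blk)

namespace LA

/-- two permutations with the same cycles which agree modulo a stable equivalence relation -/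
theorem exists_cj {J : Type} [Finite J] (s : Setoid J) {π π' : Perm J} (hπ : ∀ i j, s i j → s (π i) (π j))
    (h0 : ∀ i, s (π' i) (π i)) (h1 : ∀ i j, s i j → π.SameCycle i j) (h2 : ∀ i j, s i j → π'.SameCycle i j) :
    ∃ ν : Perm J, (∀ i, s (ν i) i) ∧ ν * π = π' * ν := by
  have h3 : ∀ (t : ℕ) i, s ((π' ^ t) i) ((π ^ t) i) := fun t i => by
    induction t with
    | zero => exact s.refl _
    | succ t ih => rw [pow_succ', pow_succ']; exact s.trans (h0 _) (hπ _ _ ih)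
  have h4 : ∀ x, MulAction.orbit (Subgroup.zpowers π) x = MulAction.orbit (Subgroup.zpowers π') x := fun x => by
    have h4 : ∀ (f : Perm J) y, y ∈ MulAction.orbit (Subgroup.zpowers f) x ↔ f.SameCycle x y := fun f y =>
      ⟨fun ⟨⟨_, t, rfl⟩, e⟩ => ⟨t, e⟩, fun ⟨t, e⟩ => ⟨⟨_, t, rfl⟩, e⟩⟩
    refine Set.ext fun y => (h4 _ _).trans (Iff.trans ⟨fun h => ?_, fun h => ?_⟩ (h4 _ _).symm) <;>
      obtain ⟨t, rfl⟩ := h.exists_nat_pow_eq
    exacts [Perm.sameCycle_pow_left.1 (h2 _ _ (h3 t x)), Perm.sameCycle_pow_left.1 (h1 _ _ (s.symm (h3 t x)))]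
  have h5 : ∀ x (a b : ℕ), (π ^ a) x = (π ^ b) x ↔ (π' ^ a) x = (π' ^ b) x := fun x a b => by
    have h5 : ∀ f : Perm J, (f ^ a) x = (f ^ b) x ↔
        (Nat.card (MulAction.orbit (Subgroup.zpowers f) x) : ℤ) ∣ -(b : ℤ) + a := fun f => by
      have := Fintype.ofFinite (MulAction.orbit (Subgroup.zpowers f) x)
      rw [Nat.card_eq_fintype_card, ← MulAction.minimalPeriod_eq_card, ← MulAction.zpow_smul_eq_iff_minimalPeriod_dvd,
        _root_.zpow_add, _root_.zpow_neg, mul_smul, inv_smul_eq_iff, zpow_natCast, zpow_natCast]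
      rfl
    rw [h5, h5, h4]
  let r : J → J := fun i => (Quotient.mk (Perm.SameCycle.setoid π) i).out
  have h6 : ∀ i j, π.SameCycle i j → r i = r j := fun i j h => congrArg Quotient.out (Quotient.sound h)
  choose t ht using fun i => Perm.SameCycle.exists_nat_pow_eq (f := π) (x := r i) (y := i) (Quotient.mk_out (s := Perm.SameCycle.setoid π) i)
  have h7 : ∀ i, s ((π' ^ t i) (r i)) i := fun i => by
    have := h3 (t i) (r i)
    rwa [ht] at this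
  have h8 : Function.Injective fun i => (π' ^ t i) (r i) := fun i j e => by
    have h8 := h6 i j (h1 _ _ (s.trans (s.symm (h7 i)) ((show (π' ^ t i) (r i) = _ from e) ▸ h7 j)))
    rw [← ht i, ← ht j, h8, h5, ← h8]
    exact e.trans (by rw [h8])
  refine ⟨ofBijective _ (Finite.injective_iff_bijective.1 h8), h7, Perm.ext fun i => ?_⟩
  change (π' ^ t (π i)) (r (π i)) = π' ((π' ^ t i) (r i))
  have h9 := h6 i (π i) (Perm.sameCycle_apply_right.2 (.refl _ _))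
  rw [← Perm.mul_apply, ← pow_succ', ← h9, ← h5, pow_succ', Perm.mul_apply, ht, h9, ht]

theorem cz_div {R : Type} [Fintype R] [DecidableEq R] {Ψ : RS R} {q : ℕ} (h : Cz q Ψ) {n : ℤ} {v : Vec R}
    (hv : ∀ a ∈ Ψ, n ∣ a.1 ⬝ᵥ v) : ∃ (s : ℕ) (y : Vec R), ∀ a ∈ Ψ, n * (a.1 ⬝ᵥ y) = q ^ s * (a.1 ⬝ᵥ v) := by
  obtain ⟨s, h⟩ := h
  have h1 : ∀ x ∈ Submodule.span ℤ (Prod.fst '' Ψ), n ∣ x ⬝ᵥ v := fun x hx => by
    induction hx using Submodule.span_induction with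
    | mem x hx =>
      obtain ⟨a, ha, rfl⟩ := hx
      exact hv a ha
    | zero => rw [zero_dotProduct]; exact dvd_zero _
    | add x y _ _ a b => rw [add_dotProduct]; exact a.add b
    | smul m x _ a => rw [smul_dotProduct]; exact a.mul_left _
  obtain ⟨y, hy⟩ := h
    { toFun := fun x => (x.1 ⬝ᵥ v) / n
      map_add' := fun x y => by rw [Submodule.coe_add, add_dotProduct, Int.add_ediv_of_dvd_left (h1 _ x.2)]
      map_smul' := fun m x => by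
        rw [Submodule.coe_smul, smul_dotProduct, smul_eq_mul, Int.mul_ediv_assoc _ (h1 _ x.2)]
        rfl }
  refine ⟨s, y, fun a ha => ?_⟩
  rw [show a.1 ⬝ᵥ y = q ^ s * (a.1 ⬝ᵥ v / n) from hy ⟨_, Submodule.subset_span ⟨a, ha, rfl⟩⟩, mul_left_comm,
    Int.mul_ediv_cancel' (hv a ha)]

theorem rt_vec {n : ℕ} (i j : Fin n) (z : Fin n → ℤ) : rt i j ⬝ᵥ z = z i - z j := by
  simp only [rt, sub_dotProduct, single_dotProduct, one_mul]

theorem sm_rt {n : ℕ} (g : LV.Cl.SG n) {i j : Fin n} (h : g.s i = g.s j) :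
    LV.Cl.sm g *ᵥ rt i j = (g.s i : ℤ) • rt (g.π i) (g.π j) := by
  rw [rt, mulVec_sub, sm_single, sm_single, ← h, rt, smul_sub, ← Pi.single_smul', ← Pi.single_smul']
  rfl

variable {p : ℕ} [Fact p.Prime] {k : Type} [Field k] [CharP k p] {Y : Type} [Group Y] {N : Type} [Fintype N]
  [DecidableEq N] {ρ : Y →* GL N k} {F : MulAut Y} {G : Subgroup Y} [IsAlgClosed k] {D : Datum p ρ F G}

variable (D) in
/-- the derived subgroup is simply connected -/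
def Sq : Prop := ∀ (v : Vec D.R) (n : ℤ), (∀ a, D.Rt a → n ∣ v ⬝ᵥ D.cor a) →
  ∃ x : Vec D.R, ∀ a, D.Rt a → n * (x ⬝ᵥ D.cor a) = v ⬝ᵥ D.cor a

theorem pw {w : D.W} {c : Lbl D} (hF : Fx D w c) {y y' : Vec D.R} {e : ℕ} {s : ℤˣ}
    (h : (D.Wm w * D.Mx) *ᵥ y = ((p : ℤ) ^ e * s) • y') (h1 : chr y c = 1) : chr y' c = 1 := by
  obtain ⟨n, h2, h3⟩ := fo_of_fx hF
  have h4 := hF y
  rw [h, chr_zsmul, h1] at h4
  refine (pow_eq_one_iff_of_coprime (Nat.Coprime.pow_left e (((Fact.out : p.Prime).coprime_iff_not_dvd).2 h2))).1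
    ⟨?_, by rw [← map_pow, h3, map_one]⟩
  have h5 := congrArg (· ^ (s : ℤ)) h4
  simp only [← _root_.zpow_mul, mul_assoc, Int.units_coe_mul_self, mul_one, _root_.one_zpow] at h5
  exact_mod_cast h5

variable {n : ℕ} {blk : Fin n → ℕ} {m : ℤ} (Φ : Fw D .D blk m) (hb : ∀ i, blk i ≠ 0) {i j l : Fin n} {v v' : Vec D.R}
  {z : Fin n → ℤ} {u : D.W}

open Classical in
/-- the root `e i - e j` and its coroot -/
noncomputable def ro (i j : Fin n) : Vec D.R × Vec D.R :=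
  if e : E blk i j then (Φ.φ.symm ⟨(rt i j, rt i j), (mem_std hb).2 ⟨i, j, e, rfl⟩⟩).1 else 0

theorem ro_mem (e : E blk i j) : ro Φ hb i j ∈ rts D := by
  rw [ro, dif_pos e]
  exact Subtype.property _

theorem exists_ro {x : Vec D.R × Vec D.R} (hx : x ∈ rts D) : ∃ i j, E blk i j ∧ x = ro Φ hb i j := by
  obtain ⟨i, j, e, h⟩ := (mem_std hb).1 (Φ.φ ⟨x, hx⟩).2
  exact ⟨i, j, e, by
    rw [ro, dif_pos e]
    refine congrArg Subtype.val (?_ : (⟨x, hx⟩ : rts D) = _)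
    exact Φ.φ.eq_symm_apply.2 (Subtype.ext h)⟩

theorem ro_self (i : Fin n) : ro Φ hb i i = 0 := dif_neg fun e => e.1 rfl

theorem ro_wt (h : blk i = blk j) (v : Vec D.R) : m * ((ro Φ hb i j).1 ⬝ᵥ v) = rt i j ⬝ᵥ (Φ.P *ᵥ v) := by
  by_cases e : i = j
  · rw [e, ro_self, rt_vec, sub_self, Prod.fst_zero, zero_dotProduct, mul_zero]
  · rw [ro, dif_pos ⟨e, h⟩, ← Φ.dot, apply_symm_apply]

theorem ro_P (h : blk i = blk j) : Φ.P *ᵥ (ro Φ hb i j).2 = m • rt i j := by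
  by_cases e : i = j
  · rw [e, ro_self, rt, sub_self, Prod.snd_zero, mulVec_zero, smul_zero]
  · rw [ro, dif_pos ⟨e, h⟩, Φ.h2, apply_symm_apply]

theorem ro_Q (i j : Fin n) : (ro Φ hb i j).2 ∈ Qv (rts D) := by
  by_cases e : E blk i j
  · exact Qv.cor (ro_mem Φ hb e)
  · rw [ro, dif_neg e]
    exact zero_mem _

theorem ro_add (h : blk i = blk j) (h' : blk j = blk l) : (ro Φ hb i j).2 + (ro Φ hb j l).2 = (ro Φ hb i l).2 :=
  Φ.P_ext (sub_mem (add_mem (ro_Q Φ hb _ _) (ro_Q Φ hb _ _)) (ro_Q Φ hb _ _)) (by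
    rw [mulVec_add, ro_P Φ hb h, ro_P Φ hb h', ro_P Φ hb (h.trans h'), ← smul_add, rt, rt, sub_add_sub_cancel, rt])

/-- `z` is a coordinate vector of `v` -/
def Co (v : Vec D.R) (z : Fin n → ℤ) : Prop := ∀ i j, blk i = blk j → (ro Φ hb i j).1 ⬝ᵥ v = z i - z j

theorem ro_ro (h : blk i = blk j) : Co Φ hb (ro Φ hb i j).2 (rt i j) := fun a b e => mul_left_cancel₀ Φ.pos.ne' (by
  rw [ro_wt Φ hb e, ro_P Φ hb h, dotProduct_smul, rt_vec, smul_eq_mul])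

theorem exists_co (v : Vec D.R) : ∃ z, Co Φ hb v z := by
  let r : Fin n → Fin n := fun i => (Quotient.mk (Setoid.ker blk) i).out
  have h : ∀ i, blk i = blk (r i) := fun i => (Quotient.mk_out (s := Setoid.ker blk) i).symm
  refine ⟨fun i => (ro Φ hb i (r i)).1 ⬝ᵥ v, fun i j e => mul_left_cancel₀ Φ.pos.ne' ?_⟩
  rw [mul_sub, ro_wt Φ hb e, ro_wt Φ hb (h i), ro_wt Φ hb (h j), rt_vec, rt_vec, rt_vec,
    show r i = r j from congrArg Quotient.out (Quotient.sound e), sub_sub_sub_cancel_right]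

theorem exists_lift (ho : ∀ i, Odd (Finset.univ.filter fun j => blk j = blk i).card) (hz : Cz 2 (rts D)) (z : Fin n → ℤ) :
    ∃ v, Co Φ hb v z := by
  have h : ∀ l, ∃ v, Co Φ hb v (Pi.single l 1) := fun l => by
    have h0 := ho l
    have h1 : ∀ i j, blk i = blk j → (ro Φ hb i j).1 ⬝ᵥ ∑ a ∈ Finset.univ.filter fun j => blk j = blk l, (ro Φ hb l a).2 =
        (Finset.univ.filter fun j => blk j = blk l).card * ((Pi.single l 1 : Fin n → ℤ) i - (Pi.single l 1 : Fin n → ℤ) j) :=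
      fun i j e => by
        rw [dotProduct_sum, Finset.sum_congr rfl fun a ha => ro_ro Φ hb (Finset.mem_filter.1 ha).2.symm i j e]
        simp only [rt, Pi.sub_apply, Finset.sum_sub_distrib, Finset.sum_const, nsmul_eq_mul, Finset.sum_pi_single,
          Finset.mem_filter, Finset.mem_univ, true_and, e]
        ring
    generalize (Finset.univ.filter fun j => blk j = blk l).card = b,
      ∑ a ∈ Finset.univ.filter fun j => blk j = blk l, (ro Φ hb l a).2 = v at h0 h1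
    obtain ⟨s, y, h2⟩ := cz_div hz (n := b) (v := v) fun a ha => by
      obtain ⟨i, j, e, rfl⟩ := exists_ro Φ hb ha
      exact ⟨_, h1 i j e.2⟩
    obtain ⟨c, d, h3⟩ : IsCoprime (b : ℤ) ((2 : ℕ) ^ s) :=
      (Nat.isCoprime_iff_coprime.2 (Nat.coprime_two_right.2 h0)).pow_right
    refine ⟨c • v + d • y, fun i j e => ?_⟩
    by_cases e' : i = j
    · rw [e', ro_self, Prod.fst_zero, zero_dotProduct, sub_self]
    have h4 := h2 _ (ro_mem Φ hb ⟨e', e⟩)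
    rw [h1 i j e, mul_left_comm, mul_right_inj' (Int.natCast_ne_zero.2 h0.pos.ne')] at h4
    rw [dotProduct_add, dotProduct_smul, dotProduct_smul, h1 i j e, h4, smul_eq_mul, smul_eq_mul, ← mul_assoc, ← mul_assoc,
      ← add_mul, h3, one_mul]
  choose y hy using h
  refine ⟨∑ l, z l • y l, fun i j e => ?_⟩
  simp only [dotProduct_sum, dotProduct_smul, hy _ i j e, smul_eq_mul, mul_sub, Finset.sum_sub_distrib, Pi.single_apply,
    mul_ite, mul_one, mul_zero, Finset.sum_ite_eq, Finset.mem_univ, if_true]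

theorem exists_dual (hs : Sq D) (t : Fin n → ℤ) : ∃ x : Vec D.R, ∀ i j, blk i = blk j → x ⬝ᵥ (ro Φ hb i j).2 = t i - t j := by
  have h : ∀ i j, blk i = blk j → (t ᵥ* Φ.P) ⬝ᵥ (ro Φ hb i j).2 = m * (t i - t j) := fun i j e => by
    rw [← dotProduct_mulVec, ro_P Φ hb e, dotProduct_smul, dotProduct_comm, rt_vec, smul_eq_mul]
  obtain ⟨x, hx⟩ := hs (t ᵥ* Φ.P) m fun a ha => by
    obtain ⟨i, j, e, h1⟩ := exists_ro Φ hb (rt_mem ha)
    exact ⟨_, (congrArg (fun x => _ ⬝ᵥ x.2) h1).trans (h i j e.2)⟩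
  refine ⟨x, fun i j e => ?_⟩
  by_cases e' : i = j
  · rw [e', ro_self, Prod.snd_zero, dotProduct_zero, sub_self]
  obtain ⟨a, ha, h1⟩ := ro_mem Φ hb ⟨e', e⟩
  refine mul_left_cancel₀ Φ.pos.ne' ?_
  rw [← h i j e, h1]
  exact hx a ha

include hb in
theorem s_one (u : D.W) (i : Fin n) : (Φ.emb u).s i = 1 := (Φ.ws u).2.1 i (hb i)

include hb in
theorem P_W (u : D.W) (v : Vec D.R) (i : Fin n) : (Φ.P *ᵥ (D.Wm u *ᵥ v)) ((Φ.emb u).π i) = (Φ.P *ᵥ v) i := by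
  rw [Φ.P_Wm, sm_vec, s_one Φ hb, Units.val_one, one_mul]

theorem blk_W (h : blk i = blk j) : blk ((Φ.emb u).π i) = blk ((Φ.emb u).π j) :=
  ((Φ.ws u).1 i).trans (h.trans ((Φ.ws u).1 j).symm)

theorem wt_W (h : blk i = blk j) (u : D.W) (v : Vec D.R) :
    (ro Φ hb ((Φ.emb u).π i) ((Φ.emb u).π j)).1 ⬝ᵥ (D.Wm u *ᵥ v) = (ro Φ hb i j).1 ⬝ᵥ v :=
  mul_left_cancel₀ Φ.pos.ne' (by rw [ro_wt Φ hb (blk_W Φ h), ro_wt Φ hb h, rt_vec, rt_vec, P_W Φ hb, P_W Φ hb])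

theorem W_ro (h : blk i = blk j) (u : D.W) : D.Wm u *ᵥ (ro Φ hb i j).2 = (ro Φ hb ((Φ.emb u).π i) ((Φ.emb u).π j)).2 :=
  Φ.P_ext (by simpa using add_mem (Qv.sub (Wm_mem u) (ro Φ hb i j).2) (sub_mem (ro_Q Φ hb i j) (ro_Q Φ hb _ _))) (by
    rw [Φ.P_Wm, ro_P Φ hb h, ro_P Φ hb (blk_W Φ h), mulVec_smul, sm_rt _ ((s_one Φ hb u i).trans (s_one Φ hb u j).symm),
      s_one Φ hb, Units.val_one, one_smul])

theorem W_co (h : Co Φ hb v z) (u : D.W) : D.Wm u *ᵥ v = v + ∑ i, z i • (ro Φ hb ((Φ.emb u).π i) i).2 := by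
  refine Φ.P_ext (by
    rw [← sub_sub]
    exact sub_mem (Qv.sub (Wm_mem u) v) (sum_mem fun i _ => Submodule.smul_mem _ _ (ro_Q Φ hb _ _))) (funext fun a => ?_)
  obtain ⟨a, rfl⟩ := (Φ.emb u).π.surjective a
  have h1 := ro_wt Φ hb ((Φ.ws u).1 a) v
  rw [h _ _ ((Φ.ws u).1 a), rt_vec] at h1
  simp only [P_W Φ hb, mulVec_add, mulVec_sum, mulVec_smul, ro_P Φ hb ((Φ.ws u).1 _), Pi.add_apply, Finset.sum_apply,
    Pi.smul_apply, smul_eq_mul, rt, Pi.sub_apply, Pi.single_apply, mul_sub, Finset.sum_sub_distrib, mul_ite, mul_one,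
    mul_zero, EmbeddingLike.apply_eq_iff_eq, Finset.sum_ite_eq, Finset.mem_univ, if_true]
  linear_combination h1

/-- the action of a Frobenius map -/
structure Fq (A : Mat D.R) (π : Perm (Fin n)) (s : Fin n → ℤˣ) : Prop where
  bl : ∀ i j, blk i = blk j → blk (π i) = blk (π j) ∧ s i = s j
  act : ∀ i j, E blk i j → ∃ e : ℕ, A *ᵥ (ro Φ hb i j).2 = ((p : ℤ) ^ e * s i) • (ro Φ hb (π i) (π j)).2 ∧
    ∀ v, (ro Φ hb (π i) (π j)).1 ⬝ᵥ (A *ᵥ v) = (p : ℤ) ^ e * s i * ((ro Φ hb i j).1 ⬝ᵥ v)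

theorem exists_fq : ∃ π s, Fq Φ hb D.Mx π s := by
  have h : ∀ i j, ∃ a b, E blk i j → E blk a b ∧ ∃ e : ℕ, D.Mx *ᵥ (ro Φ hb i j).2 = ((p : ℤ) ^ e) • (ro Φ hb a b).2 ∧
      (ro Φ hb a b).1 ᵥ* D.Mx = ((p : ℤ) ^ e) • (ro Φ hb i j).1 := fun i j => by
    by_cases e : E blk i j
    · obtain ⟨c, hc, h1⟩ := ro_mem Φ hb e
      obtain ⟨a, b, e', h2⟩ := exists_ro Φ hb (rt_mem (D.g_root c hc))
      exact ⟨a, b, fun _ => ⟨e', _, by rw [h1, ← h2]; exact ⟨D.Mx_cor hc, D.wt_g hc⟩⟩⟩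
    · exact ⟨i, j, fun e' => absurd e' e⟩
  choose a b h using h
  have h0 : ∀ {i j k l}, E blk i j → E blk k l → (ro Φ hb i j).1 ⬝ᵥ (ro Φ hb k l).2 = ip i j k l := fun e e' => by
    rw [ro_ro Φ hb e'.2 _ _ e.2, ← rt_vec, rt_dot]
  have h1 : ∀ {i j k l : Fin n}, ip i j k l = ip k l i j := by
    intro i j k l
    rw [← rt_dot, dotProduct_comm, rt_dot]
  have S : Sy blk a b := ⟨fun e => (h _ _ e).1, fun {i j k l} e e' => by
    obtain ⟨e1, x, h2, h3⟩ := h i j e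
    obtain ⟨e2, y, h4, h5⟩ := h k l e'
    have h6 := congrArg ((ro Φ hb (a i j) (b i j)).1 ⬝ᵥ ·) h4
    have h7 := congrArg ((ro Φ hb (a k l) (b k l)).1 ⬝ᵥ ·) h2
    simp only [dotProduct_mulVec, h3, h5, smul_dotProduct, dotProduct_smul, smul_eq_mul, h0 e e', h0 e' e, h0 e1 e2,
      h0 e2 e1] at h6 h7
    have h8 : (0 : ℤ) < p := Int.natCast_pos.2 (Fact.out : p.Prime).pos
    refine mul_left_cancel₀ (add_pos (pow_pos h8 x) (pow_pos h8 y)).ne' ?_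
    rw [h1, h1 (i := a k l)] at h7
    linear_combination -h6 - h7⟩
  obtain ⟨τ, h2, h3⟩ := S.exists_sg
  refine ⟨τ.π, τ.s, h2, fun i j e => ?_⟩
  obtain ⟨e1, x, h4, h5⟩ := h i j e
  have h6 := (h3 i j e).symm.trans (sm_rt τ (h2 i j e.2).2)
  have h7 := (h2 i j e.2).1
  refine ⟨x, h4.trans ?_, fun v => mul_left_cancel₀ Φ.pos.ne' ?_⟩
  · rw [mul_smul]
    exact congrArg _ (Φ.P_ext (sub_mem (ro_Q Φ hb _ _) (Submodule.smul_mem _ _ (ro_Q Φ hb _ _))) (by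
      rw [mulVec_smul, ro_P Φ hb e1.2, ro_P Φ hb h7, h6, smul_comm]))
  · have h8 := ro_wt Φ hb e1.2 (D.Mx *ᵥ v)
    rw [h6, smul_dotProduct, ← ro_wt Φ hb h7, dotProduct_mulVec, h5, smul_dotProduct, smul_eq_mul, smul_eq_mul] at h8
    linear_combination (-(τ.s i : ℤ)) * h8 - m * ((ro Φ hb (τ.π i) (τ.π j)).1 ⬝ᵥ D.Mx *ᵥ v) * Int.units_coe_mul_self (τ.s i)

variable {Φ hb} {A : Mat D.R} {π : Perm (Fin n)} {s : Fin n → ℤˣ}

theorem Fq.mul (h : Fq Φ hb A π s) (u : D.W) : Fq Φ hb (D.Wm u * A) ((Φ.emb u).π * π) s :=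
  ⟨fun i j e => ⟨blk_W Φ (h.bl i j e).1, (h.bl i j e).2⟩, fun i j e => (h.act i j e).imp fun _ h1 =>
    ⟨by rw [← mulVec_mulVec, h1.1, mulVec_smul, W_ro Φ hb (h.bl i j e.2).1]; rfl,
      fun v => by rw [← mulVec_mulVec, ← h1.2]; exact wt_W Φ hb (h.bl i j e.2).1 u _⟩⟩

theorem Fq.surj (h : Fq Φ hb A π s) (e : E blk i j) : ∃ a b, E blk a b ∧ i = π a ∧ j = π b := by
  obtain ⟨i, rfl⟩ := π.surjective i
  obtain ⟨j, rfl⟩ := π.surjective j
  have h1 : ∀ t : ℕ, blk ((π ^ t) (π i)) = blk ((π ^ t) (π j)) := fun t => by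
    induction t with
    | zero => exact e.2
    | succ t ih => rw [pow_succ']; exact (h.bl _ _ ih).1
  have h2 := h1 (orderOf π - 1)
  rw [← Perm.mul_apply, ← Perm.mul_apply, ← pow_succ, Nat.sub_add_cancel (orderOf_pos π), pow_orderOf_eq_one] at h2
  exact ⟨i, j, ⟨fun e' => e.1 (congrArg π e'), h2⟩, rfl, rfl⟩

/-- **the cycles are unions of blocks** -/
theorem Fq.cyc (hp : p ≠ 2) (hl : ∀ z, ∃ v, Co Φ hb v z) (h : Fq Φ hb A π s) (hO : ∀ v, Z2 D (A *ᵥ v - v) → Z2 D v)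
    (e : blk i = blk j) : π.SameCycle i j := by
  classical
  by_contra h0
  obtain ⟨v, hv⟩ := hl fun l => if π.SameCycle i l then 1 else 0
  obtain ⟨z, hz⟩ := exists_co Φ hb (A *ᵥ v - v)
  obtain ⟨y, hy⟩ := hl fun l => z l / 2
  obtain ⟨y', h1⟩ := hO v ⟨y, fun a ha => by
    obtain ⟨c, d, e1, h1⟩ := exists_ro Φ hb (rt_mem ha)
    obtain ⟨c, d, e2, rfl, rfl⟩ := h.surj e1
    obtain ⟨x, -, h2⟩ := h.act c d e2
    have h3 := hz _ _ e1.2
    rw [dotProduct_sub, h2, hv _ _ e1.2, hv _ _ e2.2] at h3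
    simp only [Perm.sameCycle_apply_right] at h3
    obtain ⟨q, hq⟩ : Odd ((p : ℤ) ^ x * s c) := (((Fact.out : p.Prime).odd_of_ne_two hp).natCast (R := ℤ)).pow.mul (by
      rcases Int.units_eq_one_or (s c) with e | e <;> rw [e] <;> decide)
    rw [show D.wt a = _ from congrArg Prod.fst h1, dotProduct_sub, dotProduct_smul, hz _ _ e1.2, hy _ _ e1.2, smul_eq_mul]
    rw [hq, add_mul, mul_assoc, one_mul, add_sub_cancel_right] at h3
    beta_reduce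
    omega⟩
  obtain ⟨a, ha, h2⟩ := ro_mem Φ hb (i := i) ⟨fun e' => h0 (e' ▸ .refl _ _), e⟩
  have h3 := h1 a ha
  rw [← show _ = D.wt a from congrArg Prod.fst h2, dotProduct_sub, dotProduct_smul, hv _ _ e, smul_eq_mul] at h3
  simp only [if_neg h0, if_pos (Perm.SameCycle.refl π i)] at h3
  omega

theorem scal {a b a' b' : Fin n} {x y : ℕ} {t : ℤˣ} (e : E blk a b) (e' : blk a' = blk b')
    (h : ((p : ℤ) ^ x * t) • (ro Φ hb a b).2 = ((p : ℤ) ^ y * t) • (ro Φ hb a' b').2) : a = a' := by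
  have h1 := congrFun (congrArg (Φ.P *ᵥ ·) h) a
  have h8 : (0 : ℤ) < p := Int.natCast_pos.2 (Fact.out : p.Prime).pos
  by_contra h2
  simp only [mulVec_smul, ro_P Φ hb e.2, ro_P Φ hb e', Pi.smul_apply, smul_eq_mul, rt, Pi.sub_apply, Pi.single_apply,
    if_neg h2, if_neg e.1, if_true] at h1
  have h3 : (p : ℤ) ^ x = -(p ^ y * if a = b' then 1 else 0) :=
    mul_left_cancel₀ (mul_ne_zero t.ne_zero Φ.pos.ne') (by linear_combination h1)
  have := pow_pos h8 x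
  have := pow_pos h8 y
  split_ifs at h3 <;> omega

theorem Fq.tc (h : Fq Φ hb D.Mx π s) {v w w' : D.W}
    (e : (Φ.emb v).π * ((Φ.emb w).π * π) = (Φ.emb w').π * π * (Φ.emb v).π) : Tc D v w w' := by
  have h1 : ∀ i j, E blk i j → (Φ.emb (w' * D.Fw v)).π i = (Φ.emb (v * w)).π i := fun i j e1 => by
    obtain ⟨i, j, e2, rfl, rfl⟩ := h.surj e1
    obtain ⟨x, h1, -⟩ := (h.mul (w' * D.Fw v)).act i j e2
    obtain ⟨y, h2, -⟩ := (h.mul w').act _ _ ⟨fun e' => e2.1 ((Φ.emb v).π.injective e'), blk_W Φ e2.2⟩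
    rw [← W_ro Φ hb e2.2, mulVec_mulVec, mul_assoc, D.Mx_Wm, ← mul_assoc, ← D.Wm_mul, h1, (h.bl _ _ ((Φ.ws v).1 i)).2] at h2
    refine (scal ⟨fun e' => e2.1 (((Φ.emb (w' * D.Fw v)).π * π).injective e'), ((h.mul _).bl _ _ e2.2).1⟩
      ((h.mul w').bl _ _ (blk_W Φ e2.2)).1 h2).trans ?_
    rw [map_mul]
    exact (Perm.congr_fun e i).symm
  refine Φ.inj (ws_ext hb (Φ.ws _) (Φ.ws _) fun i j e1 => ?_)
  rw [sm_rt _ ((s_one Φ hb _ i).trans (s_one Φ hb _ j).symm), sm_rt _ ((s_one Φ hb _ i).trans (s_one Φ hb _ j).symm),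
    s_one Φ hb, s_one Φ hb, h1 i j e1, h1 j i e1.symm]

variable (Φ hb) in
/-- the classes of a label -/
def cls (c : Lbl D) : Setoid (Fin n) where
  r i j := blk i = blk j ∧ chr (ro Φ hb i j).2 c = 1
  iseqv := ⟨fun i => ⟨rfl, by rw [ro_self, Prod.snd_zero, chr_zero]⟩, fun {i j} h => ⟨h.1.symm, by
    have h1 := congrArg (chr · c) (ro_add Φ hb h.1 h.1.symm)
    simpa only [chr_add, h.2, one_mul, ro_self, Prod.snd_zero, chr_zero] using h1⟩, fun h h' => ⟨h.1.trans h'.1, by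
      rw [← ro_add Φ hb h.1 h'.1, chr_add, h.2, h'.2, one_mul]⟩⟩

theorem rel_iff (hl : ∀ z, ∃ v, Co Φ hb v z) {c : Lbl D} : Rel D u c c ↔ ∀ i, cls Φ hb c ((Φ.emb u).π i) i := by
  refine ⟨fun h i => ⟨(Φ.ws u).1 i, ?_⟩, fun h v => ?_⟩
  · obtain ⟨v, hv⟩ := hl (Pi.single i 1)
    have h1 := h v
    rwa [W_co Φ hb hv, chr_add, mul_eq_left, Finset.sum_eq_single i (fun j _ hj => by rw [Pi.single_eq_of_ne hj, zero_smul])
      (fun h => absurd (Finset.mem_univ i) h), Pi.single_eq_same, one_smul] at h1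
  · obtain ⟨z, hz⟩ := exists_co Φ hb v
    rw [W_co Φ hb hz, chr_add, chr_sum, Finset.prod_eq_one fun i _ => by rw [chr_zsmul, (h i).2, _root_.one_zpow], mul_one]

theorem wl_iff (h : Co Φ hb v z) : u ∈ Wl D v ↔ ∀ i, z ((Φ.emb u).π i) = z i := by
  refine ⟨fun h1 i => ?_, fun h1 => sub_eq_zero.1 (Qv.eq_zero (Qv.sub (Wm_mem u) v) fun a ha => ?_)⟩
  · have h2 : ∀ t : ℕ, blk (((Φ.emb u).π ^ t) i) = blk i ∧
        z (((Φ.emb u).π ^ t) i) = z i + t * (z ((Φ.emb u).π i) - z i) := fun t => by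
      induction t with
      | zero => simp
      | succ t ih =>
        have h2 := wt_W Φ hb ih.1 u v
        rw [show D.Wm u *ᵥ v = v from h1, h _ _ (blk_W Φ ih.1), h _ _ ih.1, ih.2] at h2
        rw [pow_succ', Perm.mul_apply]
        exact ⟨((Φ.ws u).1 _).trans ih.1, by push_cast; linear_combination h2⟩
    have h3 := (h2 (orderOf (Φ.emb u).π)).2
    rw [pow_orderOf_eq_one, Perm.one_apply, left_eq_add, mul_eq_zero] at h3
    exact sub_eq_zero.1 (h3.resolve_left (Int.natCast_ne_zero.2 (orderOf_pos _).ne'))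
  · obtain ⟨i, j, e, rfl⟩ := exists_ro Φ hb ha
    obtain ⟨i, rfl⟩ := (Φ.emb u).π.surjective i
    obtain ⟨j, rfl⟩ := (Φ.emb u).π.surjective j
    have e' : blk i = blk j := ((Φ.ws u).1 i).symm.trans (e.2.trans ((Φ.ws u).1 j))
    rw [dotProduct_sub, wt_W Φ hb e', h _ _ e', h _ _ e.2, h1, h1, sub_self]

theorem at_one (hp : p ≠ 2) (hA : TyO (rts D)) (hz : Cz 2 (rts D)) (hs : Sq D) {w : D.W} {c : Lbl D} (hO : Od D w)
    (hF : Fx D w c) : ∃ lam, LeviOK D lam w c ∧ (∀ u, Rel D u c c ↔ u ∈ Wl D lam) ∧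
      ∀ u ∈ Wl D lam, Od D (u * w) → ∃ v ∈ Wl D lam, Tc D v w (u * w) := by
  obtain ⟨n, blk, hb, ho, φ, hφ⟩ := hA
  obtain ⟨m, Φ, -⟩ := (boxFw D).all _ n blk φ hφ
  have hl := exists_lift Φ hb ho hz
  obtain ⟨π, s, h⟩ := exists_fq Φ hb
  let r : Fin n → Fin n := fun i => (Quotient.mk (cls Φ hb c) i).out
  have h1 : ∀ i, cls Φ hb c (r i) i := fun i => Quotient.mk_out (s := cls Φ hb c) i
  have h2 : ∀ i j, ((r i : ℕ) : ℤ) = (r j : ℕ) ↔ cls Φ hb c i j := fun i j => by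
    rw [Nat.cast_inj, Fin.val_inj, Quotient.out_inj, Quotient.eq]
  obtain ⟨lam, h3⟩ := hl fun i => (r i : ℕ)
  have h4 : ∀ u, u ∈ Wl D lam ↔ ∀ i, cls Φ hb c ((Φ.emb u).π i) i := fun u => (wl_iff h3).trans (forall_congr' fun i => h2 _ _)
  have h5 : ∀ a, D.Rt a → (D.wt a ⬝ᵥ lam = 0 ↔ chr (D.cor a) c = 1) := fun a ha => by
    obtain ⟨i, j, e, h5⟩ := exists_ro Φ hb (rt_mem ha)
    rw [show D.wt a = _ from congrArg Prod.fst h5, show D.cor a = _ from congrArg Prod.snd h5, h3 i j e.2, sub_eq_zero, h2]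
    exact and_iff_right e.2
  refine ⟨lam, ⟨fun a ha e => (h5 _ ((D.g_root a ha).act w)).2 (pw hF (e := D.ex a) (s := 1) ?_ ((h5 a ha).1 e)), hF, ?_⟩,
    fun u => (rel_iff hl).trans (h4 u).symm, fun u hu hO' => ?_⟩
  · rw [← mulVec_mulVec, D.Mx_cor ha, mulVec_smul, D.cor_act w (D.g_root a ha), Units.val_one, mul_one]
  · obtain ⟨q, x, ω, -, hω, hx⟩ := exists_log (fo_of_fx hF)
    choose t ht using fun i => hω.zpow_eq_one_iff_dvd _ |>.1 ((hx _).symm.trans (h1 i).2)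
    obtain ⟨x', h6⟩ := exists_dual Φ hb hs t
    refine ⟨ω, x + (q : ℤ) • x', fun a ha e => ?_, funext fun j => ?_⟩
    · obtain ⟨i, j, e1, h7⟩ := exists_ro Φ hb (rt_mem ha)
      rw [show D.wt a = _ from congrArg Prod.fst h7, h3 i j e1.2, sub_eq_zero, Nat.cast_inj, Fin.val_inj] at e
      have h8 := congrArg (x ⬝ᵥ ·) (ro_add Φ hb (h1 i).1 e1.2)
      simp only [dotProduct_add, ht] at h8
      rw [e, ht] at h8
      rw [show D.cor a = _ from congrArg Prod.snd h7, add_dotProduct, smul_dotProduct, h6 i j e1.2, smul_eq_mul]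
      linear_combination h8
    · rw [← chr_single j c, hx, dotProduct_single, mul_one, Pi.add_apply, Pi.smul_apply, smul_eq_mul, _root_.zpow_add,
        _root_.zpow_mul, zpow_natCast, hω.pow_eq_one, _root_.one_zpow, mul_one]
  · obtain ⟨ν, h6, h7⟩ := exists_cj (cls Φ hb c) (π := (Φ.emb w).π * π) (π' := (Φ.emb (u * w)).π * π) (fun i j e => by
      by_cases e' : i = j
      · exact e' ▸ (cls Φ hb c).refl _
      obtain ⟨x, h6, -⟩ := (h.mul w).act i j ⟨e', e.1⟩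
      exact ⟨((h.mul w).bl i j e.1).1, pw hF h6 e.2⟩) (fun i => by rw [map_mul]; exact (h4 u).1 hu _)
      (fun i j e => (h.mul w).cyc hp hl hO e.1) fun i j e => (h.mul _).cyc hp hl hO' e.1
    obtain ⟨v, hv⟩ := (Φ.rng ⟨ν, 1⟩).2 ⟨fun i => (h6 i).1, fun _ _ => rfl, fun _ =>
      (LV.Cl.Ey.sgn_apply _).trans (Finset.prod_eq_one fun _ _ => rfl)⟩
    exact ⟨v, (h4 v).2 (hv ▸ h6), h.tc (hv ▸ h7)⟩

/-! ### simple connectivity -/

variable {X : Datum p ρ F G}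

theorem cl_inj {β γ : X.I → ℤ} (h : cl X β = cl X γ) : β = γ := by
  have h1 : ∀ β, (of X.cw)ᵀ *ᵥ β = cl X β := fun β => funext fun j => by
    simp [cl, mulVec, dotProduct, Finset.sum_apply, mul_comm]
  refine sub_eq_zero.1 (eq_zero_of_mulVec_eq_zero (det_cartan X) ?_)
  rw [← mulVec_mulVec, mulVec_sub, h1, h1, h, sub_self, mulVec_zero]

theorem exists_fw (h : ∀ v, KM.Tor.InQ X v) (t : X.I → ℤ) : ∃ x : Vec X.R, ∀ β, x ⬝ᵥ cl X β = t ⬝ᵥ β := by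
  choose γ hγ using fun r => h (Pi.single r 1)
  refine ⟨fun r => t ⬝ᵥ γ r, fun β => ?_⟩
  have h1 : ∑ r, cl X β r • γ r = β := cl_inj (by
    conv_rhs => rw [← Finset.univ_sum_single (cl X β)]
    rw [show cl X = Fintype.linearCombination ℤ X.cw from rfl, map_sum]
    exact Finset.sum_congr rfl fun r _ => by
      rw [map_smul, show Fintype.linearCombination ℤ X.cw (γ r) = _ from (hγ r).symm, ← Pi.single_smul', smul_eq_mul, mul_one])
  conv_rhs => rw [← h1, dotProduct_sum]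
  exact Finset.sum_congr rfl fun r _ => by rw [dotProduct_smul, smul_eq_mul, mul_comm]

theorem cor_eq (hS : KM.Tor.Sl X) {b : X.I → ℤ} (hb : X.Rt b) : X.cor b = cl X b := by
  refine sub_eq_zero.1 (Qv.eq_zero (sub_mem (Qv.cor (rt_mem hb)) (sum_mem fun i _ => Submodule.smul_mem _ _
    (X.cor_sr i ▸ Qv.cor (rt_mem (isRoot_sr _ _ i))))) ?_)
  rintro _ ⟨c, hc, rfl⟩
  rw [dotProduct_sub, hS _ _ hc hb, sub_eq_zero, cl, dotProduct_sum]
  conv_lhs => rw [X.eq_sum_sr b, map_sum, sum_dotProduct]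
  exact Finset.sum_congr rfl fun i _ => by
    rw [map_zsmul, smul_dotProduct, dotProduct_smul, ← X.cor_sr, hS _ _ hc (isRoot_sr _ _ i)]

theorem sq_sub (L : KM.E2.LS X) {Z : Set Y} (hZ : Z ⊆ X.T) (hF : ∀ b ∈ X.Sz Z, X.g b ∈ X.Sz Z) (h0 : KM.Tor.QC X Z) :
    Sq (X.sub hZ hF rfl) := fun v q hv => by
  obtain ⟨lam, h0⟩ := h0
  obtain ⟨w, hw⟩ : ∃ w : X.W, ∀ i, 0 ≤ X.wt (X.act w (sr i)) ⬝ᵥ lam :=
    CF.exists_dominant X (AddMonoidHom.mk' (fun a => X.wt a ⬝ᵥ lam) fun a b => by rw [map_add, add_dotProduct])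
  obtain ⟨x, hx⟩ := exists_fw L.q fun i => v ⬝ᵥ X.cor (X.act w (sr i)) / q
  refine ⟨x ᵥ* X.Wm w⁻¹, fun a ha => ?_⟩
  rw [KM.Ev.sub_cor hZ hF ha]
  have h1 := (X.sub_rt hZ hF rfl).1 ha
  generalize X.io Z a = a at h1
  obtain ⟨b, rfl⟩ : ∃ b, a = X.act w b := ⟨X.act w⁻¹ a, (rep_apply_inv _ _ _ _).symm⟩
  have hb : X.Rt b := by
    have := h1.1.act w⁻¹
    rwa [rep_inv_apply] at this
  have e3 : ∀ c : X.I → ℤ, 0 ≤ c → X.wt (X.act w c) ⬝ᵥ lam = 0 → ∀ i, c i = 0 ∨ X.wt (X.act w (sr i)) ⬝ᵥ lam = 0 :=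
    fun c hc h i => by
      rw [X.eq_sum_sr c, Datum.act, map_sum, map_sum, sum_dotProduct] at h
      simp only [map_zsmul, smul_dotProduct, smul_eq_mul] at h
      exact mul_eq_zero.1 ((Finset.sum_eq_zero_iff_of_nonneg fun i _ => mul_nonneg (hc i) (hw i)).1 h i (Finset.mem_univ i))
  have e4 : ∀ i, b i = 0 ∨ X.wt (X.act w (sr i)) ⬝ᵥ lam = 0 := fun i => by
    rcases hb.pos_or_neg with h | h
    · exact e3 b h ((h0 _ h1.1).1 h1) i
    · exact (e3 (-b) (neg_nonneg.2 h) (by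
        rw [Datum.act, map_neg, map_neg, neg_dotProduct, neg_eq_zero]; exact (h0 _ h1.1).1 h1) i).imp_left neg_eq_zero.1
  rw [X.cor_act w hb, ← dotProduct_mulVec, mulVec_mulVec, ← X.Wm_mul, inv_mul_cancel, X.Wm_one, one_mulVec, cor_eq L.sl hb,
    hx, cl, mulVec_sum, dotProduct_sum, dotProduct, Finset.mul_sum]
  refine Finset.sum_congr rfl fun i _ => ?_
  rw [mulVec_smul, dotProduct_smul, ← X.cor_act_sr, smul_eq_mul]
  rcases e4 i with h | h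
  · rw [h, mul_zero, mul_zero, zero_mul]
  · obtain ⟨c, hc, e⟩ := (X.io_roots Z).ge ((h0 _ ((isRoot_sr _ _ i).act w)).2 h)
    have h2 := hv c hc
    rw [KM.Ev.sub_cor hZ hF hc, e] at h2
    rw [← mul_assoc, Int.mul_ediv_cancel' h2, mul_comm]

end LA

variable {p : ℕ} [Fact p.Prime] {k : Type} [Field k] [CharP k p] {Y : Type} [Group Y] {N : Type} [Fintype N]
  [DecidableEq N] {ρ : Y →* GL N k} {F : MulAut Y} {G : Subgroup Y} [IsAlgClosed k] {X : Datum p ρ F G}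

/-- **`AT` for a Levi subgroup of type `A`** -/
theorem at_sub (hp : p ≠ 2) (L : KM.E2.LS X) {D : Subgroup Y} (hZ : (D : Set Y) ⊆ X.T)
    (hF : ∀ b ∈ X.Sz D, X.g b ∈ X.Sz D) (h0 : D ≤ Z0 X D)
    (hA : ∀ w, Od (X.sub hZ hF rfl) w → TyO (rts (X.sub hZ hF rfl)) ∧ Cz 2 (rts (X.sub hZ hF rfl))) :
    AT (X.sub hZ hF rfl) := fun w _ hO hc _ =>
  LA.at_one hp (hA w hO).1 (hA w hO).2 (LA.sq_sub L hZ hF (KM.Tor.qc_of_le h0)) hO hc

end Cfsg.Agent.BH.R2
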