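import Cfsg.Agent.BH.Row2L.LCt
import Cfsg.Agent.HZ.L.Defs

/-!
# BH, row `2` : the torsion of the characters modulo the root lattice of the Levi subgroup (helper95)
-/

set_option autoImplicit false
set_option linter.unusedSectionVars false

namespace Cfsg.Agent.BH.R2.LCt

open Cfsg Matrix Cfsg.Agent.DL Module
open Cfsg.Agent.HZ.L (Cz rts RS)

/-- from the absence of odd cotorsion to the extension of functionals -/
theorem cz_of {R : Type} [Fintype R] [DecidableEq R] {Ψ : RS R} (h : ∀ (m : R → ℤ) (n : ℕ), ¬ 2 ∣ n →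
    (n : ℤ) • m ∈ Submodule.span ℤ (Prod.fst '' Ψ) → m ∈ Submodule.span ℤ (Prod.fst '' Ψ)) : Cz 2 Ψ := by
  classical
  unfold Cz
  generalize Submodule.span ℤ (Prod.fst '' Ψ) = S at h ⊢
  obtain ⟨n, B⟩ := S.smithNormalForm (Pi.basisFun ℤ R)
  have h1 : ∀ i, ∃ e : ℕ, (2 : ℤ) ^ e • B.bM (B.f i) ∈ S := fun i => by
    have h0 : (B.a i).natAbs ≠ 0 := fun e => B.bN.ne_zero i (Subtype.ext (by
      rw [B.snf, Int.natAbs_eq_zero.1 e, zero_smul]; rfl))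
    obtain ⟨e, o, ho, e1⟩ := Nat.exists_eq_two_pow_mul_odd h0
    refine ⟨e, h _ o ho.not_two_dvd_nat ?_⟩
    have h2 := (B.bN i).2
    rw [B.snf] at h2
    rw [smul_smul, show (o : ℤ) * 2 ^ e = ((B.a i).natAbs : ℤ) by rw [e1]; push_cast; ring]
    rcases Int.natAbs_eq (B.a i) with e2 | e2
    · rwa [← e2]
    · rw [← neg_neg ((B.a i).natAbs : ℤ), ← e2, neg_smul]
      exact neg_mem h2
  choose e he using h1
  have h2 : ∀ i, (2 : ℤ) ^ (∑ j, e j) • B.bM (B.f i) ∈ S := fun i => by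
    obtain ⟨d, hd⟩ := Nat.exists_eq_add_of_le' (Finset.single_le_sum (f := e) (fun _ _ => Nat.zero_le _) (Finset.mem_univ i))
    rw [hd, pow_add, mul_smul]
    exact S.smul_mem _ (he i)
  refine ⟨∑ j, e j, fun l => ?_⟩
  let π : (R → ℤ) →ₗ[ℤ] S := B.bM.constr ℤ fun j => if h : (2 : ℤ) ^ (∑ j, e j) • B.bM j ∈ S then ⟨_, h⟩ else 0
  have h3 : π ∘ₗ S.subtype = (2 : ℤ) ^ (∑ j, e j) • LinearMap.id := B.bN.ext fun i => Subtype.ext (by
    show (π (B.bN i) : R → ℤ) = (2 : ℤ) ^ (∑ j, e j) • (B.bN i : R → ℤ)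
    rw [B.snf, map_smul, Basis.constr_basis, dif_pos (h2 i), Submodule.coe_smul, smul_comm])
  refine ⟨fun r => l (π (Pi.single r 1)), fun x => ?_⟩
  have h4 : π x = (2 : ℤ) ^ (∑ j, e j) • x := LinearMap.congr_fun h3 x
  have h5 : (x : R → ℤ) = ∑ r, x.1 r • (Pi.single r 1 : R → ℤ) := pi_eq_sum_univ' _
  rw [Nat.cast_ofNat, ← smul_eq_mul, ← map_smul, ← h4, h5, map_sum, map_sum, ← h5]
  exact Finset.sum_congr rfl fun r _ => by rw [map_smul, map_smul, smul_eq_mul]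

variable {p : ℕ} [Fact p.Prime] {k : Type} [Field k] [CharP k p] {Y : Type} [Group Y] {N : Type} [Fintype N]
  [DecidableEq N] {ρ : Y →* GL N k} {F : MulAut Y} {G : Subgroup Y} [IsAlgClosed k] {X : Datum p ρ F G}

theorem fst_rts (X : Datum p ρ F G) : Prod.fst '' rts X = X.wt '' {b | X.Rt b} := by
  ext x
  exact ⟨by rintro ⟨_, ⟨b, hb, rfl⟩, rfl⟩; exact ⟨b, hb, rfl⟩, by rintro ⟨b, hb, rfl⟩; exact ⟨_, ⟨b, hb, rfl⟩, rfl⟩⟩

/-- **the torsion part of `LC`** -/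
theorem cz_sub {a : ℕ} (h : LT X a) {D : Subgroup Y} (hZ : (D : Set Y) ⊆ X.T) (hF : ∀ b ∈ X.Sz D, X.g b ∈ X.Sz D)
    (hD : TD X D) : Cz 2 (rts (X.sub hZ hF rfl)) := cz_of fun m n hn hm => by
  rw [fst_rts] at hm ⊢
  exact tf_sub h hZ hF hD hn hm

end Cfsg.Agent.BH.R2.LCt
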