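import Cfsg.Agent.BH.Row2L.LCp
import Cfsg.Agent.BH.Row2L.LCz
import Cfsg.Agent.BH.Row2L.LCa
import Cfsg.Agent.BH.Row2L.WL
import Cfsg.Agent.BH.Row2L.ConA

/-!
# BH, row `2` : the Levi subgroups with an odd torus, `boxLC` (helper95)
-/

set_option autoImplicit false
set_option linter.unusedSectionVars false

namespace Cfsg.Agent.BH.R2

open Cfsg Matrix Cfsg.Agent.DL Cfsg.Agent.KM.Tor Cfsg.Agent.ChevalleyStructure.CoxeterGeom Cfsg.Agent.Tits.Roots Module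
open Cfsg.Agent.HZ.L (Cz rts RS std Iso)
open Cfsg.Agent.HZ.L.X.Norm (ea mem_stdA iso_of_bijOn)
open Cfsg.Agent.TO.X.Cn (cl cl_add cl_smul cl_sr cl_zero ppr_W)
open LCt

namespace LCo

theorem refl_single {n : ℕ} {k l : Fin n} (h : k ≠ l) (i : Fin n) :
    (Pi.single i 1 : Fin n → ℤ) - (Pi.single i 1 ⬝ᵥ (ea k l).2) • (ea k l).1 = Pi.single (Equiv.swap k l i) 1 := by
  rw [single_dotProduct, one_mul]
  by_cases h1 : i = k
  · subst h1
    simp [ea, h]
  by_cases h2 : i = l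
  · subst h2
    simp [ea, h.symm]
  simp [ea, h1, h2, Equiv.swap_apply_of_ne_of_ne h1 h2]

theorem refl_ea {n : ℕ} {k l : Fin n} (h : k ≠ l) (i j : Fin n) :
    (ea i j).1 - ((ea i j).1 ⬝ᵥ (ea k l).2) • (ea k l).1 = (ea (Equiv.swap k l i) (Equiv.swap k l j)).1 := by
  show (Pi.single i 1 - Pi.single j 1) - ((Pi.single i 1 - Pi.single j 1) ⬝ᵥ (ea k l).2) • (ea k l).1 = Pi.single _ 1 - Pi.single _ 1
  rw [← refl_single h i, ← refl_single h j, sub_dotProduct, sub_smul]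
  abel

variable {p : ℕ} [Fact p.Prime] {k : Type} [Field k] [CharP k p] {Y : Type} [Group Y] {N : Type} [Fintype N]
  [DecidableEq N] {ρ : Y →* GL N k} {F : MulAut Y} {G : Subgroup Y} [IsAlgClosed k] {E : Datum p ρ F G}

theorem sym (hs : Sl E) (i j : E.I) : E.A i j = E.A j i := by
  rw [← dot_srsr E 1 i j, ← dot_srsr E 1 j i]
  exact hs _ _ ((isRoot_sr _ _ j).act 1) ((isRoot_sr _ _ i).act 1)

theorem wt_cw (a : E.I → ℤ) (i : E.I) : E.wt a ⬝ᵥ E.cw i = pairing E.A i a := E.pair i a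

theorem sr_cl (hs : Sl E) (i : E.I) (y : E.I → ℤ) : E.wt (sr i) ⬝ᵥ cl E y = pairing E.A i y := by
  rw [cl, dotProduct_sum, pairing]
  exact Finset.sum_congr rfl fun j _ => by
    rw [dotProduct_smul, wt_cw, show pairing E.A j (sr i) = E.A j i by simp [pairing, sr, Pi.single_apply], smul_eq_mul, mul_comm,
      sym hs]

/-- **the standard model** -/
theorem iso_of (hs : Sl E) {n : ℕ} {blk : Fin n → ℕ} {s t : E.I → Fin n} (h : Re E.A blk s t) : Iso (rts E) (std .D blk) := by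
  let L : (E.I → ℤ) →ₗ[ℤ] (Fin n → ℤ) := Fintype.linearCombination ℤ fun i => (ea (s i) (t i)).1
  have h0 : ∀ i, L (sr i) = (ea (s i) (t i)).1 := fun i => by simp [L, sr, Fintype.linearCombination_apply, Pi.single_apply]
  have h1 : ∀ a i, L a ⬝ᵥ (ea (s i) (t i)).2 = pairing E.A i a := fun a i => by
    rw [Fintype.linearCombination_apply, sum_dotProduct, pairing]
    exact Finset.sum_congr rfl fun j _ => by rw [smul_dotProduct, h.gr, smul_eq_mul, mul_comm, sym hs]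
  have h2 : ∀ a b, E.Rt b → L a ⬝ᵥ L b = E.wt a ⬝ᵥ E.cor b := fun a b hb => by
    rw [LA.cor_eq hs hb, cl, dotProduct_sum, show L b = ∑ i, b i • (ea (s i) (t i)).2 from Fintype.linearCombination_apply _ _ _,
      dotProduct_sum]
    exact Finset.sum_congr rfl fun i _ => by rw [dotProduct_smul, dotProduct_smul, h1, wt_cw]
  have h3 : ∀ a, E.Rt a → ∃ i j, i ≠ j ∧ blk i = blk j ∧ L a = (ea i j).1 := by
    rintro _ ⟨w, i, rfl⟩
    induction w using E.cs.simple_induction_left with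
    | one => exact ⟨_, _, (h.st i).1, (h.st i).2, by rw [map_one, Module.End.one_apply, h0]⟩
    | mul_simple_left w j ih =>
      obtain ⟨a, b, e1, e2, e3⟩ := ih
      have e4 : ∀ c, blk (Equiv.swap (s j) (t j) c) = blk c := fun c => by
        rw [Equiv.swap_apply_def]
        split_ifs with k1 k2
        exacts [k1 ▸ (h.st j).2.symm, k2 ▸ (h.st j).2, rfl]
      exact ⟨_, _, (Equiv.injective _).ne e1, by rw [e4, e4, e2], by
        rw [rep_mul_apply, rep_simple_eq, map_sub, map_smul, ← h1, h0, e3, refl_ea (h.st j).1]⟩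
  have h4 : ∀ a, Function.invFun E.wt (E.wt a) = a := Function.leftInverse_invFun E.wt_injective
  refine iso_of_bijOn (f := fun x => (L (Function.invFun E.wt x.1), L (Function.invFun E.wt x.1))) ⟨?_, ?_, fun x hx => ?_⟩ ?_
  · rintro _ ⟨a, ha, rfl⟩
    obtain ⟨i, j, e1, e2, e3⟩ := h3 a ha
    exact (mem_stdA h.ne).2 ⟨i, j, e1, e2, by simp only [h4, e3]; rfl⟩
  · rintro _ ⟨a, -, rfl⟩ _ ⟨b, -, rfl⟩ e
    have e1 : L (a - b) = 0 := by simpa only [h4, map_sub, sub_eq_zero] using congrArg Prod.fst e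
    rw [sub_eq_zero.1 (nd E fun i _ => by rw [← h1, e1, zero_dotProduct] : a - b = 0)]
  · obtain ⟨i, j, e1, e2, rfl⟩ := (mem_stdA h.ne).1 hx
    obtain e | ⟨a, ha, e⟩ := h.con (fun i j => i = j ∨ ∃ a, E.Rt a ∧ L a = (ea i j).1) ⟨fun _ => .inl rfl,
      fun e => e.imp Eq.symm fun ⟨a, ha, e⟩ => ⟨-a, ha.neg, by rw [map_neg, e]; exact neg_sub _ _⟩, fun {x y z} e e' => by
        by_cases k1 : x = y
        · exact k1 ▸ e'
        by_cases k2 : y = z
        · exact k2 ▸ e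
        refine or_iff_not_imp_left.2 fun k3 => ?_
        obtain ⟨⟨a, ha, e⟩, b, hb, e'⟩ := And.intro (e.resolve_left k1) (e'.resolve_left k2)
        refine ⟨_, ha.act (E.rf b), ?_⟩
        have k4 : Nodes.Coroot.cpr E.cs E.h a b = -1 := by
          rw [← E.pair_cor hb]
          refine (h2 a b hb).symm.trans ?_
          rw [e, e']
          exact (HZ.L.X.Norm.ea_dot x y y z).trans (by simp [k1, k2, k3])
        rw [← Datum.act, E.act_rf hb, k4, map_sub, map_smul, e, e', neg_one_smul, sub_neg_eq_add]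
        exact sub_add_sub_cancel _ _ _⟩ (fun l => .inr ⟨_, isRoot_sr _ _ l, h0 l⟩) i j e2
    · exact absurd e e1
    · exact ⟨_, ⟨a, ha, rfl⟩, by simp only [h4, e]; rfl⟩
  · rintro _ ⟨a, -, rfl⟩ _ ⟨b, hb, rfl⟩
    simp only [h4]
    exact h2 a b hb

theorem gen {d : ℤ} {u : E.R → ℤ} (h : ∀ i, d ∣ E.wt (sr i) ⬝ᵥ u) (w : E.W) : ∃ β, E.Wm w *ᵥ u = u + d • cl E β := by
  induction w using E.cs.simple_induction_left with
  | one => exact ⟨0, by rw [E.Wm_one, one_mulVec, cl_zero, smul_zero, add_zero]⟩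
  | mul_simple_left w i ih =>
    obtain ⟨⟨β, hβ⟩, c, hc⟩ := And.intro ih (h i)
    refine ⟨β + (-(c + E.wt (sr i) ⬝ᵥ cl E β)) • sr i, ?_⟩
    rw [E.Wm_mul, ← mulVec_mulVec, hβ, E.Wm_simple, sub_mulVec, one_mulVec, vecMulVec_mulVec, op_smul_eq_smul, dotProduct_add,
      dotProduct_smul, hc, cl_add, cl_smul, cl_sr, smul_eq_mul]
    module

theorem fix {u : E.R → ℤ} (h : u ∈ PP E {b | E.Rt b}) (w : E.W) : E.Wm w *ᵥ u = u := by
  obtain ⟨β, e⟩ := gen (d := 0) (fun i => zero_dvd_iff.2 (h _ (isRoot_sr _ _ i))) w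
  rw [e, zero_smul, add_zero]

/-- an elliptic element -/
theorem ell {h : E.W} (ho : ∀ u, Z2 E (E.Wm h *ᵥ u - u) → Z2 E u) {u : E.R → ℤ} (hu : E.Wm h *ᵥ u = u) :
    u ∈ PP E {b | E.Rt b} := by
  have key : ∀ j : ℕ, ∃ y, u - (2 : ℤ) ^ j • y ∈ PP E {b | E.Rt b} ∧ E.Wm h *ᵥ y = y := fun j => by
    induction j with
    | zero => exact ⟨u, by simp, hu⟩
    | succ j ih =>
      obtain ⟨y, h1, h2⟩ := ih
      obtain ⟨z, h3⟩ := ho y ⟨0, fun a _ => by simp [h2]⟩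
      replace h3 : y - (2 : ℤ) • z ∈ PP E {b | E.Rt b} := h3
      refine ⟨z, ?_, smul_right_injective _ (two_ne_zero (α := ℤ)) ?_⟩
      · convert add_mem h1 (Submodule.smul_mem _ ((2 : ℤ) ^ j) h3) using 1
        module
      · have h4 := fix h3 h
        rw [mulVec_sub, h2, sub_right_inj, mulVec_smul] at h4
        exact h4
  intro b hb
  obtain ⟨y, h1, -⟩ := key (E.wt b ⬝ᵥ u).natAbs
  have h2 := h1 b hb
  rw [dotProduct_sub, dotProduct_smul, sub_eq_zero, smul_eq_mul] at h2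
  exact Int.eq_zero_of_dvd_of_natAbs_lt_natAbs ⟨_, h2⟩ (by simpa using Nat.lt_two_pow_self)

/-- **the Cartan matrix is invertible modulo two** -/
theorem ns (hs : Sl E) {h : E.W} {n : ℕ} (hn : ¬ 2 ∣ n) (h1 : h ^ n = 1) (ho : ∀ u, Z2 E (E.Wm h *ᵥ u - u) → Z2 E u)
    (y : E.I → ℤ) (hy : ∀ i, 2 ∣ pairing E.A i y) (i : E.I) : 2 ∣ y i := by
  obtain ⟨β, hβ⟩ := gen (d := 2) (u := cl E y) (fun i => (sr_cl hs i y).symm ▸ hy i) h
  obtain ⟨z, hz⟩ := ho (cl E y) ⟨cl E β, fun a _ => by rw [hβ, add_sub_cancel_left, sub_self, dotProduct_zero]⟩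
  replace hz : cl E y - (2 : ℤ) • z ∈ PP E {b | E.Rt b} := hz
  have h2 : ∀ m : ℕ, ∃ γ, ∑ j ∈ Finset.range m, E.Wm (h ^ j) *ᵥ z = (m : ℤ) • z + cl E γ := fun m => by
    induction m with
    | zero => exact ⟨0, by simp [cl_zero]⟩
    | succ m ih =>
      obtain ⟨⟨γ, e⟩, δ, e'⟩ := And.intro ih (gen (d := 1) (u := z) (fun _ => one_dvd _) (h ^ m))
      exact ⟨γ + δ, by rw [Finset.sum_range_succ, e, e', cl_add]; push_cast; module⟩
  obtain ⟨γ, e⟩ := h2 n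
  have h3 := ell ho (u := ∑ j ∈ Finset.range n, E.Wm (h ^ j) *ᵥ z) (by
    have e1 := Finset.sum_range_succ (fun j => E.Wm (h ^ j) *ᵥ z) n
    rw [Finset.sum_range_succ', h1, pow_zero, add_left_inj] at e1
    rw [mulVec_sum, ← e1]
    exact Finset.sum_congr rfl fun j _ => by rw [mulVec_mulVec, ← E.Wm_mul, pow_succ'])
  have h4 : cl E ((n : ℤ) • y + (2 : ℤ) • γ) ∈ PP E {b | E.Rt b} := by
    convert add_mem (Submodule.smul_mem _ (n : ℤ) hz) (Submodule.smul_mem _ (2 : ℤ) h3) using 1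
    rw [e, cl_add, cl_smul, cl_smul]
    module
  have h5 := congrFun (nd E fun i _ => (sr_cl hs i _).symm.trans (h4 _ (isRoot_sr _ _ i))) i
  simp only [Pi.add_apply, Pi.smul_apply, smul_eq_mul, Pi.zero_apply] at h5
  exact (Int.prime_two.dvd_or_dvd (⟨-γ i, by linarith⟩ : (2 : ℤ) ∣ n * y i)).resolve_left (by omega)

theorem tri (hs : Sl E) (i j l : E.I) (h1 : i ≠ j) (h2 : i ≠ l) (h3 : j ≠ l) (e1 : E.A i j = -1) (e2 : E.A i l = -1) :
    E.A j l ≠ -1 := fun e3 => by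
  have k1 := sym hs i j
  have k2 := sym hs i l
  have k3 := sym hs j l
  have k := E.h.diag
  have h5 : (sr i + sr j + sr l : E.I → ℤ) = 0 := nd E fun t ht => by
    rw [show pairing E.A t (sr i + sr j + sr l) = E.A t i + E.A t j + E.A t l by
      simp [pairing, sr, Pi.single_apply, mul_add, Finset.sum_add_distrib]]
    by_cases t1 : t = i
    · subst t1; have := k t; omega
    by_cases t2 : t = j
    · subst t2; have := k t; omega
    by_cases t3 : t = l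
    · subst t3; have := k t; omega
    exact absurd (by simp [sr, t1, t2, t3]) ht
  have h6 := congrFun h5 i
  simp [sr, h1, h2] at h6

theorem tyO_of (hs : Sl E) (hc : Fintype.card E.I ≤ 5) {h : E.W} {n : ℕ} (hn : ¬ 2 ∣ n) (h1 : h ^ n = 1)
    (ho : ∀ u, Z2 E (E.Wm h *ᵥ u - u) → Z2 E u) : TyO (rts E) :=
  let ⟨m, blk, _, _, R⟩ := cls hc ⟨E.h.diag, fun _ _ => car hs, tri hs, ns hs hn h1 ho⟩
  ⟨m, blk, R.ne, R.odd, iso_of hs R⟩

theorem card_le (hs : Sl E) : finrank ℤ (PP E {b | E.Rt b}) + Fintype.card E.I ≤ Fintype.card E.R :=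
  (Bs.mk (v := 1) (J := Finset.univ) (fun _ h => h) fun _ hb =>
    ⟨fun _ i hi => absurd (Finset.mem_univ i) hi, fun _ => hb.act 1⟩).card hs

theorem z2_add {u : E.R → ℤ} (h : Z2 E u) (y : E.R → ℤ) : Z2 E (u + (2 : ℤ) • y) :=
  let ⟨z, hz⟩ := h
  ⟨z + y, fun a ha => (congrArg _ (by module)).trans (hz a ha)⟩

theorem ell_pow {A : Matrix E.R E.R ℤ} (h : ∀ u, Z2 E (A *ᵥ u - u) → Z2 E u) (j : ℕ) :
    ∀ u, Z2 E ((A ^ 2 ^ j) *ᵥ u - u) → Z2 E u := by
  induction j with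
  | zero => simpa using h
  | succ j ih =>
    intro u hu
    have h1 := ih ((A ^ 2 ^ j) *ᵥ u + u) (by
      convert hu using 1
      rw [pow_succ, pow_mul, sq, ← mulVec_mulVec, mulVec_add]
      abel)
    refine ih u ?_
    convert z2_add h1 (-u) using 1
    module

variable {X : Datum p ρ F G} {Z : Set Y} (hZ : Z ⊆ X.T) (hF : ∀ b ∈ X.Sz Z, X.g b ∈ X.Sz Z)

theorem sub_Wm (v : (X.sub hZ hF rfl).W) : (X.sub hZ hF rfl).Wm v = X.Wm (X.subW Z v) := by
  obtain ⟨m, hm, -⟩ := (X.sub hZ hF rfl).exists_rp v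
  exact mon_inj (k := k) fun c => X.τ_inj
    (((X.sub hZ hF rfl).conj_τ hm c).symm.trans (X.conj_τ (X.rp_of_sub hZ hF rfl hm) c))

theorem sl_sub (hs : Sl X) : Sl (X.sub hZ hF rfl) := fun a b ha hb => by
  rw [KM.Ev.sub_cor hZ hF ha, KM.Ev.sub_cor hZ hF hb]
  exact hs _ _ ((X.sub_rt hZ hF rfl).1 ha).1 ((X.sub_rt hZ hF rfl).1 hb).1

theorem pp_sub : PP (X.sub hZ hF rfl) {b | (X.sub hZ hF rfl).Rt b} = PP X (X.Sz Z) := by
  ext u
  refine ⟨fun h b hb => ?_, fun h b hb => h _ ((X.sub_rt hZ hF rfl).1 hb)⟩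
  rw [← X.io_roots Z] at hb
  obtain ⟨c, hc, rfl⟩ := hb
  exact h c hc

end LCo

open LCo

variable {p : ℕ} [Fact p.Prime] {k : Type} [Field k] [CharP k p] {Y : Type} [Group Y] {N : Type} [Fintype N]
  [DecidableEq N] {ρ : Y →* GL N k} {F : MulAut Y} {G : Subgroup Y} [IsAlgClosed k] {X : Datum p ρ F G}

/-- **the type of the Levi subgroup** -/
theorem tyO_sub (hp : p ≠ 2) {a : ℕ} (h : LT X a) {D : Subgroup Y} (hZ : (D : Set Y) ⊆ X.T)
    (hF : ∀ b ∈ X.Sz D, X.g b ∈ X.Sz D) (hD : TD X D) {w : (X.sub hZ hF rfl).W} (ho : Od (X.sub hZ hF rfl) w) :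
    TyO (rts (X.sub hZ hF rfl)) := by
  obtain ⟨e, m, φ, -, hm, hM⟩ := h.sc
  have hs := sl_sub hZ hF h.sl
  have hm : Odd m := by
    have : Odd ((p : ℤ) ^ e) := (((Fact.out : p.Prime).odd_of_ne_two hp).natCast (R := ℤ)).pow
    rcases hm with rfl | rfl
    exacts [this, this.neg]
  have := Fact.mk Nat.prime_two
  have := hD.fin
  obtain ⟨j, hj⟩ := IsPGroup.iff_card.1 hD.pg
  set g := X.subW D w * φ with hg
  have hA : (X.sub hZ hF rfl).Wm w * (X.sub hZ hF rfl).Mx = m • X.Wm g := by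
    rw [sub_Wm, hg, X.Wm_mul, ← mul_smul_comm, ← hM]
  obtain ⟨i, o, h2, h3⟩ := Nat.exists_eq_pow_mul_and_not_dvd (orderOf_pos g).ne' 2 (by norm_num)
  have h4 : (g ^ 2 ^ (i + j)) ^ o = 1 := by
    rw [← pow_mul, pow_add, mul_right_comm, ← h3, pow_mul, pow_orderOf_eq_one, one_pow]
  have h5 : ∀ x ∈ D, x ^ 2 ^ (i + j) = 1 := fun x hx => by
    rw [pow_add, mul_comm, pow_mul, ← hj,
      show x ^ Nat.card D = 1 from congrArg Subtype.val (pow_card_eq_one' (x := (⟨_, hx⟩ : D))), one_pow]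
  obtain ⟨u, hu⟩ : (g ^ 2 ^ (i + j))⁻¹ ∈ (X.subW D).range := ppr_W (D := X) hZ (n := o) (fun b x hx => by
    obtain ⟨t, rfl⟩ := (X.mem_T x).1 (hZ hx)
    have e0 : mon X.Mx t = t := X.τ_inj (by rw [← X.F_τ, (mem_GF.1 (hD.le hx)).2])
    have e1 : mon (m • X.Wm g) t = t := by
      obtain ⟨n, hn, -⟩ := (X.sub hZ hF rfl).exists_rp w
      rw [← hA, mon_mul, show mon (X.sub hZ hF rfl).Mx t = t from e0]
      exact X.τ_inj (((X.sub hZ hF rfl).conj_τ hn t).symm.trans (mul_inv_eq_iff_eq_mul.2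
        (X.cen_le_centralizer hZ hn.mem_G _ hx).symm))
    have e2 : ∀ n : ℕ, chr (X.wt (X.act (g⁻¹ ^ n) b)) t ^ m ^ n = chr (X.wt b) t := fun n => by
      induction n with
      | zero => rw [pow_zero, pow_zero, zpow_one, CF.act_one]
      | succ n ih =>
        rw [pow_succ', CF.act_mul, X.wt_act', pow_succ', _root_.zpow_mul, ← chr_zsmul m, ← vecMul_smul, ← chr_mon, e1, ih]
    have e3 : t ^ 2 ^ (i + j) = 1 := X.τ_inj (by rw [map_pow, map_one, h5 _ hx])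
    obtain ⟨s, hs⟩ := WLa.two_pow_dvd hm (i + j)
    rw [← inv_pow, X.χ_τ, X.χ_τ, ← e2 (2 ^ (i + j)), eq_add_of_sub_eq hs, _root_.zpow_add_one, _root_.zpow_mul,
      show (2 : ℤ) ^ (i + j) = (2 ^ (i + j) : ℕ) by norm_cast, _root_.zpow_natCast, ← map_pow, e3, map_one, _root_.one_zpow, one_mul])
    (by rw [inv_pow, h4, inv_one])
    (fun x hx => (((Nat.Prime.coprime_iff_not_dvd Nat.prime_two).2 h2).pow_left (i + j)).coprime_dvd_left
      (orderOf_dvd_of_pow_eq_one (h5 x hx)))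
    fun b hb => X.range_subW ▸ Subgroup.subset_closure ⟨b, hb, rfl⟩
  have h6 : X.subW D u⁻¹ = g ^ 2 ^ (i + j) := by rw [map_inv, hu, inv_inv]
  refine tyO_of hs ?_ h2 (h := u⁻¹) (X.subW_injective D (by rw [map_pow, h6, h4, map_one])) ?_
  · have h7 := card_le hs
    rw [pp_sub] at h7
    have h8 := (Nat.pow_lt_pow_iff_right one_lt_two).1 (show 2 ^ 2 < _ from hD.rk.trans_le (om_le hD.z0))
    exact Nat.le_of_add_le_add_left ((Nat.add_le_add_right h8 _).trans (h7.trans h.rk))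
  · rw [sub_Wm, h6, show X.Wm (g ^ 2 ^ (i + j)) = X.Wm g ^ 2 ^ (i + j) from map_pow X.WmHom _ _]
    refine ell_pow (E := X.sub hZ hF rfl) (fun v hv => ho v ?_) _
    obtain ⟨c, rfl⟩ := hm
    rw [hA]
    convert z2_add hv (c • X.Wm g *ᵥ v) using 1
    rw [smul_mulVec]
    module

/-- **[LC]** -/
theorem boxLC : BoxLC := boxLC_of fun _ hp _ h _ hZ hF hD =>
  at_sub hp h.toLS hZ hF hD.z0 fun _ ho => ⟨tyO_sub hp h hZ hF hD ho, LCt.cz_sub h hZ hF hD⟩

end Cfsg.Agent.BH.R2
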