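import Cfsg.Agent.BH.Row2L.Defs
import Cfsg.Agent.BH.Row2L.LamA
import Cfsg.Agent.TO.Can1
import Cfsg.Agent.TO.CovA
import Cfsg.Agent.H388.RI.Two
import Cfsg.Agent.H669.Basic
import Cfsg.Agent.H861.RUtil
import Cfsg.Agent.S0919
import Cfsg.Agent.S0969
import Cfsg.Agent.S4437

/-!
# BH / Row2L: the boxes LAM and LIFT (helper61)

`boxLam : BoxLam`, `boxLift : BoxLift`.
-/

set_option autoImplicit false
set_option linter.unusedSectionVars false

namespace Cfsg.Agent.BH.R2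

open Cfsg Subgroup Cfsg.Agent.TO Cfsg.Agent.Characters Cfsg.Agent.Characters.Core Cfsg.Agent.Blocks
  Cfsg.Agent.Blocks.Basic

namespace LamA

variable {Y K : Type} [Group Y] [Group K] {H L D : Subgroup Y} [Finite H] {π : H →* K} {Q : Subgroup K}

theorem cop {m : ℕ} (h : ¬ 2 ∣ m) (k : ℕ) : m.Coprime (2 ^ k) :=
  ((Nat.Prime.coprime_iff_not_dvd Nat.prime_two).2 h).symm.pow_right k

theorem Up.le (h : Up π Q D) : D ≤ H := fun d hd => ((h d).1 hd).1

theorem Up.mem (h : Up π Q D) {d : H} (hd : (d : Y) ∈ D) : π d ∈ Q := ((h d).1 hd).2.1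

theorem Up.of (h : Up π Q D) {d : H} (h1 : π d ∈ Q) {k : ℕ} (h2 : d ^ 2 ^ k = 1) : (d : Y) ∈ D :=
  (h d).2 ⟨d.2, h1, k, congrArg Subtype.val h2⟩

theorem Up.pw (h : Up π Q D) {d : Y} (hd : d ∈ D) : ∃ k, d ^ 2 ^ k = 1 := ((h d).1 hd).2.2

/-- `Q` is the image of `D` -/
theorem Up.surj (h : Up π Q D) (hs : Function.Surjective π) (hQ : IsPGroup 2 Q) {y : K} (hy : y ∈ Q) :
    ∃ d : H, (d : Y) ∈ D ∧ π d = y := by
  obtain ⟨a, rfl⟩ := hs y
  obtain ⟨j, h1, t, h2⟩ := H388.RI.exists_p_part (n := a) Nat.prime_two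
  obtain ⟨k, hk⟩ := hQ ⟨_, hy⟩
  exact H861.RUtil.mem_of_coprime_pow (S := (D.subgroupOf H).map π) (cop h1 k)
    ⟨a ^ j, Up.of h (d := a ^ j) (k := t) (by rw [map_pow]; exact pow_mem hy j) (by rw [← h2, pow_orderOf_eq_one]),
      map_pow _ _ _⟩
    (by rw [show π a ^ 2 ^ k = 1 from congrArg Subtype.val hk]; exact one_mem _)

theorem Up.nrm (h : Up π Q D) {n : H} (hn : π n ∈ normalizer (Q : Set K)) (d : Y) : n * d * (n : Y)⁻¹ ∈ D ↔ d ∈ D := by
  have key : ∀ n : H, π n ∈ normalizer (Q : Set K) → ∀ d ∈ D, n * d * (n : Y)⁻¹ ∈ D := fun n hn d hd => by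
    obtain ⟨h1, h2, k, h3⟩ := (h d).1 hd
    refine Up.of h (d := n * ⟨d, h1⟩ * n⁻¹) ?_ (k := k) ?_
    · rw [map_mul, map_mul, map_inv]
      exact (mem_normalizer_iff.1 hn _).1 h2
    · rw [conj_pow, show (⟨d, h1⟩ : H) ^ 2 ^ k = 1 from Subtype.ext h3, mul_one, mul_inv_cancel]
  exact ⟨fun h1 => by simpa [mul_assoc] using key n⁻¹ (by rw [map_inv]; exact inv_mem hn) _ h1, key n hn d⟩

theorem Up.nrm' (h : Up π Q D) (hs : Function.Surjective π) (hQ : IsPGroup 2 Q) {n : H}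
    (hn : ∀ d, n * d * (n : Y)⁻¹ ∈ D ↔ d ∈ D) : π n ∈ normalizer (Q : Set K) := by
  refine mem_normalizer_iff.2 fun y => ⟨fun hy => ?_, fun hy => ?_⟩
  · obtain ⟨d, h1, rfl⟩ := Up.surj h hs hQ hy
    rw [← map_inv, ← map_mul, ← map_mul]
    exact Up.mem h ((hn d).2 h1)
  · obtain ⟨d, h1, h2⟩ := Up.surj h hs hQ hy
    have h3 := Up.mem h (d := n⁻¹ * d * n) ((hn _).1 (by simpa [mul_assoc] using h1))
    simpa [h2, mul_assoc] using h3

theorem Up.cen (h : Up π Q D) (hs : Function.Surjective π) (hQ : IsPGroup 2 Q) {g : H} (hg : (g : Y) ∈ Ce D) :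
    π g ∈ Ce Q := mem_centralizer_iff.2 fun y hy => by
  obtain ⟨d, h1, rfl⟩ := Up.surj h hs hQ hy
  rw [← map_mul, ← map_mul, show d * g = g * d from Subtype.ext (mem_centralizer_iff.1 hg d h1)]

/-- elements of odd order over `C(Q)` centralize `D` -/
theorem Up.odd (h : Up π Q D) (hz : π.ker ≤ center H) {g : H} (hg : π g ∈ Ce Q) (ho : ¬ 2 ∣ orderOf g) :
    (g : Y) ∈ Ce D := mem_centralizer_iff.2 fun d hd => by
  obtain ⟨d, rfl⟩ : ∃ d' : H, (d' : Y) = d := ⟨⟨d, Up.le h hd⟩, rfl⟩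
  have h1 : g * d * g⁻¹ * d⁻¹ ∈ center H := hz (by
    rw [MonoidHom.mem_ker, map_mul, map_mul, map_mul, map_inv, map_inv, ← mem_centralizer_iff.1 hg _ (Up.mem h hd),
      mul_inv_cancel_right, mul_inv_cancel])
  obtain ⟨k, h2⟩ := Up.pw h (mul_mem ((Up.nrm h (centralizer_le_normalizer _ hg) d).2 hd) (inv_mem hd))
  generalize hzd : g * d * g⁻¹ * d⁻¹ = z at h1
  have h3 : ∀ n : ℕ, g ^ n * d = z ^ n * d * g ^ n := fun n => by
    induction n with
    | zero => simp
    | succ n ih =>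
      have h4 : g * d = z * d * g := by rw [← hzd]; group
      rw [pow_succ' g, mul_assoc, ih, ← mul_assoc, ← mul_assoc, mem_center_iff.1 (pow_mem h1 n) g, mul_assoc _ g, h4,
        pow_succ z]
      group
  have h4 := h3 (orderOf g)
  rw [pow_orderOf_eq_one, one_mul, mul_one, eq_comm, mul_eq_right] at h4
  have h5 : z ∈ (⊥ : Subgroup H) := H861.RUtil.mem_of_coprime_pow (cop ho k) h4 (Subtype.ext (by rw [← hzd]; exact h2))
  have h6 := h3 1
  rw [mem_bot.1 h5, one_pow, one_mul, pow_one] at h6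
  exact congrArg Subtype.val h6.symm

theorem Up.fac (h : Up π Q D) : (Nat.card (Q.comap π)).factorization 2 ≤ (Nat.card D).factorization 2 := by
  have : Finite D := Finite.of_injective _ (inclusion_injective (Up.le h))
  obtain ⟨P, hP⟩ := Sylow.exists_subgroup_card_pow_prime 2 (Nat.ordProj_dvd (Nat.card (Q.comap π)) 2)
  refine (Nat.prime_two.pow_dvd_iff_le_factorization Nat.card_pos.ne').1 ?_
  rw [← hP, ← card_map_of_injective (Q.comap π).subtype_injective, ← card_map_of_injective H.subtype_injective]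
  refine card_dvd_of_le ?_
  rintro _ ⟨_, ⟨x, hx, rfl⟩, rfl⟩
  refine Up.of h x.2 (k := (Nat.card (Q.comap π)).factorization 2) ?_
  rw [← hP]
  exact congrArg (fun y : P => ((y : Q.comap π) : H)) (pow_card_eq_one' (x := (⟨x, hx⟩ : P)))

theorem isPPart_map {G G' : Type} [Group G] [Group G'] (f : G →* G') {g x : G} (h : IsPPart 2 g x) :
    IsPPart 2 (f g) (f x) := by
  obtain ⟨y, h1, h2, ⟨k, h3⟩, h4⟩ := h
  obtain ⟨k', -, h5⟩ := (Nat.dvd_prime_pow Nat.prime_two).1 (h3 ▸ orderOf_map_dvd f x)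
  exact ⟨f y, by rw [← map_mul, h1], h2.map f, ⟨k', h5⟩, fun h6 => h4 (h6.trans (orderOf_map_dvd f y))⟩

end LamA

open LamA

/-- **[LAM]** -/
theorem boxLam : BoxLam := by
  intro Y K _ _ H L D _ _ π M b Q θ hs hz hC hU hDL hL hk ho hn
  have hQ := hC.pg
  let f := extendByZero H (θ ∘ π)
  have f1 : ∀ h : H, f h = θ (π h) := fun h => extendByZero_of_mem H _ h.2
  have f0 : ∀ g, g ∉ H → f g = 0 := fun g hg => extendByZero_of_notMem _ _ hg
  let J := ((Ce Q).comap π).map H.subtype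
  have mJ : ∀ h : H, (h : Y) ∈ J ↔ π h ∈ Ce Q := fun h => mem_map_iff_mem H.subtype_injective
  have hJH : J ≤ H := map_subtype_le _
  have : Finite J := Finite.of_injective _ (inclusion_injective hJH)
  have hLJ : L ≤ J := fun g hg => (mJ ⟨g, (hL hg).1⟩).2 (Up.cen hU hs hQ (hL hg).2)
  have : Finite L := Finite.of_injective _ (inclusion_injective hLJ)
  have : Finite D := Finite.of_injective _ (inclusion_injective hDL)
  have hJD : ∀ j ∈ J, ∀ d, j * d * j⁻¹ ∈ D ↔ d ∈ D := fun j hj =>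
    Up.nrm hU (n := ⟨j, hJH hj⟩) (centralizer_le_normalizer _ ((mJ _).1 hj))
  have fz : ∀ g, g ∉ L → f g = 0 := fun g hg => by
    by_cases h1 : g ∈ H
    swap
    · exact f0 g h1
    rw [f1 ⟨g, h1⟩]
    by_cases h2 : π ⟨g, h1⟩ ∈ Ce Q
    swap
    · exact hC.zero _ h2
    obtain ⟨x, hx⟩ := PPart.exists_isPPart 2 (⟨g, h1⟩ : H)
    refine hC.van (isPPart_map π hx) fun h3 => hg ?_
    obtain ⟨y, h4, -, ⟨k, h5⟩, h6⟩ := hx
    have h7 : π y ∈ Ce Q := by
      rw [← h4, map_mul] at h2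
      exact (mul_mem_cancel_left (hC.ab h3)).1 h2
    rw [← show (x : Y) * y = g from congrArg Subtype.val h4]
    exact mul_mem (hDL (Up.of hU h3 (by rw [← h5, pow_orderOf_eq_one])))
      (ho y ⟨y.2, Up.odd hU hz h7 h6⟩ (by rwa [orderOf_coe]))
  have fi : IsIrrCharacter J fun g => f g := by
    have h1 := isIrr_comp ((π.comp (inclusion hJH)).codRestrict (Ce Q) fun j => (mJ _).1 j.2) (fun c => by
      obtain ⟨a, ha⟩ := hs c
      exact ⟨⟨a, (mJ a).2 (ha ▸ c.2)⟩, Subtype.ext ha⟩) hC.irr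
    rwa [show (fun g : J => f g) = _ from funext fun g => f1 (inclusion hJH g)]
  obtain ⟨lam, e, he, k1, k2, k3, k4, k5, k6⟩ := clif hLJ (fun j hj g => (hn j (hJH hj) (hJD j hj) g).2) fi fz
  have f2 : f 1 = θ 1 := (f1 1).trans (congrArg θ (map_one π))
  have hd : e.factorization 2 + (Nat.card L).factorization 2 ≤
      (charDegree fun g : L => lam g).factorization 2 + (Nat.card D).factorization 2 := by
    have := Fintype.ofFinite J
    have h1 := k3 1
    have h2 : θ 1 = charDegree θ := irr_one_eq_charDegree (χ := fun c : Ce Q => θ c) hC.irr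
    have h3 : lam 1 = charDegree fun g : L => lam g := irr_one_eq_charDegree (χ := fun g : L => lam g) k1
    have h4 : charDegree θ ≠ 0 := fun h => hC.one_ne (by rw [h2, h, Nat.cast_zero])
    simp only [mul_one, inv_mul_cancel, finsum_eq_sum_of_fintype, Finset.sum_const, Finset.card_univ, nsmul_eq_mul] at h1
    rw [f2, h2, h3, ← Nat.card_eq_fintype_card] at h1
    have h5 : e * Nat.card L * charDegree θ = Nat.card J * charDegree fun g : L => lam g := by exact_mod_cast h1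
    have h6 : Nat.card J = Nat.card (Q.comap π) * Q.relIndex (Ce Q) := by
      rw [card_map_of_injective H.subtype_injective, ← ((Q.comap π).subgroupOf ((Ce Q).comap π)).card_mul_index,
        Nat.card_congr (subgroupOfEquivOfLe (comap_mono hC.ab)).toEquiv]
      congr 1
      show (Q.comap π).relIndex _ = _
      rw [relIndex_comap, map_comap_eq_self_of_surjective hs]
    have h7 := congrArg (fun n => n.factorization 2) h5
    have h8 : Q.relIndex (Ce Q) ≠ 0 := index_ne_zero_of_finite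
    simp only [h6] at h7
    rw [Nat.factorization_mul (mul_ne_zero he Nat.card_pos.ne') h4, Nat.factorization_mul he Nat.card_pos.ne',
      Nat.factorization_mul (mul_ne_zero Nat.card_pos.ne' h8) (charDegree_pos k1).ne',
      Nat.factorization_mul Nat.card_pos.ne' h8] at h7
    simp only [Finsupp.add_apply] at h7
    have h9 := hC.deg
    have h10 := Up.fac hU
    omega
  have he2 : ¬ 2 ∣ e := fun h => by
    have h1 := (Nat.prime_two.dvd_iff_one_le_factorization he).1 h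
    have h2 : (charDegree fun g : L => lam g) ∣ (D.subgroupOf L).index :=
      (H669.Basic.charDegree_dvd_index_center k1).trans (index_dvd_of_le fun d hd => mem_center_iff.2 fun g =>
        Subtype.ext (mem_centralizer_iff.1 (hL g.2).2 d hd).symm)
    have h3 := (Nat.factorization_le_iff_dvd (charDegree_pos k1).ne' index_ne_zero_of_finite).2 h2 2
    have h4 := congrArg (fun n => n.factorization 2) (D.subgroupOf L).card_mul_index
    simp only [Nat.card_congr (subgroupOfEquivOfLe hDL).toEquiv] at h4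
    rw [Nat.factorization_mul Nat.card_pos.ne' index_ne_zero_of_finite, Finsupp.add_apply] at h4
    omega
  have hI : ∀ n : H, (n : Y) ∈ In D lam → π n ∈ In Q θ := fun n h => by
    have h1 := Up.nrm' hU hs hQ h.1
    have h2 : (n : Y) ∈ normalizer (J : Set Y) := mem_normalizer_iff.2 fun j => by
      by_cases h3 : j ∈ H
      · refine (mJ ⟨j, h3⟩).trans (Iff.trans ?_ (mJ (n * ⟨j, h3⟩ * n⁻¹)).symm)
        rw [map_mul, map_mul, map_inv]
        exact (Cov.conj_mem_Ce h1).symm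
      · refine iff_of_false (fun h4 => h3 (hJH h4)) fun h4 => h3 ?_
        have h5 := hJH h4
        rwa [mul_mem_cancel_right (inv_mem n.2), mul_mem_cancel_left n.2] at h5
    refine ⟨fun y => (mem_normalizer_iff.1 h1 y).symm, fun g => ?_⟩
    obtain ⟨a, rfl⟩ := hs g
    show θ (π n * π a * (π n)⁻¹) = θ (π a)
    rw [← map_inv, ← map_mul, ← map_mul, ← f1, ← f1]
    refine mul_left_cancel₀ (mul_ne_zero (Nat.cast_ne_zero.2 he) (card_ne_zero_complex (G := L))) ?_
    rw [k3, k3, ← finsum_comp_equiv (J.normalizerMonoidHom ⟨n, h2⟩).toEquiv]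
    refine finsum_congr fun j => Eq.trans ?_ (h.2 _)
    congr 1
    show ((n : Y) * j * (n : Y)⁻¹)⁻¹ * (n * a * (n : Y)⁻¹) * (n * j * (n : Y)⁻¹) = n * ((j : Y)⁻¹ * a * j) * (n : Y)⁻¹
    group
  refine ⟨lam, ⟨k1, k2, k5 D hDL (fun j hj d => (hJD j hj d).2) fun d hd => ?_, by omega, fun n h => ?_⟩, hI,
    fun x h1 h2 h3 h4 => ?_⟩
  · exact (f1 ⟨d, Up.le hU hd⟩).trans ((hC.triv _ (Up.mem hU hd)).trans f2.symm)
  · have : ((Ce Q).subgroupOf (In Q θ)).Normal := ⟨fun c hc t => (Cov.conj_mem_Ce (Cov.In_le_normalizer t.2)).2 hc⟩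
    have h1 : π ⟨n, h.1⟩ ^ (Ce Q).relIndex (In Q θ) ∈ Ce Q :=
      ((Ce Q).subgroupOf (In Q θ)).pow_index_mem ⟨_, hI ⟨n, h.1⟩ h.2⟩
    rw [← map_pow] at h1
    refine ⟨(Ce Q).relIndex (In Q θ) * e ^ 2, fun h2 => ?_, ?_⟩
    · exact ((Nat.Prime.dvd_mul Nat.prime_two).1 h2).elim hC.idx fun h3 => he2 (Nat.prime_two.dvd_of_dvd_pow h3)
    · rw [pow_mul]
      exact k4 _ ((mJ _).2 h1) (pow_mem h.2 _).2
  · obtain ⟨j, hj, h5⟩ := k6 x h3 fun g => by
      by_cases h5 : g ∈ H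
      · exact (f1 ⟨_, (h1 g).2 h5⟩).trans ((h4 ⟨g, h5⟩ _ rfl).trans (f1 ⟨g, h5⟩).symm)
      · rw [f0 g h5, f0 _ fun h6 => h5 ((h1 g).1 h6)]
    refine ⟨⟨j, hJH hj⟩, (mJ _).1 hj, fun d => ?_, h5⟩
    refine Iff.trans (Iff.of_eq (congrArg (· ∈ D) ?_)) ((hJD j hj _).trans (h2 d))
    show j * x * d * (j * x)⁻¹ = _
    group

/-- a canonical character from a character of defect zero with odd inertial index -/
theorem LamA.can {G : Type} [Group G] [Finite G] {M : Ideal AlgInt} (hM : IsPModular 2 M) {D : Subgroup G}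
    (hp : IsPGroup 2 D) (hab : D ≤ Ce D) {lam : G → ℂ} (h : Lam ⊤ (Ce D) D lam) : ∃ B, Can 2 M B D lam := by
  have := Local.isPrime_of_isPModular hM
  have := Fintype.ofFinite G
  have := Fintype.ofFinite (Ce D)
  let χ : IrrCharacter (Ce D) := ⟨_, h.irr⟩
  have hZ : D.subgroupOf (Ce D) ≤ center (Ce D) := fun d hd => mem_center_iff.2 fun g =>
    Subtype.ext (mem_centralizer_iff.1 g.2 d hd).symm
  have h1 : IsDefectGroup 2 M (blockOf M (χ : Ce D → ℂ)) (D.subgroupOf (Ce D)) := by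
    refine (S0969.result 2 M hM _ hp.comap_subtype hZ χ (le_antisymm ((Nat.factorization_le_iff_dvd
      (charDegree_pos χ.2).ne' index_ne_zero_of_finite).2 ((H669.Basic.charDegree_dvd_index_center χ.2).trans
        (index_dvd_of_le hZ)) 2) ?_)).1
    have h4 := congrArg (fun n => n.factorization 2) (D.subgroupOf (Ce D)).card_mul_index
    simp only [Nat.card_congr (subgroupOfEquivOfLe hab).toEquiv] at h4
    rw [Nat.factorization_mul Nat.card_pos.ne' index_ne_zero_of_finite, Finsupp.add_apply] at h4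
    have h5 : _ ≤ (charDegree (χ : Ce D → ℂ)).factorization 2 + _ := h.deg
    show (D.subgroupOf (Ce D)).index.factorization 2 ≤ _
    omega
  obtain ⟨B, hB⟩ := S0919.result 2 M hM D _ hp hab le_rfl (centralizer_le_normalizer _) _ (isPBlock_blockOf χ)
  refine ⟨B, hM, (S4437.result 2 M hM D hp (Ce D) (sup_eq_right.2 hab).symm _ (isPBlock_blockOf χ) h1 B hB (In D lam)
    fun g => ⟨fun hg => ⟨Cov.In_le_normalizer hg, fun ξ hξ ξ' h2 => ?_⟩, fun ⟨h2, h3⟩ => ?_⟩).2 fun h2 => ?_,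
    hab, h.irr, hB, h.zero, h.triv⟩
  · have hx := H649.mem_normalizer_centralizer (Cov.In_le_normalizer hg)
    have h3 : ξ' = H649.irrMap (H649.conjAut (Ce D) g hx) ξ := Subtype.ext (funext fun k => by
      rw [H649.irrMap_apply]
      refine h2 _ k ?_
      rw [H649.conjAut_symm_coe]
      group)
    have h4 := (H649.irrMap_mem_blkMap (e := H649.conjAut (Ce D) g hx)).2 hξ
    rw [H649.blkMap_blockOf, ← h3] at h4
    refine (congrArg (fun f => ξ' ∈ blockOf M f) (funext fun k => ?_)).mp h4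
    show lam _ = lam k
    rw [H649.conjAut_symm_coe, ← hg.2]
    congr 1
    show g * (g⁻¹ * k * g) * g⁻¹ = k
    group
  · have hx := H649.mem_normalizer_centralizer h2
    obtain ⟨ζ, -, hu⟩ := (S0968.result 2 M hM _ hp.comap_subtype (Cn.sup_cent_eq_top hab) _ (isPBlock_blockOf χ) h1).1
    have h4 : H649.irrMap (H649.conjAut (Ce D) g hx) χ = χ :=
      (hu _ ⟨h3 χ (mem_blockOf_self χ) _ fun k k' e => by
        rw [H649.irrMap_apply]
        refine congrArg _ (Subtype.ext ?_)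
        rw [H649.conjAut_symm_coe, e]
        group, fun d hd => by
        rw [H649.irrMap_apply, H649.irrMap_apply, map_one]
        refine h.triv _ ((mem_normalizer_iff.1 h2 _).2 ?_)
        rw [H649.conjAut_symm_coe]
        simpa [mul_assoc] using mem_subgroupOf.1 hd⟩).trans (hu χ ⟨mem_blockOf_self χ, fun d hd => h.triv d hd⟩).symm
    refine ⟨fun y => (mem_normalizer_iff.1 h2 y).symm, fun y => ?_⟩
    show lam (g * y * g⁻¹) = lam y
    by_cases hy : y ∈ Ce D
    · have h5 := congrFun (congrArg Subtype.val h4) ⟨_, (Cov.conj_mem_Ce h2).2 hy⟩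
      rw [H649.irrMap_apply] at h5
      refine h5.symm.trans ?_
      show lam _ = lam y
      rw [H649.conjAut_symm_coe]
      congr 1
      show g⁻¹ * (g * y * g⁻¹) * g = y
      group
    · rw [h.zero y hy, h.zero _ fun h5 => hy ((Cov.conj_mem_Ce h2).1 h5)]
  · have : ((Ce D).subgroupOf (In D lam)).Normal := ⟨fun c hc t => (Cov.conj_mem_Ce (Cov.In_le_normalizer t.2)).2 hc⟩
    obtain ⟨x, hx⟩ := exists_prime_orderOf_dvd_card' (G := In D lam ⧸ (Ce D).subgroupOf (In D lam)) 2 h2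
    obtain ⟨n, rfl⟩ := QuotientGroup.mk_surjective x
    obtain ⟨m, h3, h4⟩ := h.odd n ⟨trivial, n.2⟩
    refine h3 (hx ▸ orderOf_dvd_of_pow_eq_one ?_)
    rw [← QuotientGroup.mk_pow, QuotientGroup.eq_one_iff]
    exact h4

/-- **[LIFT]** -/
theorem boxLift : BoxLift := by
  intro H K _ _ _ _ π M b Q θ hs hz hk hC hab
  have hp : IsPGroup 2 (Q.comap π) := hC.pg.comap_of_ker_isPGroup π hk
  obtain ⟨lam, h1, h2, h3⟩ := boxLam H K ⊤ (Ce (Q.comap π)) (Q.comap π) (π.comp (⊤ : Subgroup H).subtype) M b Q θ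
    (fun y => let ⟨x, e⟩ := hs y; ⟨⟨x, trivial⟩, e⟩)
    (fun x hx => mem_center_iff.2 fun y => Subtype.ext (mem_center_iff.1 (hz hx) y)) hC
    (fun d => ⟨fun hd => let ⟨k, e⟩ := hp ⟨d, hd⟩; ⟨trivial, hd, k, congrArg Subtype.val e⟩, fun ⟨_, hd, _⟩ => hd⟩) hab
    (le_inf le_top le_rfl) (fun x hx => mem_centralizer_iff.2 fun y _ => mem_center_iff.1 (hz hx) y) (fun g hg _ => hg.2)
    fun x _ hx g => Cov.conj_mem_Ce (mem_normalizer_iff.2 fun y => (hx y).symm)
  obtain ⟨B, hB⟩ := LamA.can hC.hM hp hab h1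
  refine ⟨B, lam, hB, le_antisymm (fun y hy => ?_) (sup_le ?_ (Cov.ce_le_In hC))⟩
  · obtain ⟨x, rfl⟩ := hs y
    have h4 : ∀ d, x * d * x⁻¹ ∈ Q.comap π ↔ d ∈ Q.comap π := fun d => by
      rw [mem_comap, map_mul, map_mul, map_inv]
      exact hy.1 _
    obtain ⟨c, h5, h6⟩ := h3 x (fun _ => Iff.rfl) h4 (fun g => Cov.conj_mem_Ce (mem_normalizer_iff.2 fun y => (h4 y).symm))
      fun a a' e => by
        show θ (π a') = θ (π a)
        rw [e, map_mul, map_mul, map_inv]
        exact hy.2 _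
    rw [show π x = (π c)⁻¹ * π (c * x) by rw [map_mul, inv_mul_cancel_left]]
    exact mul_mem (mem_sup_right (inv_mem h5)) (mem_sup_left ⟨_, h6, rfl⟩)
  · rintro _ ⟨n, hn, rfl⟩
    exact h2 ⟨n, trivial⟩ hn

end Cfsg.Agent.BH.R2
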