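import Cfsg.Agent.KM.E2.P4
import Cfsg.Agent.DL.St.Main
import Cfsg.Agent.DL.Asm.Sys

/-!
# BH, the prime `2`, type `E₈` : pure subgroups of order eight are toral (helper92)

* `norm_tor` : an involution which centralises `Z ⊆ T` normalises a maximal torus of the connected centraliser;
* `Bf` : the invariant form on the coroot lattice;
* `toral`.
-/

set_option autoImplicit false
set_option linter.unusedSectionVars false

namespace Cfsg.Agent.BH.R2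

namespace P3n

open Cfsg Cfsg.Agent.DL Cfsg.Agent.Nodes.Reps Cfsg.Agent.Nodes.BNOf Matrix Subgroup Cfsg.Agent.KM Cfsg.Agent.KM.E2
open Cfsg.Agent.KM.Tor Cfsg.Agent.Tits.Roots Multiplicative
open Cfsg.Agent.TO.X.Cn (cl mem_cen mem_WZ rf_mem_WZ stab_vec WZ cl_zero)

variable {p : ℕ} [Fact p.Prime] {k : Type} [Field k] [CharP k p] {Y : Type} [Group Y] {N : Type} [Fintype N]
  [DecidableEq N] {ρ : Y →* GL N k} {F : MulAut Y} {G : Subgroup Y} [IsAlgClosed k] {X : Datum p ρ F G}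

/-! ### an invariant torus -/

theorem fix_tor (hp : p ≠ 2) (X : Datum p ρ F G) {c : Y} (h2 : c * c = 1) (hc : ∀ T ∈ Asm.tori X, cj c T ∈ Asm.tori X) :
    ∃ y ∈ G, cj c (cj y X.T) = cj y X.T := by
  classical
  obtain ⟨St, hSt⟩ := DL.St.stD X
  have h1 := hSt.card_tori (Asm.sys' X)
  let f : (Asm.sys' X).tori → (Asm.sys' X).tori := fun T =>
    ⟨cj c T, (Asm.sys' X).mem_tori.2 (hc _ ((Asm.sys' X).mem_tori.1 T.2))⟩
  have hf : Function.Involutive f := fun T => Subtype.ext (by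
    show cj c (cj c _) = _
    rw [← cj_mul, h2, cj_one])
  obtain ⟨T, hT⟩ := Equiv.Perm.exists_fixed_point_of_prime (p := 2) (n := 1) (σ := hf.toPerm f) (by
    rw [Fintype.card_coe, h1]
    exact fun e => hp ((Nat.prime_dvd_prime_iff_eq Nat.prime_two Fact.out).1
      (Nat.prime_two.dvd_of_dvd_pow (Nat.prime_two.dvd_of_dvd_pow e))).symm) (Equiv.ext fun T => hf T)
  obtain ⟨y, hy, e, -⟩ := (Asm.sys' X).mem_tori.1 T.2
  exact ⟨y, hy, e ▸ congrArg Subtype.val hT⟩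

/-- **an involution normalises a maximal torus of the connected centraliser** -/
theorem norm_tor (hp : p ≠ 2) {Z : Set Y} (hZ : Z ⊆ X.T) (hf : Z.Finite) {c : Y} (hc : c ∈ G) (h1 : c ∈ centralizer Z)
    (h2 : c * c = 1) : ∃ y ∈ X.cen Z, y⁻¹ * c * y ∈ X.NN := by
  have := hf.to_subtype
  obtain ⟨m, hm, h3⟩ := X.amb.exists_pow_fix (ι := Option Z) fun o => o.elim c (↑)
  have hF := fun a => (X.pow hm).g_mem_Sz hZ (a := a) fun z hz => (show (F ^ m) z = z from h3 (some ⟨z, hz⟩)).symm ▸ hz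
  obtain ⟨s, hs, n, hn, -, e⟩ := X.exists_cen_form hZ hc h1
  obtain ⟨y, hy, h4⟩ := fix_tor hp ((X.pow hm).sub hZ hF rfl) h2 fun T ⟨y, hy, e1, e2⟩ =>
    ⟨c * y * c⁻¹ * s, mul_mem (X.conj_mem_cen hZ hc h1 hy) (X.S_le_cen _ hs), by
      rw [e1, ← cj_mul]
      conv_lhs => rw [show c * y = c * y * c⁻¹ * s * n by rw [mul_assoc _ s, ← e, inv_mul_cancel_right], cj_mul]
      exact congrArg _ (X.cj_T hn), by rw [CF.map_cj_of_fixed (show (F ^ m) c = c from h3 none), e2]⟩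
  have h5 := X.cen_le_G _ hy
  exact ⟨y, hy, mul_assoc y⁻¹ c y ▸ St.mem_NN_of_cj X h5 (mul_mem hc h5) ((cj_mul _ _ _).trans h4)⟩

/-! ### the invariant form -/

theorem rs (i : X.I) : X.Rt (sr i) := isRoot_sr X.cs X.h i

theorem wt_eq (β : X.I → ℤ) (v : X.R → ℤ) : X.wt β ⬝ᵥ v = ∑ i, β i * X.wt (sr i) ⬝ᵥ v := by
  conv_lhs => rw [pi_eq_sum_univ' β, map_sum, sum_dotProduct]
  exact Finset.sum_congr rfl fun i _ => by rw [map_zsmul, smul_dotProduct]; rfl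

theorem dot_cl (m : X.R → ℤ) (β : X.I → ℤ) : m ⬝ᵥ cl X β = ∑ i, β i * m ⬝ᵥ X.cor (sr i) := by
  rw [cl, dotProduct_sum]
  exact Finset.sum_congr rfl fun i _ => by rw [dotProduct_smul, X.cor_sr]; rfl

theorem sym1 (h : LS X) (β : X.I → ℤ) {a : X.I → ℤ} (ha : X.Rt a) : X.wt β ⬝ᵥ X.cor a = X.wt a ⬝ᵥ cl X β := by
  rw [wt_eq, dot_cl]
  exact Finset.sum_congr rfl fun i _ => by rw [h.sl _ _ (rs i) ha]

theorem sym2 (h : LS X) (β γ : X.I → ℤ) : X.wt β ⬝ᵥ cl X γ = X.wt γ ⬝ᵥ cl X β := by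
  rw [dot_cl, wt_eq γ]
  exact Finset.sum_congr rfl fun i _ => by rw [sym1 h β (rs i)]

/-- the invariant form -/
noncomputable def Bf (h : LS X) (u v : X.R → ℤ) : ℤ := X.wt (h.q u).choose ⬝ᵥ v

section form

variable (h : LS X) (u v x : X.R → ℤ) {a : X.I → ℤ}

theorem Bf_comm : Bf h u v = Bf h v u := by
  have := sym2 h (h.q u).choose (h.q v).choose
  rwa [← (h.q u).choose_spec, ← (h.q v).choose_spec] at this

theorem Bf_add : Bf h u (v + x) = Bf h u v + Bf h u x := dotProduct_add _ _ _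

theorem add_Bf : Bf h (u + v) x = Bf h u x + Bf h v x := by rw [Bf_comm, Bf_add, Bf_comm h x, Bf_comm h x]

theorem Bf_smul (m : ℤ) : Bf h u (m • v) = m * Bf h u v := dotProduct_smul _ _ _

theorem smul_Bf (m : ℤ) : Bf h (m • u) v = m * Bf h u v := by rw [Bf_comm, Bf_smul, Bf_comm]

theorem Bf_neg : Bf h u (-v) = -Bf h u v := dotProduct_neg _ _

theorem Bf_cor (ha : X.Rt a) : Bf h u (X.cor a) = X.wt a ⬝ᵥ u := by
  rw [Bf, sym1 h _ ha, ← (h.q u).choose_spec]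

theorem Bf_sq : Bf h (u + v) (u + v) = Bf h u u + 2 * Bf h u v + Bf h v v := by
  rw [add_Bf, Bf_add, Bf_add, Bf_comm h v u]; ring

theorem Bf_inv (w : X.W) : Bf h (X.Wm w *ᵥ u) (X.Wm w *ᵥ v) = Bf h u v := by
  obtain ⟨β, rfl⟩ := h.q v
  rw [Bf, dotProduct_mulVec, dot_cl, Bf, dot_cl]
  refine Finset.sum_congr rfl fun i _ => congrArg _ ?_
  rw [← dotProduct_mulVec, ← X.cor_act w (rs i)]
  exact (Bf_cor h _ ((rs i).act w)).trans (by rw [dotProduct_mulVec, X.wt_act]; exact (Bf_cor h u (rs i)).symm)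

theorem Bf_span {μ : X.R → ℤ} (hμ : μ ∈ Submodule.span ℤ (X.cor '' Rn X 2 u)) : 2 ∣ Bf h u μ := by
  induction hμ using Submodule.span_induction with
  | mem _ hv =>
    obtain ⟨a, ha, rfl⟩ := hv
    exact Bf_cor h u ha.1 ▸ ha.2
  | zero => rw [Bf, dotProduct_zero]; exact dvd_zero _
  | add _ _ _ _ h5 h6 => exact Bf_add h u _ _ ▸ h5.add h6
  | smul m _ _ h5 => exact Bf_smul h u _ m ▸ h5.mul_left m

end form

theorem ns_four (h : L8 X) {u : X.R → ℤ} (hu : Ns X u) : 4 ∣ Bf h.toLS u u - 2 := by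
  obtain ⟨a, ha, e⟩ := hu
  choose y hy using h.ev _ e
  rw [show u = X.cor a + (2 : ℤ) • y from funext fun r => by
      have := hy r
      simp only [Pi.sub_apply, Pi.add_apply, Pi.smul_apply, smul_eq_mul] at this ⊢
      omega, Bf_sq, Bf_cor _ _ ha, show X.wt a ⬝ᵥ X.cor a = 2 from pr_self ha, Bf_smul, Bf_smul, smul_Bf]
  omega

theorem four_of (h : L8 X) (h0 : ∃ a, X.Rt a) {u : X.R → ℤ} (hu : ¬ Ns X u) : 4 ∣ Bf h.toLS u u := by
  obtain ⟨a, ha, e⟩ : ∃ a, X.Rt a ∧ 2 ∣ X.wt a ⬝ᵥ u := by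
    by_contra! h1
    obtain ⟨a, ha⟩ := h0
    refine h.nz a ha fun c hc => by_contra fun h2 => h1 _ (hc.act (X.rf a)) ?_
    have h3 := h1 a ha
    have h4 := h1 c hc
    change 2 ∣ X.wt (X.act (X.rf a) c) ⬝ᵥ u
    rw [X.act_rf ha, ← pr_eq ha, map_sub, map_zsmul, sub_dotProduct, smul_dotProduct, smul_eq_mul]
    rw [← even_iff_two_dvd, Int.not_even_iff_odd] at h2 h3 h4
    exact (h4.sub_odd (h2.mul h3)).two_dvd
  have h1 := ns_four h ((h.qf1 a u ha e).resolve_left hu)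
  rw [Bf_sq, Bf_cor _ _ ha, Bf_cor _ _ ha, show X.wt a ⬝ᵥ X.cor a = 2 from pr_self ha] at h1
  omega

/-- **the lattice statement** -/
theorem lat (h : L8 X) (hP : P8 X) {u v μ ν η : X.R → ℤ} {w : X.W} (hu : Pu X ![u])
    (k2 : X.Wm w *ᵥ (v + ν) = v + ν) (k3 : X.Wm w *ᵥ μ = -μ) (n1 : ¬ Ns X u) (n2 : ¬ Ns X v)
    (n3 : ¬ Ns X (u + v)) (n4 : ¬ Ns X η) (n5 : ¬ Ns X (η + (u + μ))) (n6 : ¬ Ns X (η + (v + ν)))
    (n7 : ¬ Ns X (η + (u + μ + (v + ν)))) : ν ∈ Submodule.span ℤ (X.cor '' Rn X 2 u) := by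
  have h1 : ¬ Ev X u := fun e => by simpa using (hu fun _ => 1).2 (by simpa using e) 0
  obtain ⟨c, hc, h2⟩ : ∃ c, X.Rt c ∧ ¬ 2 ∣ X.wt c ⬝ᵥ u := by_contra fun e => h1 fun c hc => by_contra fun e' => e ⟨c, hc, e'⟩
  have f := fun v => four_of h ⟨c, hc⟩ (u := v)
  have m1 := f _ n1
  have m2 := f _ n2
  have m3 := f _ n3
  have m4 := f _ n4
  have m5 := f _ n5
  have m6 := f _ n6
  have m7 := f _ n7
  have e2 := Bf_inv h.toLS (v + ν) μ w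
  rw [k2, k3, Bf_neg] at e2
  rw [Bf_sq] at m3 m5 m6
  rw [Bf_sq, Bf_sq _ (u + μ), Bf_add _ η] at m7
  have e3 : Bf h.toLS (u + μ) (v + ν) = Bf h.toLS u v + Bf h.toLS u ν + Bf h.toLS (v + ν) μ := by
    rw [add_Bf, Bf_add, Bf_comm _ μ]
  have h3 : 2 ∣ Bf h.toLS u ν := by omega
  refine (hP.p1 u hu ν (X.cor c)).elim id fun e => (h2 (e.elim (fun e => ?_) fun e => ?_)).elim
  · exact Bf_cor h.toLS u hc ▸ Bf_span _ u e
  · have := Bf_span h.toLS u e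
    rw [Bf_add, Bf_cor _ _ hc] at this
    omega

/-! ### involutions in the normaliser of the torus -/

section nrm

variable (hp : p ≠ 2) {w : X.W} {n : Y} (hn : X.Rp w n) (h2 : n * n = 1)
include hp hn

omit hp in
/-- vectors fixed by the Weyl element -/
theorem mem_of_fix {u v : X.R → ℤ} (k1 : X.Wm w *ᵥ u = u) (k2 : X.Wm w *ᵥ v = v) {H : Subgroup X.W}
    (hH : ∀ a, X.Rt a → 2 ∣ X.wt a ⬝ᵥ u → 2 ∣ X.wt a ⬝ᵥ v → X.rf a ∈ H) : w ∈ H := by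
  obtain ⟨M, hM⟩ := ((fin_of_rt (X := X) (Ψ := {a | X.Rt a}) fun _ h => h).image fun a => |X.wt a ⬝ᵥ u|).bddAbove
  have h0 : 0 < |M| + 1 := by positivity
  refine stab_vec X (n := 2 * (|M| + 1)) (by positivity) (v := u + (|M| + 1) • v) (β := 0)
    (by rw [mulVec_add, mulVec_smul, k1, k2, cl_zero, smul_zero, add_zero]) fun a ha hd => ?_
  rw [dotProduct_add, dotProduct_smul, smul_eq_mul] at hd
  have h1 : X.wt a ⬝ᵥ u = 0 := Int.eq_zero_of_abs_lt_dvd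
    ((Int.dvd_add_left (dvd_mul_right _ _)).1 ((dvd_mul_left _ _).trans hd))
    (((hM ⟨a, ha, rfl⟩).trans (le_abs_self M)).trans_lt (lt_add_one _))
  rw [h1, zero_add, mul_comm 2, mul_dvd_mul_iff_left h0.ne'] at hd
  exact hH a ha (h1 ▸ dvd_zero _) hd

theorem mem_cen_one {v : X.R → ℤ} {γ : X.I → ℤ} (h : X.Wm w *ᵥ v = v + (2 : ℤ) • cl X γ) : n ∈ X.cen {tv X v} :=
  (mem_WZ X hn).1 (stab_vec X two_pos h fun d hd e => rf_mem_WZ X d ⟨hd, fun _ e' => e' ▸ (χ_tv hp d v).2 e⟩)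

theorem mem_cen_two (h : LS X) {u v ν : X.R → ℤ} (hc : n * tv X u = tv X u * n) (k0 : X.Wm w *ᵥ v = v + (2 : ℤ) • ν)
    (h5 : ν ∈ Submodule.span ℤ (X.cor '' Rn X 2 u)) : n ∈ X.cen {tv X u, tv X v} := by
  obtain ⟨m, hm, h3⟩ := X.amb.exists_pow_fix fun _ : Unit => tv X u
  have hZ := Set.singleton_subset_iff.2 (tv_mem (X := X) u)
  have hF := fun d => (X.pow hm).g_mem_Sz hZ (a := d) fun _ e => e ▸ h3 ()
  rw [show Rn X 2 u = X.Sz {tv X u} from Set.ext fun d => and_congr_right fun _ =>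
    (χ_tv hp d u).symm.trans ⟨fun h _ e => e ▸ h, fun h => h _ rfl⟩] at h5
  obtain ⟨γ, e⟩ := P4.span_cl (X := X.pow hm) hZ hF h5
  obtain ⟨w', hn'⟩ := ((X.pow hm).sub_NN hZ hF rfl).ge ⟨⟨w, hn⟩, mem_cen h.pi1 (tv_mem u) ((sq _).trans (tv_sq u))
    (Nat.coprime_one_right _) (Datum.Rp.mem_G hn) hc⟩
  have h7 : ((X.pow hm).sub hZ hF rfl).Wm w' = X.Wm w :=
    mon_inj (k := k) fun s => X.τ_inj ((((X.pow hm).sub hZ hF rfl).conj_τ hn' s).symm.trans (X.conj_τ hn s))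
  have h8 := mem_cen_one (X := (X.pow hm).sub hZ hF rfl) hp hn' (v := v) (γ := γ) (by rw [h7, ← e]; exact k0)
  rw [RL.sub_cen, Set.union_comm] at h8
  exact h8

include h2

theorem exists_mu {u : X.R → ℤ} (hc : n * tv X u = tv X u * n) :
    ∃ μ, X.Wm w *ᵥ u = u + (2 : ℤ) • μ ∧ X.Wm w *ᵥ μ = -μ ∧ X.Wm w *ᵥ (u + μ) = u + μ := by
  have h1 : tv X (X.Wm w *ᵥ u - u) = 1 := by rw [tv_sub, ← conj_tv hn, hc, mul_inv_cancel_right, tv_sq]
  choose μ hμ using (tv_eq_one hp).1 h1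
  have h3 : X.Wm w *ᵥ u = u + (2 : ℤ) • μ := sub_eq_iff_eq_add'.1 (funext hμ)
  have h4 := congrArg (X.Wm w *ᵥ ·) h3
  simp only [mulVec_mulVec, ← X.Wm_mul, X.rp_unique (w' := 1) (hn.mul hn) (by rw [h2]; exact rp_one), X.Wm_one, one_mulVec] at h4
  rw [mulVec_add, mulVec_smul, h3] at h4
  have h5 : X.Wm w *ᵥ μ = -μ := funext fun r => by
    have := congrFun h4 r
    simp only [Pi.add_apply, Pi.smul_apply, smul_eq_mul, Pi.neg_apply] at this ⊢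
    omega
  exact ⟨μ, h3, h5, by rw [mulVec_add, h3, h5]; module⟩

omit hp in
theorem rt_mu {u μ : X.R → ℤ} (hμ : X.Wm w *ᵥ μ = -μ) (h : RT X (n * tv X (u + μ))) : RT X (n * tv X u) := by
  obtain ⟨i, hi⟩ := exists_zpow_eq (k := k) two_ne_zero (-1)
  have h1 := X.conj_τ hn (coch μ i)
  rw [mon_coch, hμ, show coch (-μ) i = (coch μ i)⁻¹ from funext fun _ => zpow_neg _ _, map_inv] at h1
  have h3 : X.τ (coch μ i) * X.τ (coch μ i) = tv X μ := by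
    rw [← map_mul, ← coch_add, ← two_smul ℤ, coch_zsmul, hi, tv]
  refine RT.of_conj (X.T_le_G (X.τ_mem (coch μ i))) ?_
  rwa [← h1, show n * X.τ (coch μ i) * n⁻¹ * (n * tv X u) * X.τ (coch μ i) = n * (X.τ (coch μ i) * tv X u * X.τ (coch μ i)) by
    group, X.T_comm (X.τ_mem _) (tv_mem u), mul_assoc (tv X u), h3, ← tv_add]

end nrm

theorem pu1 (hp : p ≠ 2) (h : L8 X) {u : X.R → ℤ} (h0 : ¬ RT X 1) (h1 : ¬ RT X (tv X u)) (h2 : tv X u ≠ 1) : Pu X ![u] := by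
  have e : ∀ ε : Fin 1 → ℤ, (2 ∣ ε 0 ∧ tv X (∑ i, ε i • ![u] i) = 1) ∨ tv X (∑ i, ε i • ![u] i) = tv X u := fun ε => by
    rw [Fin.sum_univ_one, tv_zsmul, cons_val_zero]
    obtain ⟨i, hi | hi⟩ := Int.even_or_odd' (ε 0)
    · exact .inl ⟨⟨i, hi⟩, by rw [hi, _root_.zpow_mul, zpow_ofNat, sq, tv_sq, _root_.one_zpow]⟩
    · exact .inr (by rw [hi, _root_.zpow_add, _root_.zpow_mul, zpow_ofNat, sq, tv_sq, _root_.one_zpow, one_mul,
        _root_.zpow_one])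
  refine fun ε => ⟨fun e1 => ?_, fun e1 => Fin.forall_fin_one.2 ?_⟩
  · have := (h.rt_iff hp).2 e1
    exact (e ε).elim (fun e => h0 (e.2 ▸ this)) fun e => h1 (e ▸ this)
  · exact ((e ε).resolve_right fun e => h2 (e.symm.trans (tv_of_dvd (h.ev _ e1)))).1

theorem sq_cj {V : Subgroup Y} (h2 : ∀ v ∈ V, v * v = 1) (g : Y) : ∀ v ∈ cj g V, v * v = 1 := fun _ hv =>
  Ev.cj_eq_one.1 ((Ev.cj_mul' _ _ _).trans (h2 _ (mem_cj.1 hv)))

theorem pure_cj {V : Subgroup Y} (hV : Pure X V) {g : Y} (hg : g ∈ G) : Pure X (cj g V) := fun _ hv e =>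
  hV _ (mem_cj.1 hv) (e.conj hg)

variable (hp : p ≠ 2) (h : L8 X) (hP : P8 X) {V : Subgroup Y} (h2 : ∀ v ∈ V, v * v = 1) (hV : Pure X V) {a b c : Y}
  (ha : a ∈ V) (hb : b ∈ V) (hc : c ∈ V) (a1 : a ≠ 1) (aT : a ∈ X.T) (bT : b ∈ X.T)
include hp h hP h2 hV ha hb hc a1 aT bT

/-- **the main step** -/
theorem main (hN : c ∈ X.NN) : c ∈ X.cen {a, b} := by
  obtain ⟨u, rfl⟩ := exists_inv aT (h2 a ha)
  obtain ⟨v, rfl⟩ := exists_inv bT (h2 b hb)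
  obtain ⟨w, hn⟩ := id hN
  obtain ⟨μ, -, k3, k1⟩ := exists_mu hp hn (h2 c hc) (comm_of_sq h2 hc ha)
  obtain ⟨ν, k0, k4, k2⟩ := exists_mu hp hn (h2 c hc) (comm_of_sq h2 hc hb)
  have hZ' : ({tv X (u + μ), tv X (v + ν)} : Set Y) ⊆ X.T := Set.insert_subset (tv_mem _) (Set.singleton_subset_iff.2 (tv_mem _))
  obtain ⟨g, hg, g1, g2⟩ := Ev.step hp hZ' (Set.toFinite _) ((mem_WZ X hn).1 (mem_of_fix hn k1 k2 fun d hd e1 e2 =>
    rf_mem_WZ X d ⟨hd, by rintro _ (rfl | rfl); exacts [(χ_tv hp _ _).2 e1, (χ_tv hp _ _).2 e2]⟩)) (j := 1)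
    ((sq c).trans (h2 c hc))
  obtain ⟨η, hη⟩ := exists_inv g1 ((Ev.cj_mul' _ _ _).symm.trans (by rw [h2 c hc, mul_one, inv_mul_cancel]))
  have f : ∀ x y : X.R → ℤ, tv X x ∈ V → X.Wm w *ᵥ y = -y → g⁻¹ * tv X (x + y) * g = tv X (x + y) → ¬ Ns X (η + (x + y)) :=
    fun x y hx hy e e1 => hV _ (mul_mem hc hx) (rt_mu hn (h2 c hc) hy (RT.of_conj hg (by
      rw [Ev.cj_mul', hη, e, ← tv_add]
      exact (h.rt_iff hp).2 e1)))
  have h5 := lat h hP (pu1 hp h (hV 1 (one_mem _)) (hV _ ha) a1) k2 k3 (fun e => hV _ ha ((h.rt_iff hp).2 e))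
    (fun e => hV _ hb ((h.rt_iff hp).2 e)) (fun e => hV _ (mul_mem ha hb) (tv_add u v ▸ (h.rt_iff hp).2 e))
    (fun e => hV _ hc (RT.of_conj hg (hη ▸ (h.rt_iff hp).2 e))) (f u μ ha k3 (g2 _ (.inl rfl))) (f v ν hb k4 (g2 _ (.inr rfl)))
    (add_add_add_comm u v μ ν ▸ f (u + v) (μ + ν) (tv_add u v ▸ mul_mem ha hb) (by rw [mulVec_add, k3, k4, neg_add]) (by
      rw [add_add_add_comm, tv_add, Ev.cj_mul', g2 _ (.inl rfl), g2 _ (.inr rfl)]))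
  exact mem_cen_two hp hn h.toLS (comm_of_sq h2 hc ha) k0 h5

theorem cen_of (hG : V ≤ G) : c ∈ X.cen {a, b} := by
  have hZ := Set.insert_subset aT (Set.singleton_subset_iff.2 bT)
  obtain ⟨y, hy, hN⟩ := norm_tor hp hZ (Set.toFinite _) (hG hc)
    (by rintro _ (rfl | rfl); exacts [comm_of_sq h2 ha hc, comm_of_sq h2 hb hc]) (h2 c hc)
  have h3 := X.cen_le_centralizer hZ (inv_mem hy)
  have h4 : ∀ z ∈ V, z ∈ ({a, b} : Set Y) → z ∈ cj y⁻¹ V := fun z hz e => mem_cj.2 (by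
    rwa [mul_assoc, h3 z e, inv_mul_cancel_left])
  have h5 := main hp h hP (sq_cj h2 y⁻¹) (pure_cj hV (inv_mem (X.cen_le_G _ hy))) (h4 a ha (.inl rfl)) (h4 b hb (.inr rfl))
    (c := y⁻¹ * c * y) (mem_cj.2 (by simpa [mul_assoc] using hc)) a1 aT bT hN
  simpa [mul_assoc] using mul_mem (mul_mem hy h5) (inv_mem hy)

omit ha hb hc a1 aT bT in
/-- **pure subgroups of order eight are toral** -/
theorem toral (hG : V ≤ G) (h8 : Nat.card V = 8) : ∃ g ∈ G, ∀ v ∈ V, g⁻¹ * v * g ∈ X.T := by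
  obtain ⟨φ, e, h3⟩ := exists_hom V h2 (n := 3) h8
  have h4 : ∀ x, φ x ∈ V := fun x => e ▸ ⟨x, rfl⟩
  have h5 : ∀ x, φ x ^ 2 ^ 1 = 1 := fun x => (sq _).trans (h2 _ (h4 x))
  obtain ⟨g, hg, a1, a2⟩ := Ev.Q2.tor_two h.pi1 (Nat.coprime_one_right 2) hp (hG (h4 (ofAdd (Pi.single 0 1))))
    (hG (h4 (ofAdd (Pi.single 1 1)))) (h5 _) (h5 _) (comm_of_sq h2 (h4 _) (h4 _))
  have h6 : ∀ x, g⁻¹ * φ x * g ∈ cj g⁻¹ V := fun x => mem_cj.2 (by simpa [mul_assoc] using h4 x)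
  have h7 := cen_of hp h hP (sq_cj h2 g⁻¹) (pure_cj hV (inv_mem hg)) (h6 _) (h6 _) (h6 (ofAdd (Pi.single 2 1)))
    (fun e => by simpa using h3 _ (Ev.cj_eq_one.1 e) 0) a1 a2 fun v hv => by
      simpa [mul_assoc] using mul_mem (mul_mem (inv_mem hg) (hG (mem_cj.1 hv))) hg
  obtain ⟨c, b1, b2, b3⟩ := Ev.step hp (Set.insert_subset a1 (Set.singleton_subset_iff.2 a2)) (Set.toFinite _) h7
    (Ev.conj_pow' (h5 _))
  have h9 := le_of_basis φ (K := cj (g * c) X.T) fun i => by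
    rw [mem_cj, show ∀ z, (g * c)⁻¹ * z * (g * c) = c⁻¹ * (g⁻¹ * z * g) * c from fun _ => by group]
    fin_cases i
    · exact (b3 _ (.inl rfl)).symm ▸ a1
    · exact (b3 _ (.inr rfl)).symm ▸ a2
    · exact b2
  exact ⟨_, mul_mem hg b1, fun v hv => mem_cj.1 (h9 (e ▸ hv))⟩

end P3n

end Cfsg.Agent.BH.R2
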