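import Cfsg.Agent.BH.Row2L.Defs
import Cfsg.Agent.BH.RowO.R8
import Cfsg.Agent.BH.RowE.OutL
import Cfsg.Agent.KM.Two.X3
import Cfsg.Agent.H259.NatMod
import Cfsg.Agent.TO.CovA

/-!
# BH (S4524), the prime `2`: the rows of the linear and unitary groups (helper99)

`row_psl`, `row_psu`.
-/

set_option autoImplicit false
set_option linter.unusedSectionVars false

namespace Cfsg.Agent.BH.R2

open Cfsg Matrix Cfsg.Agent.TO Cfsg.Agent.TO.LU Cfsg.Agent.BHZ.Nil Cfsg.Agent.ClassicalGeometry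
open Cfsg.Agent.BH.RO.R8 (Sy Idc exists_act eq_one_of syL syU)
open Cfsg.Agent.KM.Sp (LocA NoA)

namespace RowA

theorem nil_equiv {A B : Type} [Group A] [Group B] [Finite A] (e : A ≃* B) (h : Nil B) : Nil A := fun M b P θ hc g hg => by
  refine (Cov.mem_Ce_map e.toMonoidHom e.injective).1 (h M _ _ _ (Cov.can_map e hc) ⟨fun x => ?_, fun x => ?_⟩)
  · obtain ⟨x, rfl⟩ := e.surjective x
    have h1 : ∀ y, e y ∈ P.map e.toMonoidHom ↔ y ∈ P := fun y => Subgroup.mem_map_iff_mem (f := e.toMonoidHom) e.injective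
    rw [h1, ← hg.1 x, ← h1]
    simp
  · exact (congrArg θ (by simp)).trans (hg.2 (e.symm x))

theorem arith {n a s P q : ℕ} (hn : 2 ≤ n) (ha : 0 < a) (hs : 0 < s) (h : Nat.gcd n a * (a * s) = P) (hP : a ^ n ∣ P)
    (hq : q ∣ P) (hc : Nat.Coprime q a) (h2 : ¬ 2 ∣ q) (h1 : q ≠ 1) (m k : ℕ) (hm : m ∣ a) (hm2 : ¬ 2 ∣ m)
    (hk : 2 ^ k ∣ s) : m * 2 ^ k < s := by
  have h3 : a ∣ 2 * s := by
    rcases hn.eq_or_lt with rfl | hn
    · refine Nat.dvd_of_mul_dvd_mul_left ha ?_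
      rw [← sq, mul_left_comm]
      exact (h ▸ hP).trans (Nat.mul_dvd_mul_right (Nat.gcd_dvd_left _ _) _)
    · refine Dvd.dvd.mul_left (Nat.dvd_of_mul_dvd_mul_left ha (Nat.dvd_of_mul_dvd_mul_left ha ?_)) 2
      rw [← sq, ← pow_succ']
      exact ((pow_dvd_pow a hn).trans (h ▸ hP)).trans (Nat.mul_dvd_mul_right (Nat.gcd_dvd_right _ _) _)
  have h4 : Nat.Coprime m 2 := (Nat.prime_two.coprime_iff_not_dvd.2 hm2).symm
  have h5 : m * 2 ^ k ∣ s := (h4.pow_right k).mul_dvd_of_dvd_of_dvd (h4.dvd_of_dvd_mul_left (hm.trans h3)) hk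
  have h6 : q ∣ s := hc.dvd_of_dvd_mul_left
    ((hc.coprime_dvd_right (Nat.gcd_dvd_right n a)).dvd_of_dvd_mul_left (h ▸ hq))
  refine (Nat.le_of_dvd hs h5).lt_of_ne fun e => h1 ?_
  exact ((hc.coprime_dvd_right hm).mul_right
    ((Nat.prime_two.coprime_iff_not_dvd.2 h2).symm.pow_right k)).eq_one_of_dvd (e ▸ h6)

variable {F : Type} [Field F] [Fintype F] {n l : ℕ} {G X : Type} [Group G] [Group X]
  {ι : G →* (Mt n F)ˣ} {π : G →* X} {Γ : Subgroup (Mt n F)ˣ} {μ : Subgroup Fˣ}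

/-- the over group -/
theorem ova (S : Sy l ι π Γ μ) (hN : Nil Γ) (h2 : ((2 : ℕ) : F) ≠ 0) (hΓ : CutClosed 2 F Γ) (hL : ∃ R, KM.A.Lin F Γ R)
    (hz : ∀ A : Γ, (Idc ι π 1 fun x => A * x * (A : (Mt n F)ˣ)⁻¹) → ∃ c : F, A.1.1 = c • 1) {a : ℕ} (hμ : ∀ c ∈ μ, c ^ a = 1)
    (hb : ∀ m k, m ∣ a → ¬ 2 ∣ m → 2 ^ k ∣ Nat.card X → m * 2 ^ k < Nat.card X) {K : Type} [Group K] [Finite K]
    {σ : K →* X} {M : Ideal AlgInt} {b : Set (IrrCharacter K)} {Q : Subgroup K} {θ : K → ℂ} (H : QHyp 2 M b Q θ σ)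
    (ψ : G →* K) (s1 : Function.Surjective ψ) (s2 : ∀ g, σ (ψ g) = π g) :
    ∃ p act, OvA (K := K) (GeneralLinearGroup.det.comp Γ.subtype).ker p act := by
  have : Fact (Nat.Prime 2) := ⟨Nat.prime_two⟩
  obtain ⟨dg, hd⟩ := S.exists_dg
  obtain ⟨k, hk⟩ : ∃ k : G →* Γ, k = ι.codRestrict Γ S.mem := ⟨_, rfl⟩
  have k0 : ∀ g, (k g).1 = ι g := fun g => by rw [hk]; rfl
  have k1 : ∀ x : Γ, GeneralLinearGroup.det x.1 = 1 → ∃ g, k g = x := fun x hx =>
    (S.ex x x.2 (congrArg Units.val hx)).imp fun g e => Subtype.ext ((k0 g).trans e)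
  have k2 : ∀ g, k g ∈ (GeneralLinearGroup.det.comp Γ.subtype).ker := fun g =>
    show GeneralLinearGroup.det (k g).1 = 1 by rw [k0, S.det1]
  have k3 : Function.Surjective (k.codRestrict _ k2) := fun x => (k1 x x.2).imp fun _ => Subtype.ext
  have k4 : ∀ g, k g = 1 → ψ g = 1 := fun g e => by
    rw [S.inj (a₁ := g) (a₂ := 1) (by rw [← k0, e, map_one]; rfl), map_one]
  have k5 : ∀ g, π g = 1 → k g ∈ Subgroup.center Γ := fun g e => hk ▸ S.cen e
  have k6 : ∀ g, ψ g = 1 → π g = 1 := fun g e => by rw [← s2, e, map_one]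
  have k7 : ∀ (x : Γ) (g g' : G), ι g' = x * ι g * x.1⁻¹ → k g' = x * k g * x⁻¹ := fun x g g' e =>
    Subtype.ext (by rw [k0, e, ← k0]; rfl)
  obtain ⟨act, ha⟩ := exists_act k ψ s1 (fun x g => (S.exists_conj x.2 g).imp (k7 x g)) k4 fun g e => k5 g (k6 g e)
  obtain ⟨p, hp⟩ : ∃ p : (GeneralLinearGroup.det.comp Γ.subtype).ker →* K, ∀ g, p (k.codRestrict _ k2 g) = ψ g :=
    ⟨MonoidHom.liftOfSurjective _ k3 ⟨ψ, fun g e => k4 g (congrArg Subtype.val e)⟩,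
      fun g => MonoidHom.liftOfRightInverse_comp_apply _ _ _ _ g⟩
  obtain ⟨f, f1, f2, -⟩ := H.exists_dn
  have f3 : ∀ x : Γ, f (act x) = dg x := fun x => MulEquiv.ext fun y => by
    obtain ⟨g, rfl⟩ := S.surj y
    obtain ⟨g', e1, e2⟩ := hd x g
    rw [← e1, ← s2, ← f1, ← ha _ g g' (k7 x g g' e2), s2]
  have f4 : act.range = dg.range.comap f := by
    ext γ
    exact ⟨fun ⟨x, e⟩ => ⟨x, by rw [← e, f3]⟩, fun ⟨x, e⟩ => ⟨x, f2 ((f3 x).trans e)⟩⟩
  refine ⟨p, act, fun y => ?_, fun x e => ?_,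
    isCyclic_of_surjective _ (QuotientGroup.quotientKerEquivRange _).symm.surjective, fun h x x' e => ?_, fun x e => ?_,
    fun x z hz => ?_, fun α β hβ => ?_, hN, fun y R P hP hA => ?_, fun m j hm h3 h4 => ?_⟩
  · obtain ⟨g, rfl⟩ := s1 y
    exact ⟨_, hp g⟩
  · obtain ⟨g, rfl⟩ := k3 x
    exact k5 g (k6 g ((hp g).symm.trans e))
  · obtain ⟨g, rfl⟩ := k3 x
    obtain ⟨g', rfl⟩ := k3 x'
    rw [hp, hp]
    exact ha h g g' e
  · obtain ⟨c, hc⟩ := hz x (by have := hd x; rwa [← f3, e, map_one] at this)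
    exact Subgroup.mem_center_iff.2 fun y => Subtype.ext (Units.ext (show y.1.1 * x.1.1 = x.1.1 * y.1.1 by simp [hc]))
  · obtain ⟨g, rfl⟩ := s1 z
    refine (ha x g g ?_).symm
    rw [Subgroup.mem_center_iff.1 (k5 g (by rwa [← H.ker, MonoidHom.mem_ker, s2] at hz)) x, mul_inv_cancel_right]
  · rw [f4] at hβ ⊢
    exact ((S.dg_normal hd).comap f).conj_mem β hβ α
  · have h0 : (P.subgroupOf (GeneralLinearGroup.det.comp Γ.subtype).ker).map p = (P.comap k).map ψ := by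
      ext x
      refine ⟨fun ⟨u, hu, e⟩ => ?_, fun ⟨g, hg, e⟩ => ⟨k.codRestrict _ k2 g, hg, (hp g).trans e⟩⟩
      obtain ⟨g, rfl⟩ := k3 u
      exact ⟨g, hu, (hp g).symm.trans e⟩
    rw [h0] at hA ⊢
    have h3 : IsPGroup 2 (P.map Γ.subtype) := hP ▸ (R.isPGroup'.map _).map _
    have h4 : ∀ x, x ∈ P.comap k ↔ ι x ∈ P.map Γ.subtype := fun x => by
      rw [← k0]
      exact (Subgroup.mem_map_iff_mem (f := Γ.subtype) Γ.subtype_injective (x := k x)).symm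
    have h5 : P.map Γ.subtype ≤ Γ ⊓ Subgroup.centralizer {(y : (Mt n F)ˣ)} := by
      rw [hP]
      rintro _ ⟨_, ⟨x, -, rfl⟩, rfl⟩
      exact ⟨x.1.2, Subgroup.mem_centralizer_singleton_iff.2
        (congrArg Subtype.val (Subgroup.mem_centralizer_singleton_iff.1 x.2))⟩
    have h6 : ∀ x ∈ P.map Γ.subtype ⊓ GeneralLinearGroup.det.ker, ∃ x', ι x' = x := fun x hx =>
      S.ex x (h5 hx.1).1 (congrArg Units.val (MonoidHom.mem_ker.1 hx.2))
    have h7 : ∀ x, ι x ∈ P.map Γ.subtype → ι x ∈ (KM.A.sc F _).range → ψ x = 1 := fun x hx h => by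
      obtain ⟨m, hm⟩ := h3 ⟨_, hx⟩
      have e4 : ψ x ∈ Subgroup.center K := Subgroup.mem_center_iff.2 fun g => by
        obtain ⟨g, rfl⟩ := s1 g
        rw [← map_mul, ← map_mul, S.inj (a₁ := g * x) (a₂ := x * g) (by
          rw [map_mul, map_mul, (KM.A.comm_of_mem h _).eq])]
      refine eq_one_of Nat.prime_two H.zp (congrArg Subtype.val (pow_card_eq_one' (x := (⟨_, e4⟩ : Subgroup.center K))))
        (k := m) ?_
      rw [← map_pow, S.inj (a₁ := x ^ 2 ^ m) (a₂ := 1) (by rw [map_pow, map_one]; exact congrArg Subtype.val hm), map_one]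
    obtain ⟨T, L⟩ := hL
    rcases KM.A.sylow_or (S := GeneralLinearGroup.det.ker) h2 (hΓ.inf_centralizer {(y : (Mt n F)ˣ)})
      (Subgroup.commutator_le.2 fun a _ b _ => by
        rw [MonoidHom.mem_ker, map_commutatorElement, commutatorElement_eq_one_iff_mul_comm, mul_comm])
      (KM.A.gen_two (L.inf _)) h5 h3 (hP ▸ KM.A.sylow_max y R)
      (fun a ha b hb aS bS => by
        obtain ⟨a, rfl⟩ := h6 a ⟨ha, aS⟩
        obtain ⟨b, rfl⟩ := h6 b ⟨hb, bS⟩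
        obtain ⟨c, -, e⟩ := (S.ker (a * b * a⁻¹ * b⁻¹)).1 (k6 _ (by
          rw [map_mul, map_mul, map_mul, hA _ ⟨a, (h4 a).2 ha, rfl⟩ _ ⟨b, (h4 b).2 hb, rfl⟩, map_inv, map_inv]
          group))
        exact ⟨c, by rw [← map_inv, ← map_inv, ← map_mul, ← map_mul, ← map_mul, e]; rfl⟩) with h | ⟨a, ha, b, hb, h8, h9, h⟩
    · exact Or.inl ⟨⟨fun a b => Subtype.ext (Subtype.ext
        (Subtype.ext_iff.1 (h.is_comm.comm ⟨_, a, a.2, rfl⟩ ⟨_, b, b.2, rfl⟩) :))⟩⟩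
    · obtain ⟨a, rfl⟩ := h6 a ha
      obtain ⟨b, rfl⟩ := h6 b hb
      refine Or.inr (KM.A.card_le_sq (l := 2) (α := ψ a) (β := ψ b) ?_ ?_ ?_)
      · rw [← map_pow] at h8 ⊢
        exact h7 _ (map_pow ι a 2 ▸ pow_mem ha.1 2) h8
      · rw [← map_pow] at h9 ⊢
        exact h7 _ (map_pow ι b 2 ▸ pow_mem hb.1 2) h9
      · rintro _ ⟨x, hx, rfl⟩
        obtain ⟨i, m, h10⟩ := h (ι x) ⟨(h4 x).1 hx, S.det1 x⟩
        have h11 := mul_mem (mul_mem ((h4 x).1 hx) (pow_mem hb.1 i)) (pow_mem ha.1 m)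
        rw [← map_pow, ← map_pow, ← map_mul, ← map_mul] at h10 h11
        exact ⟨i, m, by rw [← map_pow, ← map_pow, ← map_mul, ← map_mul, h7 _ h11 h10]⟩
  · have h5 : (Subgroup.center K).index = Nat.card X := by
      rw [← H.ker, Subgroup.index_ker, MonoidHom.range_eq_top.2 H.surj, Subgroup.card_top]
    rw [h5] at h4 ⊢
    rw [← Subgroup.index_comap] at hm
    have h6 := hm.trans (Subgroup.index_dvd_of_le (H := (GeneralLinearGroup.det.comp Γ.subtype).ker) fun x hx => by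
      obtain ⟨g, rfl⟩ := k1 x hx
      refine ⟨ψ g, MulEquiv.ext fun y => ?_⟩
      obtain ⟨g', rfl⟩ := s1 y
      rw [MulAut.conj_apply, ← map_inv, ← map_mul, ← map_mul]
      exact ha _ _ _ (by simp))
    rw [Subgroup.index_ker, ← IsCyclic.exponent_eq_card] at h6
    refine hb m j (h6.trans (Monoid.exponent_dvd_of_forall_pow_eq_one ?_)) h3 h4
    rintro ⟨_, x, rfl⟩
    obtain ⟨c, hc, e⟩ := S.detm x x.2
    exact Subtype.ext (show GeneralLinearGroup.det x.1 ^ a = 1 by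
      rw [(Units.ext e : GeneralLinearGroup.det x.1 = c), hμ c hc])

/-- the row in the abstract setting -/
theorem row_of [Finite G] [Finite X] (B : Bx) (h0 : OutC X) (h1 : ∀ Q E Δ, ¬ St (S := X) Q E Δ) (S : Sy l ι π Γ μ)
    (hN : Nil Γ) (h2 : ((2 : ℕ) : F) ≠ 0) (hΓ : CutClosed 2 F Γ) (hL : ∃ R, KM.A.Lin F Γ R)
    (hz : ∀ A : Γ, (Idc ι π 1 fun x => A * x * (A : (Mt n F)ˣ)⁻¹) → ∃ c : F, A.1.1 = c • 1) {a : ℕ} (hμ : ∀ c ∈ μ, c ^ a = 1)
    (hb : ∀ m k, m ∣ a → ¬ 2 ∣ m → 2 ^ k ∣ Nat.card X → m * 2 ^ k < Nat.card X) (hG : commutator G = ⊤)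
    (hk : π.ker = Subgroup.center G) {A : Type} [CommGroup A] [Finite A] (hA : HasSchurMultiplier X A)
    (hc : Nat.card (Subgroup.center G) = Nat.card A) : Row X := fun K _ _ σ M b Q θ H => by
  refine ⟨by_contra fun hn => let ⟨Δ, h⟩ := B.t.ex X K σ M b Q θ H hn; h1 _ _ Δ h, fun A A₀ h3 h4 => ?_⟩
  obtain ⟨ψ, s1, s2⟩ := H95.StemCover.exists_cover' (by
    rw [commutator_def, ← MonoidHom.range_eq_top.2 S.surj, MonoidHom.range_eq_map, ← Subgroup.map_commutator,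
      ← commutator_def, hG]) hA π (H95.StemCover.isStem hG S.surj hk.le) (hk ▸ hc) H.qs.1.commutator_eq_top σ H.surj H.ker.le
  obtain ⟨p, act, h5⟩ := ova S hN h2 hΓ hL hz hμ hb H ψ s1 s2
  rcases B.nc Γ _ X K σ M b Q θ H p act h5 with h | h
  · refine B.v.v4 X K σ M b Q θ H ⟨⊥, bot_le, ?_, fun t _ r hr => ?_⟩ A A₀ h3 (B.v.dl X h0 K σ M b Q θ H A A₀ h3 h4)
    · rw [Subgroup.relIndex_bot_left, (B.t.loc X K σ M b Q θ H).2.1]
      exact h
    · rw [Subgroup.mem_bot.1 hr, mul_one, mul_inv_cancel]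
  · exact .inr (h A h3.stab)

theorem row_small [Finite X] (B : Bx) (h0 : OutC X) (h1 : ∀ Q E Δ, ¬ St (S := X) Q E Δ) (h : NoA 2 4 X) : Row X := by
  have : Fact (Nat.Prime 2) := ⟨Nat.prime_two⟩
  refine B.toPx.row_rk h0 (fun Q hQ => ?_) fun _ _ _ _ _ _ _ _ _ Δ => h1 _ _ Δ
  obtain ⟨k, hk⟩ := hQ.pg.exists_card_eq
  have h2 : k ≤ 3 := by
    by_contra h2
    exact h Q hQ (hk ▸ pow_dvd_pow 2 (by omega))
  refine (Set.ncard_le_ncard (t := Q) fun _ e => e.1).trans ((Nat.card_coe_set_eq _).symm.trans_le ?_)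
  exact hk.trans_le (Nat.pow_le_pow_right two_pos h2)

open Cfsg.Agent.MK.U43.GT Cfsg.Agent.TwoF.XL.U43 in
theorem noA_M : NoA 2 4 M := by
  have : Fact (Nat.Prime 2) := ⟨Nat.prime_two⟩
  refine KM.Two.noA_of_tab tab (fun i => ?_) (KM.Two.not_abS_of_cent (x := tab.x 14) (k := 3) (a := 4) ?_ ?_ ?_)
  · rw [tab_x, ord_rep i.2, tab_c]
    revert i
    decide
  · rw [← orderOf_dvd_iff_pow_eq_one, tab_x, ord_rep (14 : Fin 20).2]
    decide
  · rw [card_M]
    decide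
  · rw [tab.card, tab_c]
    decide

theorem exists_prime (F : Type) [Field F] : ∃ l : ℕ, l.Prime ∧ l ≠ 2 ∧ (l : F) ≠ 0 := by
  by_cases h : ((3 : ℕ) : F) = 0
  · refine ⟨7, by norm_num, by norm_num, fun e => one_ne_zero (α := F) ?_⟩
    push_cast at h e
    linear_combination e - 2 * h
  · exact ⟨3, by norm_num, by norm_num, h⟩

end RowA

open RowA

open AutPSL.Root H199.PslAut in
/-- **the linear groups** -/
theorem row_psl (B : Bx) : RowFor KM.CPsl := by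
  intro S _ _ _ _ hC
  have h0 := outC_psl hC
  obtain ⟨F, _, _, n, hF, hn, h4, ⟨e⟩⟩ := hC
  refine Row.of_equiv e ?_
  replace h0 := OutC.of_equiv e.symm h0
  have : Fact (Nat.Prime 2) := ⟨Nat.prime_two⟩
  have hF' : (2 : F) ≠ 0 := by exact_mod_cast hF
  have h1 := not_dvd_card hF
  have h2 := S0243.result (F := F) rfl n hn
  have h3 := B.nt.psl F n hF' hn h4
  by_cases hexc : (n, Fintype.card F) ∈ ({(2, 4), (2, 9), (3, 2), (3, 4), (4, 2)} : Set (ℕ × ℕ))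
  · simp only [Set.mem_insert_iff, Set.mem_singleton_iff, Prod.mk.injEq] at hexc
    obtain ⟨rfl, h⟩ : n = 2 ∧ Fintype.card F = 9 := by omega
    refine row_small B h0 h3 fun D _ h5 => ?_
    have h6 := h5.trans D.card_subgroup_dvd_card
    rw [h] at h2
    norm_num [Fin.prod_univ_succ] at h2
    omega
  have h5 : 1 < Fintype.card F := Fintype.one_lt_card
  have : NeZero (Nat.gcd n (Fintype.card F - 1)) := ⟨Nat.gcd_ne_zero_left (by omega)⟩
  obtain ⟨n, rfl⟩ : ∃ m, n = m + 1 := ⟨n - 1, by omega⟩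
  refine row_of B h0 h3 (syL hF hn) (nil_equiv Subgroup.topEquiv (B.nil.gl F _ hF')) hF (cutClosed_top hF)
    ⟨_, KM.A.lin_top hF' _⟩ (fun A h => ?_) (a := Fintype.card F - 1) (fun c _ => ?_)
    (arith hn (by omega) Nat.card_pos h2 ?_ (q := Fintype.card F) ?_ ?_ h1 h5.ne') ?_ (QuotientGroup.ker_mk' _)
    (S2086.result rfl _ hn h4 hexc) (by rw [S0280.card_center_SL (by omega), card_mult_zmod])
  · obtain ⟨u, hu⟩ := (Psi_eq_one_iff hn (g := A.1)).1 (MulEquiv.ext fun x => by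
      obtain ⟨g, rfl⟩ := pr_surjective x
      obtain ⟨g', e1, e2⟩ := h g
      rw [← e1, Psi_pr]
      refine congrArg pr (SpecialLinearGroup.toGL_injective ?_)
      rw [e2]
      exact Units.ext rfl)
    exact ⟨u, by rw [hu, coe_scal, scalar_apply, smul_one_eq_diagonal]⟩
  · rw [← Nat.card_eq_fintype_card, ← Nat.card_units, pow_card_eq_one']
  · rw [show (Fintype.card F - 1) ^ (n + 1) = ∏ _i : Fin (n + 1), (Fintype.card F - 1) by simp]
    refine Finset.prod_dvd_prod_of_dvd _ _ fun i _ => ?_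
    have h6 := Nat.sub_dvd_pow_sub_pow (Fintype.card F) 1 (n + 1 - i)
    rw [one_pow] at h6
    rw [show Fintype.card F ^ (n + 1) - Fintype.card F ^ (i : ℕ) =
      Fintype.card F ^ (i : ℕ) * (Fintype.card F ^ (n + 1 - i) - 1) by
        rw [Nat.mul_sub, mul_one, ← pow_add, Nat.add_sub_cancel' i.2.le]]
    exact h6.mul_left _
  · exact (Nat.dvd_sub (dvd_pow_self _ n.succ_ne_zero) (dvd_pow_self _ one_ne_zero)).trans
      (Finset.dvd_prod_of_mem _ (Finset.mem_univ (⟨1, hn⟩ : Fin (n + 1))))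
  · exact (Nat.coprime_self_sub_right h5.le).2 (Nat.coprime_one_right _)
  · rcases hn.eq_or_lt with h | h
    · obtain rfl : n = 1 := by omega
      exact H259.NatMod.commutator_eq_top (h4 rfl)
    · exact S0248.result _ h

open PSUAutBasic PSUAutCount in
/-- **the unitary groups** -/
theorem row_psu (B : Bx) : RowFor KM.CPsu := by
  intro S _ _ _ _ hC
  have h0 := outC_psu hC
  obtain ⟨F, _, _, n, q, hF, hq, hn, h4, ⟨e⟩⟩ := hC
  have := Finite.of_equiv S e.toEquiv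
  refine Row.of_equiv e ?_
  replace h0 := OutC.of_equiv e.symm h0
  have : Fact (Nat.Prime 2) := ⟨Nat.prime_two⟩
  have hF' : (2 : F) ≠ 0 := by exact_mod_cast hF
  have h1 : ¬ 2 ∣ q := fun h => not_dvd_card hF (hq ▸ h.trans (dvd_pow_self q two_ne_zero))
  have h3 := B.nt.psu F n q hF' hq hn
  by_cases hexc : (n, q) ∈ ({(4, 2), (4, 3), (6, 2)} : Set (ℕ × ℕ))
  · simp only [Set.mem_insert_iff, Set.mem_singleton_iff, Prod.mk.injEq] at hexc
    obtain ⟨rfl, rfl⟩ : n = 4 ∧ q = 3 := by omega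
    obtain ⟨e'⟩ := TwoF.XL.U43.iso (F := F) hq
    exact row_small B h0 h3 (noA_M.congr e'.symm)
  have h5 : q ≠ 1 := fun h => by have := Fintype.one_lt_card (α := F); simp [hq, h] at this
  have : NeZero (Nat.gcd n (q + 1)) := ⟨Nat.gcd_ne_zero_left (by omega)⟩
  obtain ⟨n, rfl⟩ : ∃ m, n = m + 1 := ⟨n - 1, by omega⟩
  obtain ⟨l, l1, l2, l3⟩ := exists_prime F
  have : Fact l.Prime := ⟨l1⟩
  let σ : F →+* F :=
    { toFun := fun x => x ^ q
      map_one' := one_pow q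
      map_mul' := fun x y => mul_pow x y q
      map_zero' := zero_pow fun h => h1 (h ▸ dvd_zero 2)
      map_add' := LieClassical.HermBasic.add_pow_q hq }
  refine row_of B h0 h3 (syU l3 l2 hq hn h4) (B.nil.gu F _ q hF' hq) hF
    (cutClosed_preserving hF (biAdd_herm _ q (Nat.card_eq_fintype_card.trans hq)))
    ⟨_, KM.A.lin_GU hF' hq (σ := σ) (fun _ => rfl) n⟩ (fun A h => ?_) (a := q + 1) (fun c hc => hc)
    (arith (by omega) q.succ_pos Nat.card_pos (S0280.result hq _ (by omega)) (Dvd.dvd.mul_left ?_ _) (q := q)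
      (Dvd.dvd.mul_right (dvd_pow_self q ?_) _) (by simp) h1 h5)
    (LieClassical.HermPerfect.commutator_SU_eq_top hq hn h4) (QuotientGroup.ker_mk' _)
    (S2089.result _ q hq hn h4 hexc) (by rw [S0279.result hq _ hn, card_mult_zmod])
  · obtain ⟨-, c, -, hc⟩ := eq_of_toAut_eq hq hn (A := 1) (A' := A) (ρ := 1) (ρ' := 1) (MulEquiv.ext fun x => by
      obtain ⟨g, rfl⟩ := pr_surjective x
      obtain ⟨g', e1, e2⟩ := h g
      have e3 : (SpecialLinearGroup.toGL.comp (SU (n + 1) F q).subtype) (semiConj A 1 g) =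
          (SpecialLinearGroup.toGL.comp (SU (n + 1) F q).subtype) g' := by
        rw [e2]
        exact Units.ext rfl
      show pr _ F q (semiConj 1 1 g) = pr _ F q (semiConj A 1 g)
      rw [show semiConj A 1 g = g' from Subtype.ext (SpecialLinearGroup.toGL_injective e3), e1]
      exact congrArg (pr _ F q) (Subtype.ext (SpecialLinearGroup.toGL_injective (Units.ext (by
        show (1 : Mt _ F) * g.1.1 * 1 = g.1.1
        rw [one_mul, mul_one])))))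
    exact ⟨c, hc⟩
  · conv_lhs => rw [← Finset.card_range (n + 1), ← Finset.prod_const]
    refine Finset.prod_dvd_prod_of_dvd _ _ fun i _ => ?_
    split_ifs with h
    · simpa using Odd.nat_add_dvd_pow_add_pow q 1 h.add_one
    · obtain ⟨k, hk⟩ := (Nat.not_even_iff_odd.1 h).add_one
      have h2 := Nat.sub_dvd_pow_sub_pow (q ^ 2) 1 k
      rw [one_pow, ← pow_mul, two_mul, ← hk] at h2
      exact Dvd.dvd.trans ⟨q - 1, Nat.sq_sub_sq q 1⟩ h2
  · have h6 : 3 * 2 ≤ (n + 1) * (n + 1 - 1) := Nat.mul_le_mul hn (by omega)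
    omega

end Cfsg.Agent.BH.R2
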