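import Cfsg.Agent.BH.Row2L.Defs
import Cfsg.Agent.BH.Row2L.Lz0
import Cfsg.Agent.BH.RowE.OutL
import Cfsg.Agent.KM.E2.E7b
import Cfsg.Agent.KM.E2.BL
import Cfsg.Agent.KM.E2.BS
import Cfsg.Agent.KM.E2.S1
import Cfsg.Agent.KM.E2.S2
import Cfsg.Agent.KM.E2.L7

/-!
# BH (S4524), the prime `2`: the row `E₇` (helper78)

* `E78.toral`, `E78.an` : copies of `KM/E2/E7a` without the lower bound for the inertial index;
* `E78.Fr`, `E78.frame` : the images of the involutions of the preimage of the defect group;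
* **`row_e7`**.
-/

set_option autoImplicit false
set_option linter.unusedSectionVars false

namespace Cfsg.Agent.BH.R2

namespace E78

section Geo

open Cfsg Cfsg.Lie Cfsg.Agent.DL Cfsg.Agent.Nodes.Reps Cfsg.Agent.Nodes.BNOf Matrix Subgroup Cfsg.Agent.KM.Ht
open Cfsg.Agent.KM.Tor Cfsg.Agent.BpExc.Zc Cfsg.Agent.Nodes.Coroot Cfsg.Agent.KM
open Cfsg.Agent.KM.E2 hiding St
open Cfsg.Agent.TO.X5 (ct Lg ct_mem)
open Cfsg.Agent.KM.Ev (Pe Lp Lp_comm Lp_le_G ct_sq)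
open Cfsg.Agent.BH.R2.Z0

variable {p : ℕ} [Fact p.Prime] {k : Type} [Field k] [CharP k p] {Y : Type} [Group Y] {N : Type} [Fintype N]
  [DecidableEq N] {ρ : Y →* GL N k} {F : MulAut Y} {G : Subgroup Y} [IsAlgClosed k] {X : Datum p ρ F G}
  {a b : X.I → ℤ} {v : Y} {D C Γ V : Subgroup Y} {e : ℕ} {w : X.W}

variable (hp : p ≠ 2) (L : L7 X) (H : Lz0 (GF F G) (ZG X) D C Γ) (A : Ad X D)
include hp L H A

omit hp L A in
theorem comm {x y : Y} (hx : x ∈ D) (hy : y ∈ D) : x * y * x⁻¹ * y⁻¹ ∈ ZG X := ((H.mem x).1 (H.DC hx)).2 y hy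

theorem cases (hv : v ∈ D) (h : v * v = 1) : v ∈ ZG X ∨ ∃ a ∈ Ps X D, v * ct X a (-1) ∈ ZG X := by
  have h0 := (A0.le H hv).1
  obtain ⟨g, hg, h1⟩ := toral_cen (X := X) (Set.empty_subset _) Set.finite_empty (cc_empty v h0 fun _ h => h.elim)
    (not_dvd_ord (j := 1) Nat.prime_two hp.symm ((pow_two v).trans h))
  have hg' := X.cen_le_G _ hg
  obtain ⟨u, hu⟩ := exists_inv h1 (by
    rw [show g⁻¹ * v * g * (g⁻¹ * v * g) = g⁻¹ * (v * v) * g by group, h, mul_one, inv_mul_cancel])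
  rcases L.inv u with e | ⟨a, ha, e⟩
  · have h2 := (tv_mem_ZG hp).2 e
    exact .inl (by rwa [show v = g * tv X u * g⁻¹ by rw [← hu]; group, ZG_comm h2 hg', mul_inv_cancel_right])
  have h2 := (tv_mem_ZG hp).2 e
  obtain ⟨b, hb, h3⟩ := A.rt _ (mul_mem hv (H.zD h2)) ⟨g, hg', a, ha, by
    rw [mul_assoc, mul_assoc, ← ZG_comm h2 hg', ← mul_assoc, ← mul_assoc, hu, tv_sub, ← mul_assoc, tv_sq, one_mul, tv_cor]⟩
  exact .inr ⟨b, ⟨hb, h3 ▸ mul_mem hv (H.zD h2)⟩, by rwa [← h3, ← mul_assoc, h, one_mul]⟩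

theorem memT (hv : v ∈ D) (h : v * v = 1) : v ∈ X.T := (cases hp L H A hv h).elim (fun e => e.1)
  fun ⟨a, _, e⟩ => (mul_mem_cancel_right (ct_mem a _)).1 e.1

theorem cen (hv : v ∈ D) (h : v * v = 1) {d : Y} (hd : d ∈ D) : v * d = d * v := by
  rcases cases hp L H A hv h with e | ⟨a, ha, e⟩
  · exact (ZG_comm e (A0.le H hd).1).symm
  · have h1 := ZG_comm e (A0.le H hd).1
    rw [mul_assoc, A.comm ha hd, ← mul_assoc, ← mul_assoc] at h1
    exact (mul_right_cancel h1).symm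

theorem exV : ∃ V : Subgroup Y, ∀ v, v ∈ V ↔ v ∈ D ∧ v * v = 1 :=
  ⟨{ carrier := {v | v ∈ D ∧ v * v = 1}
     one_mem' := ⟨one_mem _, one_mul _⟩
     mul_mem' := fun {x y} hx hy => ⟨mul_mem hx.1 hy.1, by
       rw [mul_assoc, ← mul_assoc y, ← cen hp L H A hx.1 hx.2 hy.1, mul_assoc, hy.2, mul_one, hx.2]⟩
     inv_mem' := fun {x} hx => ⟨inv_mem hx.1, by rw [← _root_.mul_inv_rev, hx.2, inv_one]⟩ }, fun _ => Iff.rfl⟩

/-- two orthogonal roots -/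
theorem ab (ha : a ∈ Ps X D) (hb : b ∈ Ps X D) (h : pr X a b = 0) : ∀ x ∈ D, ∀ y ∈ D, x * y = y * x := by
  obtain ⟨c, hc, h1, h2, h3⟩ := L.tri a b ha.1 hb.1 h
  have h4 := (tv_mem_ZG hp).2 h3
  rw [tv_add, tv_add, tv_cor, tv_cor, tv_cor] at h4
  have h5 := boxZL X hp L.toLS a b c ha.1 hb.1 hc h h1 h2 h3
  obtain ⟨g, hg, -, h6⟩ := A.le
  have h7 : Lp X (Ps X D) ≤ Lp X {a, b, c} := Lp_anti (by
    rintro _ (rfl | rfl | rfl)
    exacts [ha, hb, ⟨hc, (mul_mem_cancel_left (mul_mem ha.2 hb.2)).1 (H.zD h4)⟩])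
  intro x hx y hy
  have h8 := comm H hx hy
  rcases L.two hp h4 (fun e => h5 1 (one_mem _) 1 (one_mem _) (by rw [e]; group)) h8 with e | e
  · rwa [mul_inv_eq_one, mul_inv_eq_iff_eq_mul] at e
  · refine (h5 _ (h7 (h6 x hx)) _ (h7 (h6 y hy)) ?_).elim
    rw [← e, ← mul_inv_cancel_left g⁻¹ (x * y * x⁻¹ * y⁻¹), ZG_comm h8 (inv_mem (inv_mem hg))]
    group

variable (hV : ∀ v, v ∈ V ↔ v ∈ D ∧ v * v = 1)
include hV

/-- **more than four involutions modulo the centre** -/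
theorem toral (I : E2.Inn X e w) [Finite ↥(GF F G)]
    {M : Ideal AlgInt} (hM : IsPModular 2 M) {B : Set (IrrCharacter ↥(GF F G))} {E : Subgroup ↥(GF F G)}
    (hB : IsPBlock M B) (hE : IsDefectGroup 2 M B E) (hD : D = E.map (GF F G).subtype)
    (h4 : ¬ (ZG X).relIndex V ≤ 4) : Toral X D := by
  have hVD : V ≤ D := fun v hv => ((hV v).1 hv).1
  have el : El 2 (D : Set Y) := fun d hd => A0.pg H hd
  obtain ⟨h1, a, ha, b, hb, h2⟩ := L.sig' hp hV H.zD (fun v hv => memT hp L H A (hVD hv) ((hV v).1 hv).2) h4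
  have h3 := ab hp L H A ha hb h2
  obtain ⟨c, hc, -, h5⟩ := A.le
  obtain ⟨k1, k2⟩ := boxTA X hp L.toLS
  have hr : ∀ a ∈ Ps X D, X.Rt a := fun _ h => h.1
  have : Finite D := Finite.of_injective _ (inclusion_injective (A0.le H))
  have h7 : Pe X (Ps X D) ⊆ Sg X (Uv X V) := fun x hx => ⟨hx.1, fun u hu => by
    rcases cases hp L H A (hVD hu) (tv_sq u) with e | ⟨a, ha, e⟩
    · exact (tv_mem_ZG hp).1 e x hx.1
    · have h7 := (tv_mem_ZG hp).1 (show tv X (u + X.cor a) ∈ ZG X by rwa [tv_add]) x hx.1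
      rwa [dotProduct_add, show X.wt x ⬝ᵥ X.cor a = 0 from ((mem_Pe hr).1 hx).2 a ha, add_zero] at h7,
    fun h => two_ne_zero ((pr_self hx.1).symm.trans (((mem_Pe hr).1 hx).2 x ⟨hx.1, hVD h⟩))⟩
  obtain ⟨g, hg, h6⟩ := (k2 _ (fun _ h => h.1) (k1 _ hr)).2.2 (fun h => h1 (h.mono h7))
    ((fun d => c⁻¹ * d * c) '' D) ((Set.toFinite _).image _) (by rintro _ ⟨d, hd, rfl⟩; exact h5 d hd)
    (by rintro _ ⟨d, hd, rfl⟩; exact (el d hd).imp fun _ e => Ev.conj_pow' e)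
    (by rintro _ ⟨d, hd, rfl⟩ _ ⟨d', hd', rfl⟩; exact Ev.conj_comm (h3 d hd d' hd'))
  refine toral_blk hM hB hE hD (fun X' => L7 X' ∧ (∃ w, E2.Inn X' e w) ∧ ZG X' = ZG X)
    (fun _ _ hy hN k => ⟨k.1.conj hy hN, k.2.1.elim fun _ i => ⟨_, i.conj hy hN⟩, (ZG_conj hy hN).trans k.2.2⟩)
    (fun X' ⟨L', ⟨_, I'⟩, e⟩ hT hS => boxSat X' hp L'.sl D hT el fun h =>
      (L'.sig' hp hV (e ▸ H.zD) (hVD.trans hT) (e ▸ h4)).1 (h.mono (sz_sub hp L'.toLS I' hS (A0.le H) hVD)))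
    ⟨L, ⟨w, I⟩, rfl⟩ (mul_mem hc (Lp_le_G hg)) fun d hd => ?_
  rw [show (c * g)⁻¹ * d * (c * g) = g⁻¹ * (c⁻¹ * d * c) * g by group]
  exact h6 _ ⟨d, hd, rfl⟩

/-- an anisotropic form -/
theorem an (h : ∀ d ∈ D, d * d ∈ ZG X) : V.relIndex D ≤ 4 := by
  obtain ⟨z, hz, z1, z2⟩ := L.exz hp
  have := H.fin
  have hVD : V ≤ D := fun v hv => ((hV v).1 hv).1
  exact (boxAn Y z V D (Finite.of_injective _ (inclusion_injective (A0.le H))) hVD ((hV z).2 ⟨H.zD hz, L.sq hz⟩) z1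
    (fun w hw => z2 _ (h w hw)) (fun x hx y hy => (z2 _ (comm H hx hy)).imp
      (fun e => by rwa [mul_inv_eq_one, mul_inv_eq_iff_eq_mul] at e) fun e => by
        rw [ZG_comm hz (A0.le H (mul_mem hy hx)).1, ← e]; group) hV
    fun v hv w hw => cen hp L H A (hVD hv) ((hV v).1 hv).2 hw).elim (fun e => by omega) fun e => e.1.le

end Geo

section Grp

open Cfsg Subgroup Cfsg.Agent.TO
open Cfsg.Agent.KM.Ev (Om)

variable {H K : Type} [Group H] [Group K] {π : H →* K} {Q E V : Subgroup K}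

/-- `V` is the image of the set of involutions in the preimage of `Q` -/
structure Fr (π : H →* K) (Q E V : Subgroup K) : Prop where
  surj : Function.Surjective π
  mem : ∀ h, π h ∈ V ↔ π h ∈ Q ∧ h * h = 1
  tor : 4 < Nat.card V → E ≤ Ce Q
  an : (∀ u ∈ Q, u * u = 1) → V.relIndex Q ≤ 4
  sp : Nat.card V ≤ 4 → 16 < Nat.card Q → (Ce Q).relIndex E ≤ 3

theorem Fr.le (f : Fr π Q E V) : V ≤ Q := fun v hv => by
  obtain ⟨h, rfl⟩ := f.surj v
  exact ((f.mem h).1 hv).1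

theorem Fr.four (f : Fr π Q E V) (h : 1 < (Ce Q).relIndex E) : Nat.card V ≤ 4 := by
  by_contra h1
  rw [relIndex_eq_one.2 (f.tor (not_le.1 h1))] at h
  omega

theorem Fr.quad [Finite K] (f : Fr π Q E V) (h1 : IsPGroup 2 Q) (h2 : ∀ a ∈ Q, ∀ b ∈ Q, a * b = b * a)
    (h3 : ∀ t ∈ E, ∀ u ∈ Q, t * u * t⁻¹ ∈ Q) : (Om Q).ncard ≤ 8 ∨ (Ce Q).relIndex E ≤ 3 ∨ Ix Q E ∨ S9 Q E := by
  have : Fact (Nat.Prime 2) := ⟨Nat.prime_two⟩
  refine (le_or_gt _ 8).imp_right fun h8 => (le_or_gt _ 3).imp_right fun he => .inr ?_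
  have h4 := f.four (by omega)
  have h5 : Nat.card Q ≤ 16 := not_lt.1 fun h => not_le.2 he (f.sp h4 h)
  obtain ⟨W, hW⟩ : ∃ W : Subgroup K, (W : Set K) = Om Q :=
    ⟨{ carrier := Om Q
       one_mem' := ⟨one_mem _, one_mul _⟩
       mul_mem' := fun {x y} hx hy => ⟨mul_mem hx.1 hy.1, by
         rw [mul_assoc, ← mul_assoc y, h2 y hy.1 x hx.1, mul_assoc, hy.2, mul_one, hx.2]⟩
       inv_mem' := fun {x} hx => ⟨inv_mem hx.1, by rw [← mul_inv_rev, hx.2, inv_one]⟩ }, rfl⟩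
  have h6 : W ≤ Q := fun x hx => (hW.le hx).1
  have h7 : 8 < Nat.card W := by rwa [← hW] at h8
  have h9 : Q ≤ W := by
    have h9 := card_mul_index (W.subgroupOf Q)
    rw [Nat.card_congr (subgroupOfEquivOfLe h6).toEquiv] at h9
    have h10 : (W.subgroupOf Q).index ≠ 0 := index_ne_zero_of_finite
    exact subgroupOf_eq_top.1 (index_eq_one.1 (by
      by_contra h11
      have := Nat.mul_le_mul_left (Nat.card W) (show 2 ≤ (W.subgroupOf Q).index by omega)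
      omega))
  have h10 : ∀ u ∈ Q, u * u = 1 := fun u hu => (hW.le (h9 hu)).2
  have h11 : Nat.card Q = 16 := by
    obtain ⟨n, hn⟩ := IsPGroup.iff_card.1 h1
    have h11 := card_le_of_le h6
    have h12 : n < 5 := (Nat.pow_lt_pow_iff_right one_lt_two).1 (by omega)
    interval_cases n <;> omega
  refine ⟨h11, h10, ⟨V, f.le, ?_, fun t ht v hv => ?_⟩, he⟩
  · have h12 := card_mul_index (V.subgroupOf Q)
    rw [Nat.card_congr (subgroupOfEquivOfLe f.le).toEquiv, h11] at h12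
    have h13 := Nat.mul_le_mul_left (Nat.card V) (f.an h10)
    change Nat.card V * (V.subgroupOf Q).index ≤ _ at h13
    omega
  · obtain ⟨t, rfl⟩ := f.surj t
    obtain ⟨v, rfl⟩ := f.surj v
    have h12 := h3 _ ht _ (f.le hv)
    rw [← map_inv, ← map_mul, ← map_mul] at h12 ⊢
    exact (f.mem _).2 ⟨h12, by rw [conj_mul, ((f.mem v).1 hv).2, mul_one, mul_inv_cancel]⟩

theorem Fr.nos [Finite K] (f : Fr π Q E V) (hl : ∀ α : MulAut K, ∃ ψ : H →* H, ∀ s, α (π (ψ s)) = π s)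
    {Γ : Subgroup (MulAut K)} (h : St Q E Γ) (he : 3 ≤ (Ce Q).relIndex E) : False := by
  have h4 := f.four (by omega)
  have h5 := f.an h.sq
  have h6 := h.big
  obtain ⟨v, hv, v1⟩ : ∃ v ∈ V, v ≠ 1 := by
    by_contra h7
    rw [show V = ⊥ from (eq_bot_iff_forall V).2 fun v hv => by_contra fun e => h7 ⟨v, hv, e⟩, relIndex_bot_left] at h5
    omega
  obtain ⟨u, hu, u1⟩ : ∃ u ∈ Q, u ∉ V := by
    by_contra h7
    have := card_le_of_le (show Q ≤ V from fun u hu => by_contra fun e => h7 ⟨u, hu, e⟩)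
    omega
  obtain ⟨α, -, h7⟩ := h.tr u hu v (f.le hv) (fun e => u1 (e ▸ one_mem _)) v1
  obtain ⟨ψ, hψ⟩ := hl α
  obtain ⟨s, rfl⟩ := f.surj v
  obtain rfl : u = π (ψ s) := α.injective (h7.trans (hψ s).symm)
  exact u1 ((f.mem _).2 ⟨hu, by rw [← map_mul, ((f.mem s).1 hv).2, map_one]⟩)

/-- the multiplier is a `2`-group -/
theorem allQ {S A : Type} [Group S] [Finite S] [CommGroup A] (hA : HasSchurMultiplier S A) {j : ℕ} (hj : Nat.card A ∣ 2 ^ j)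
    (P : Subgroup S → Subgroup S → Prop) (h : ∀ M b Q θ, Can 2 M b Q θ → P Q (In Q θ)) :
    AllQ S fun σ _ _ Q θ => P (Q.map σ) ((In Q θ).map σ) := fun K _ _ σ M b Q θ H => by
  obtain ⟨f, hf⟩ := hA.2 K σ ⟨H.surj, H.ker.le, H.qs.1.commutator_eq_top ▸ le_top⟩
  have h1 : Nat.card σ.ker = 1 := ((Nat.prime_two.coprime_iff_not_dvd.2 (H.ker ▸ H.zp)).symm.pow_right j).eq_one_of_dvd
    ((card_dvd_of_surjective f hf).trans hj)
  have h2 : Function.Injective σ := σ.ker_eq_bot_iff.1 (eq_bot_of_card_eq _ h1)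
  let e := MulEquiv.ofBijective σ ⟨h2, H.surj⟩
  have h3 : ∀ g, e.symm (σ g) = g := e.symm_apply_apply
  have h4 : (In Q θ).map σ = In (Q.map σ) fun y => θ (e.symm y) := Subgroup.ext fun s => by
    obtain ⟨t, rfl⟩ := H.surj s
    rw [mem_map_iff_mem h2, Cn.mem_In, Cn.mem_In, H.surj.forall, H.surj.forall]
    simp only [← map_inv, ← map_mul, mem_map_iff_mem h2, h3]
  exact h4 ▸ h M _ _ _ (H.can.map e)

end Grp

section Blk

open Cfsg Cfsg.Lie Cfsg.Agent.DL Cfsg.Agent.Nodes.Reps Cfsg.Agent.Nodes.BNOf Matrix Subgroup Cfsg.Agent.KM.Ht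
open Cfsg.Agent.KM.Tor Cfsg.Agent.BpExc.Zc Cfsg.Agent.KM Cfsg.Agent.KZ.DatX
open Cfsg.Agent.KM.E2 hiding St
open Cfsg.Agent.KM.Ev (Om)
open Cfsg.Agent.BH.R2.Z0
open Cfsg.Agent.TO (Can Ce In)

variable {p : ℕ} [Fact p.Prime] {k : Type} [Field k] [CharP k p] {Y : Type} [Group Y] {N : Type} [Fintype N]
  [DecidableEq N] {ρ : Y →* GL N k} {F : MulAut Y} {G : Subgroup Y} [IsAlgClosed k] {X : Datum p ρ F G}
  {e : ℕ} {w : X.W} {K : Type} [Group K] [Finite K] {π : GF F G →* K}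
  {M : Ideal AlgInt} {b : Set (IrrCharacter K)} {Q : Subgroup K} {θ : K → ℂ}

theorem tl (B : BoxLC) (hp : p ≠ 2) {a : ℕ} (h : LT X a) : TL X a := fun y hy hN =>
  have h' := B.conj X a y hy hN h
  ⟨h'.sc, B.con _ a h', B.lc _ hp a h'⟩

/-- **a toral defect group** -/
theorem tb (B : Bx) (hp : p ≠ 2) (hT : TL X 1) (hπ : Function.Surjective π) (hk : ∀ h, π h = 1 → (h : Y) ∈ ZG X)
    (c : Can 2 M b Q θ) (hD : IsPGroup 2 (up π Q)) (h1 : Toral X (up π Q)) (h2 : 4 < (Om (up π Q)).ncard) :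
    In Q θ ≤ Ce Q := by
  have h6 : (CQ Q).comap (MulAut.conj : K →* MulAut K) = Ce Q := Subgroup.ext fun x => by
    rw [mem_comap, mem_fixingSubgroup_iff]
    exact forall₂_congr fun y _ => mul_inv_eq_iff_eq_mul.trans eq_comm
  have h3 : (Ce Q).relIndex (In Q θ) ≤ 1 := by
    rw [← h6, relIndex_comap]
    refine B.tb X hp 1 hT (X.amb.finite_GF G) K π M b Q θ _ hπ hk c (fun d => ⟨fun hd => ?_, fun ⟨h, h3, _⟩ => mem_up.2 ⟨h, h3⟩⟩)
      h1 h2 _ (map_comap_le _ _) ?_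
    · obtain ⟨h, h3⟩ := mem_up.1 hd
      exact ⟨h, h3, (hD ⟨d, hd⟩).imp fun _ e => congrArg Subtype.val e⟩
    · rintro _ ⟨n, -, rfl⟩
      obtain ⟨n, rfl⟩ := hπ n
      refine ⟨n, ⟨n.2.1, by rw [(mem_GF.1 n.2).2, inv_mul_cancel]; exact one_mem _⟩, fun h h' h7 => ?_⟩
      rw [show h' = n * h * n⁻¹ from Subtype.ext h7, map_mul, map_mul, map_inv]
      rfl
  have h4 : (Ce Q).relIndex (In Q θ) ≠ 0 := index_ne_zero_of_finite
  exact relIndex_eq_one.1 (by omega)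

/-- **the frame** -/
theorem frame (B : Bx) (hp : p ≠ 2) (L : L7 X) (hT : TL X 1) (I : E2.Inn X e w) (hZ : ZG X ≤ GF F G)
    (hπ : Function.Surjective π) (hk : ∀ h, π h = 1 ↔ (h : Y) ∈ ZG X) (c : Can 2 M b Q θ) : ∃ V, Fr π Q (In Q θ) V := by
  have : Fact (Nat.Prime 2) := ⟨Nat.prime_two⟩
  have := X.amb.finite_GF G
  have H := lz0_of hπ hZ hk (fun z hz g hg => (ZG_comm hz hg.1).symm)
    (fun z => ⟨1, Subtype.ext ((pow_two _).trans (L.sq z.2))⟩) c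
  have hb := tb B hp hT hπ (fun h => (hk h).1) c H.pg
  obtain ⟨y, hy, hN, A⟩ := boxA0 X hp L.toLS _ _ _ _ H le_rfl
  have L' := L.conj hy hN
  rw [← ZG_conj hy hN] at H hk
  obtain ⟨V, hV⟩ := exV hp L' H A
  have hVD : V ≤ up π Q := fun v hv => ((hV v).1 hv).1
  have : Finite (up π Q) := Finite.of_injective _ (inclusion_injective (A0.le H))
  have : Finite V := Finite.of_injective _ (inclusion_injective hVD)
  obtain ⟨W, hW⟩ : ∃ W : Subgroup K, ∀ h : GF F G, π h ∈ W ↔ (h : Y) ∈ V :=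
    ⟨_, mem_dn hk fun z hz => (hV z).2 ⟨H.zD hz, L'.sq hz⟩⟩
  have e1 : up π W = V := Subgroup.ext fun x => mem_up.trans
    ⟨fun ⟨h, e⟩ => (hW ⟨x, h⟩).1 e, fun e => ⟨A0.le H (hVD e), (hW _).2 e⟩⟩
  have e2 : up π ⊥ = ZG (X.conj hy hN) := Subgroup.ext fun x => mem_up.trans
    ⟨fun ⟨h, e⟩ => (hk ⟨x, h⟩).1 e, fun e => ⟨A0.le H (H.zD e), (hk _).2 e⟩⟩
  have e3 : Nat.card W = (ZG (X.conj hy hN)).relIndex V := by rw [← e1, ← e2, relIndex_up hπ, relIndex_bot_left]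
  refine ⟨W, hπ, fun h => (hW h).trans ((hV h).trans (and_congr coe_mem_up ⟨fun e => Subtype.ext e, congrArg Subtype.val⟩)),
    fun h4 => ?_, fun h => ?_, fun h4 h16 => not_lt.1 fun h3 => ?_⟩
  · obtain ⟨B', k1, k2, -⟩ := Two.dom c.hM π hπ
      (fun z hz => mem_center_iff.2 fun g => Subtype.ext (ZG_comm ((hk z).1 hz) g.2.1))
      (fun z => ⟨1, Subtype.ext (Subtype.ext ((pow_two _).trans (L'.sq ((hk _).1 z.2))))⟩) c.hb c.hD
    rw [e3] at h4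
    refine hb (toral_conj hy hN (toral hp L' H A hV (I.conj hy hN) c.hM k1 k2 rfl (not_le.2 h4))) ?_
    rw [show Om (up π Q) = (V : Set Y) from Set.ext fun v => (hV v).symm]
    exact h4.trans_le (Nat.le_of_dvd Nat.card_pos (relIndex_dvd_card _ _))
  · rw [← relIndex_up hπ, e1]
    refine an hp L' H A hV ?_
    rintro _ ⟨d, hd, rfl⟩
    exact (hk (d * d)).1 ((map_mul π d d).trans (h _ hd))
  · have H' := H.lz (by rwa [relIndex_up hπ])
    obtain ⟨α, β, S⟩ := L'.sp hp H' A hV (by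
      obtain ⟨z, hz, z1, -⟩ := L'.exz hp
      have h1 := card_mul_index ((up π ⊥).subgroupOf (up π Q))
      have h3 : (⟨z, H.zD hz⟩ : up π Q) ∈ (up π ⊥).subgroupOf (up π Q) := e2.ge hz
      have h2 := (one_lt_card_iff_ne_bot ((up π ⊥).subgroupOf (up π Q))).2 fun e => by
        rw [e, mem_bot] at h3
        exact z1 (congrArg Subtype.val h3)
      rw [show ((up π ⊥).subgroupOf (up π Q)).index = _ from relIndex_up hπ ⊥ Q, relIndex_bot_left] at h1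
      nlinarith) (e3 ▸ h4)
    obtain ⟨ε, n, b, x, y', S'⟩ := boxS1_of boxG boxFR _ hp L' e _ (I.conj hy hN) _ _ _ α β S
    exact L'.no_sq hp hπ hk boxBL (boxS2_of boxBS boxFR boxTA) c S'

omit [Finite K] in
/-- the automorphisms lift -/
theorem lift (hp : p ≠ 2) (L : L7 X) [IsSimpleGroup K] (s : KM.Sc X K) (hk : ∀ h, s.π h = 1 → (h : Y) ∈ ZG X)
    (α : MulAut K) : ∃ ψ : GF F G →* GF F G, ∀ h, α (s.π (ψ h)) = s.π h := by
  have : Fact (Nat.Prime 2) := ⟨Nat.prime_two⟩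
  have := X.amb.finite_GF G
  let i := (QuotientGroup.quotientMulEquivOfEq s.ker.symm).trans (QuotientGroup.quotientKerEquivOfSurjective s.π s.surj)
  obtain ⟨j, hj⟩ := IsPGroup.iff_card.1 (show IsPGroup 2 (center (GF F G)) from fun z =>
    ⟨1, Subtype.ext (Subtype.ext ((pow_two _).trans (L.sq (hk _ (s.ker.ge z.2)))))⟩)
  obtain ⟨ψ, -, h⟩ := s.cov (GF F G) ⟨⟨s.perf⟩, i.isSimpleGroup⟩
    (fun h => hp ((Nat.prime_dvd_prime_iff_eq Fact.out Nat.prime_two).1 ((Fact.out : p.Prime).dvd_of_dvd_pow (hj ▸ h))))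
    (i.trans α)
  exact ⟨ψ, h⟩

end Blk

end E78

open Cfsg Cfsg.Lie Subgroup Matrix Cfsg.Agent.KM Cfsg.Agent.KM.E2 Cfsg.Agent.TO in
/-- **the row `E₇`** -/
theorem row_e7 (B : Bx) : RowFor KM.CE7 := fun S _ _ _ hS hC => by
  obtain ⟨F, _, _, h1, ⟨i⟩⟩ := id hC
  obtain ⟨r, e, _, _, hr, he, hF⟩ := Nt.exists_char F h1
  have := Finite.of_equiv _ i.toEquiv
  have := i.symm.isSimpleGroup
  have hC' : KM.CE7 2 (chevE7.group F) := ⟨F, inferInstance, inferInstance, h1, ⟨MulEquiv.refl _⟩⟩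
  have hS' : ¬ IsMulCommutative (chevE7.group F) := fun h => hS ⟨⟨fun a b => i.injective (by
    rw [map_mul, map_mul, h.is_comm.comm])⟩⟩
  obtain ⟨k, _, _, _, X, t, -, Y, _, N, _, _, ρ, F', X', θ, s, ⟨I⟩, h2, h3⟩ := Sc.sc_E7 hF
  obtain ⟨L, h4⟩ := boxL7 r k e X Y N ρ F' X' θ I s.pi1
  have h5 : ∀ z, z ∈ ZG X' ↔ z ∈ center Y := fun z =>
    ⟨fun h => mem_center_iff.2 fun g => ZG_comm h trivial, fun h => mem_ZG trivial fun g _ => mem_center_iff.1 h g⟩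
  have hk : ∀ h, s.π h = 1 ↔ (h : Y) ∈ ZG X' := fun h => by
    rw [h5, ← h2, MonoidHom.mem_ker, ← h3, map_eq_one_iff _ t.ov.inj]
  have hT : TL X' 1 := E78.tl B.lc hr.symm ⟨L.toLS, ⟨e, _, 1, he, .inl rfl, by rw [h4, X'.Wm_one]⟩, by
    have h6 := Matrix.trace_mul_comm I.P I.Q
    rw [I.PQ, I.QP, Matrix.trace_smul, Matrix.trace_smul, Matrix.trace_one, Matrix.trace_one,
      show Fintype.card X.D.R = 7 from Fintype.card_fin 7] at h6
    simp only [smul_eq_mul] at h6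
    omega, .inl ⟨rfl, L.ctr⟩⟩
  have hf := fun M b Q η (c : Can 2 M b Q η) => E78.frame B hr.symm L hT (w := 1) ⟨he, by rw [h4, X'.Wm_one]⟩
    (fun z hz => ⟨trivial, by
      by_cases e : z = 1
      · exact e ▸ map_one F'
      refine (L.two hr.symm hz e ((h5 _).2 (mem_center_iff.2 fun g => ?_))).resolve_left fun e' =>
        e (F'.injective (e'.trans (map_one _).symm))
      obtain ⟨g, rfl⟩ := F'.surjective g
      exact (map_mul F' g z).symm.trans ((congrArg F' (ZG_comm hz trivial)).trans (map_mul F' z g))⟩) s.surj hk c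
  have hA := fun P => E78.allQ (S2106.result hF) (j := 1) (BD.card_cyc _ ▸ Nat.gcd_dvd_left _ _) P
  refine Row.of_equiv i (B.row_ns (outC_e7 hC') (B.ns.e7 _ hS' hC')
    (hA (fun Q E => (Ev.Om Q).ncard ≤ 8 ∨ (Ce Q).relIndex E ≤ 3 ∨ Ix Q E ∨ S9 Q E) fun M b Q η c => ?_)
    (hA (fun Q E => ∀ Γ, ¬ St Q E Γ) fun M b Q η c Γ h => ?_))
  · obtain ⟨V, f⟩ := hf M b Q η c
    exact f.quad c.pg c.comm fun t ht u hu => ((Cn.mem_In.1 ht).1 u).2 hu
  · obtain ⟨V, f⟩ := hf M b Q η c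
    exact f.nos (E78.lift hr.symm L s fun h => (hk h).1) h (B.t.cor _ _ _ Γ h).2.2.1

end Cfsg.Agent.BH.R2
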