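import Cfsg.Agent.BH.Row2L.All0
import Cfsg.Agent.BH.Row2L.FX
import Cfsg.Agent.BH.Row2L.V
import Cfsg.Agent.BH.Row2L.Lam
import Cfsg.Agent.BH.Row2L.LCo
import Cfsg.Agent.BH.Row2L.P3n
import Cfsg.Agent.BH.Row2L.ConX
import Cfsg.Agent.BH.Row2L.RowA
import Cfsg.Agent.BH.Row2L.RowE7

/-!
# BH (S4524): all rows for the prime two; the theorem from the quasisimple case (helper77)
-/

set_option autoImplicit false

namespace Cfsg.Agent.BH.R2

open Cfsg

theorem bxAll : Bx := bx_of boxFX boxV boxLam boxLift boxLC boxP3n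

theorem rowsAll : Rows := rows_of bxAll (row_psl bxAll) (row_psu bxAll)
  (row_e6_of (fun _ _ _ _ _ _ _ X _ _ _ _ _ _ _ _ _ I h he => lt_e6 X I h (sc_one X he)) bxAll) (row_e7 bxAll)
  (row_te6_of (fun _ _ _ _ _ _ _ X _ _ _ _ _ _ _ _ _ I h he => lt_e6 X I h (sc_P6 X he)) bxAll)

/-- **S4524** from the quasisimple case -/
theorem s4524_of3.{u} (hZ : BZ.All BZ.RowP) {G : Type u} [Group G] [Finite G] (p : ℕ)
    [Fact p.Prime] (M : Ideal AlgInt) (hM : IsPModular p M) (B : Set (IrrCharacter G)) (hB : IsPBlock M B)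
    (D : Subgroup G) (hD : IsDefectGroup p M B D) : IsMulCommutative D ↔ ∀ χ ∈ B, blockHeight p B (χ : G → ℂ) = 0 :=
  s4524_of2 rowsAll hZ p M hM B hB D hD

end Cfsg.Agent.BH.R2
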