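import Cfsg.Agent.BZ.L.K3.All2
import Cfsg.Agent.BZ.L.K3.LS
import Cfsg.Agent.BZ.L.K3.E6N
import Cfsg.Agent.BZ.L.K3.E6R
import Cfsg.Agent.BZ.L.K3.Fo4
import Cfsg.Agent.BZ.L.B3.Lat
import Cfsg.Agent.BZ.X.F42
import Cfsg.Agent.BZ.E2.All
import Cfsg.Agent.BZ.L.Tw.All31
import Cfsg.Agent.BZ.L.Ex.Fin

/-!
# BH : all the rows of the quasisimple case (helper77)
-/

set_option autoImplicit false

namespace Cfsg.Agent.BH.R2.Zp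

open Cfsg Cfsg.Lie Cfsg.Agent.BZ Cfsg.Agent.BZ.K3 Cfsg.Agent.KZ.DatX

theorem lat_e6 : K3.Lat hpE6 3 := fun X _ _ _ _ _ A _ hP ss hT hq hC hA L =>
  (LS.sign L.ord).elim (fun e => Or.inl (e ▸ LS.ca_zero)) fun ⟨ε, hd, hQ⟩ =>
    (em (∃ a, X.Rt a ∧ a ∈ LinearMap.ker (LS.ei X ε A))).elim
      (fun ⟨_, ha, hM⟩ => E6R.root hP ss hT (Rd.nf hq hC hA) hd L ha hM)
      fun h => (E6N.noroot ss hT (Rd.nf hq hC hA) hd hQ L fun a ha hM => h ⟨a, ha, hM⟩).imp_right Or.inr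

theorem boxFour : B3.BoxFour := fun _ _ _ _ _ _ ss hT hN L => F4x.lat_four ss hT hN L

theorem lats : K3.Lats := ⟨LS.lat2_g2, LS.lat3_d4, LS.lat2_f4, lat_e6, B3.lat_e7, B3.lat_e8, B3.lat_e85_of boxFour⟩

/-- **all the rows** -/
theorem allP : BZ.All BZ.RowP :=
  have h := K3.ex_lat lats fun F _ _ hF => X.row_f42_of F hF (X.F42.dg_f42 F hF)
  allP_of2 Tw.A31.cl2 E2.ex7 h.1 h.2 Ex.good

end Cfsg.Agent.BH.R2.Zp
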