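import Cfsg.Agent.BH.RowO.Defs
import Cfsg.Agent.BH.RowE.Gen
import Cfsg.Agent.KM.Uu.U
import Cfsg.Agent.KM.E2.Defs
import Cfsg.Agent.KM.Ev.Blk
import Cfsg.Agent.KM.Two.Base

/-!
# BH (S4524), the prime `2`, groups of Lie type in odd characteristic: definitions and boxes (helper28)

Paper proofs: `notes/BH/row2l.md`.
-/

set_option autoImplicit false
set_option linter.unusedSectionVars false

namespace Cfsg.Agent.BH.R2

open Cfsg Subgroup Matrix Cfsg.Agent.TO Cfsg.Agent.KM.BK Cfsg.Agent.BH.RO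
open Cfsg.Agent.KM.Two (Idx)
open Cfsg.Agent.KM.Ev (Om)
open Cfsg.Agent.KM.Sp (LocA)
open Cfsg.Agent.KM.Tor (AllD AllX El)
open Cfsg.Agent.KM.Ht (Z0 Toral)
open Cfsg.Agent.DL Cfsg.Agent.DL.PP Cfsg.Agent.KZ.Lie Cfsg.Agent.KZ.DatX

/-! ### the interface -/

section iface

variable {K S : Type} [Group K] [Group S]

/-- `NC` with a weaker fixed point clause -/
def NC' (p : ℕ) (b : Set (IrrCharacter K)) (Q : Subgroup K) (A : Subgroup (MulAut K)) : Prop :=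
  ∃ δ ∈ Stab b, (∀ z ∈ center K, δ z = z) ∧ ¬ p ∣ orderOf δ ∧
    (∀ α ∈ A, α * δ * α⁻¹ ∈ zpowers δ ⊔ Inn K) ∧ (∀ (m : ℕ) (k : K), δ ^ m = MulAut.conj k → δ k = k) ∧
    (∃ d : ℂ, ∀ χ ∈ Fn b, ((FixF χ).relIndex (zpowers δ) : ℂ) * χ 1 = d) ∧
    (Inn K).relIndex (zpowers δ) * Nat.card Q < (center K).index

/-- `A` centralizes its abelian normal `p`-subgroups in `A₀` modulo the inner automorphisms -/
def CT (p : ℕ) (A A₀ : Subgroup (MulAut K)) : Prop :=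
  ∀ B : Subgroup (MulAut K), Inn K ≤ B → B ≤ A₀ → (∀ α ∈ A, ∀ β ∈ B, α * β * α⁻¹ ∈ B) → ⁅B, B⁆ ≤ Inn K →
    (∀ β ∈ B, ∃ j : ℕ, β ^ p ^ j ∈ Inn K) → ⁅A, B⁆ ≤ Inn K

/-- the conclusion of the rows -/
def AutOK' (p : ℕ) (b : Set (IrrCharacter K)) (Q : Subgroup K) (θ : K → ℂ) : Prop :=
  ∀ A A₀ : Subgroup (MulAut K), AHyp p b Q θ A A₀ → CT p A A₀ → Cen p Q θ A ∨ NC' p b Q A

/-- the nontrivial elements of `Q` are conjugate under the automorphisms which fix the root -/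
def Tr (Q : Subgroup K) (θ : K → ℂ) : Prop := ∀ u ∈ Q, ∀ v ∈ Q, u ≠ 1 → v ≠ 1 → ∃ α ∈ LA Q θ, α u = v

/-- the condition which gives `TRI` -/
def NoT (b : Set (IrrCharacter K)) (Q : Subgroup K) (θ : K → ℂ) : Prop :=
  Tr Q θ → Q ≠ ⊥ → Q ⊓ Ce (In Q θ) = ⊥ → Three b ∨ Nat.card Q = 4

/-- the conclusion of `V4.delta` -/
def DL (A : Subgroup (MulAut K)) : Prop := ∀ a : ℕ, 2 ^ a ∣ (center K).index → ∃ δ ∈ A, (∃ j : ℕ, orderOf δ = 3 ^ j) ∧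
  (∀ α ∈ A, α * δ * α⁻¹ ∈ zpowers δ ⊔ Inn K) ∧ (∀ γ ∈ ⁅A, A⁆, ∃ m : ℕ, ¬ 3 ∣ m ∧ γ ^ m ∈ zpowers δ ⊔ Inn K) ∧
  (Inn K).relIndex (zpowers δ) * 2 ^ a < (center K).index

/-- `E` centralizes a subgroup of index at most four (`Idx Q θ` is `Ix Q (In Q θ)`) -/
def Ix (Q E : Subgroup S) : Prop := ∃ R : Subgroup S, R ≤ Q ∧ R.relIndex Q ≤ 4 ∧ ∀ t ∈ E, ∀ r ∈ R, t * r * t⁻¹ = r

/-- `Q = 2⁴`, the inertial quotient is `3 × 3` -/
structure S9 (Q E : Subgroup S) : Prop where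
  card : Nat.card Q = 16
  sq : ∀ u ∈ Q, u * u = 1
  inv : ∃ V : Subgroup S, V ≤ Q ∧ Nat.card V = 4 ∧ ∀ t ∈ E, ∀ v ∈ V, t * v * t⁻¹ ∈ V
  big : 3 < (Ce Q).relIndex E

/-- the shadow of a counterexample to `NoT` -/
structure St (Q E : Subgroup S) (Γ : Subgroup (MulAut S)) : Prop where
  loc : LocA 2 Q
  le : Ce Q ≤ E
  odd : ¬ 2 ∣ (Ce Q).relIndex E
  sq : ∀ u ∈ Q, u * u = 1
  big : 8 ≤ Nat.card Q
  nrm : ∀ α ∈ Γ, ∀ x, α x ∈ Q ↔ x ∈ Q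
  inn : ∀ s, MulAut.conj s ∈ Γ ↔ s ∈ E
  tr : ∀ u ∈ Q, ∀ v ∈ Q, u ≠ 1 → v ≠ 1 → ∃ α ∈ Γ, α u = v
  fx : Q ⊓ Ce E = ⊥

/-- the automorphisms which centralize `Q` -/
abbrev CQ (Q : Subgroup S) : Subgroup (MulAut S) := fixingSubgroup (MulAut S) (Q : Set S)

variable (S) in
/-- a statement on all faithful blocks of the covers of `S` -/
def AllQ (P : ∀ {K : Type} [Group K] [Finite K] (_ : K →* S) (_ : Ideal AlgInt) (_ : Set (IrrCharacter K))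
    (_ : Subgroup K) (_ : K → ℂ), Prop) : Prop :=
  ∀ (K : Type) [Group K] [Finite K] (σ : K →* S) (M : Ideal AlgInt) (b : Set (IrrCharacter K)) (Q : Subgroup K)
    (θ : K → ℂ), QHyp 2 M b Q θ σ → P σ M b Q θ

variable (S) in
/-- **the row for the prime `2`** -/
def Row : Prop := AllQ S fun _ _ b Q θ => NoT b Q θ ∧ AutOK' 2 b Q θ

variable (S) in
/-- a shadow (as in `BoxSh`) has index at most four -/
def IxA : Prop := AllQ S fun σ M b Q θ => ∀ A A₀, NCe 2 M b Q θ σ A A₀ → ∀ Γ Γ₀,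
  Sh 2 (Q.map σ) ((In Q θ).map σ) Γ Γ₀ → (∀ β ∈ Γ, ∃ α ∈ A ⊓ LA Q θ, ∀ g, σ (α g) = β (σ g)) →
  Ix (Q.map σ) ((In Q θ).map σ)

variable (S) in
/-- no counterexample to `NoT` -/
def NoS : Prop := AllQ S fun σ _ _ Q θ => ∀ Γ, ¬ St (Q.map σ) ((In Q θ).map σ) Γ

variable (S) in
/-- the four small cases -/
def Quad : Prop := AllQ S fun σ _ _ Q θ => (Om (Q.map σ)).ncard ≤ 8 ∨ (Ce (Q.map σ)).relIndex ((In Q θ).map σ) ≤ 3 ∨
  Ix (Q.map σ) ((In Q θ).map σ) ∨ S9 (Q.map σ) ((In Q θ).map σ)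

variable (S) in
/-- the automorphism condition of `V4` -/
def DLA : Prop := AllQ S fun _ _ b Q θ => ∀ A A₀, AHyp 2 b Q θ A A₀ → CT 2 A A₀ → DL A

end iface

/-- rows for a family -/
def RowFor (C : ℕ → ∀ (S : Type) [Group S], Prop) : Prop := RowE.For 2 (fun S _ => Row S) C

/-- the automorphism statement for all covers -/
def AUT' (p : ℕ) (M : Ideal AlgInt) : Prop :=
  ∀ (K : Type) [Group K] [Finite K] (S : Type) [Group S] (σ : K →* S) (b : Set (IrrCharacter K)) (Q : Subgroup K)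
    (θ : K → ℂ), QHyp p M b Q θ σ → AutOK' p b Q θ

/-- [HT'] -/
def BoxHT' (p : ℕ) (M : Ideal AlgInt) : Prop :=
  ∀ (G : Type) [Group G] [Finite G] (B : Set (IrrCharacter G)) (D : Subgroup G), Min p M B D → pCore p G = ⊥ →
    ∀ (K : Subgroup G) [K.Normal], IsQuasisimple K → K ≠ ⊤ →
      NC' p (cov B K) ((D ⊓ K).subgroupOf K) (MulAut.conjNormal : G →* MulAut K).range → D ≤ Ce (D ⊓ K)

/-- [CT] -/
def BoxCT (p : ℕ) (M : Ideal AlgInt) : Prop :=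
  ∀ (G : Type) [Group G] [Finite G] (B : Set (IrrCharacter G)) (D : Subgroup G), Min p M B D → pCore p G = ⊥ →
    ∀ (K : Subgroup G) [K.Normal], IsQuasisimple K → ∀ A₀ : Subgroup (MulAut K), ¬ (MulAut.conjNormal : G →* MulAut K).range ≤ A₀ →
      A₀ ≤ (MulAut.conjNormal : G →* MulAut K).range → CT p (MulAut.conjNormal : G →* MulAut K).range A₀

/-- the open rows -/
structure Rows : Prop where
  psl : RowFor KM.CPsl
  psp : RowFor KM.CPsp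
  psu : RowFor KM.CPsu
  oodd : RowFor KM.COdd
  oplus : RowFor KM.CPlus
  ominus : RowFor KM.CMinus
  g2 : RowFor KM.CG2
  f4 : RowFor KM.CF4
  e6 : RowFor KM.CE6
  e7 : RowFor KM.CE7
  e8 : RowFor KM.CE8
  te6 : RowFor KM.CTe6
  td4 : RowFor KM.CTd4

/-! ### pure boxes -/

/-- a statement on all shadows -/
def AllSh (P : ∀ {S : Type} [Group S] (_ _ : Subgroup S) (_ : Subgroup (MulAut S)), Prop) : Prop :=
  ∀ (S : Type) [Group S] [Finite S] (Q E : Subgroup S) (Γ Γ₀ : Subgroup (MulAut S)), Sh 2 Q E Γ Γ₀ → P Q E Γ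

/-- [A2] rank at most three -/
def BoxA2 : Prop := AllSh fun Q E _ => (Om Q).ncard ≤ 8 → Ix Q E

/-- [A3] a union of three subgroups -/
structure BoxA3 : Prop where
  gen : AllSh fun {S} _ Q E Γ => ∀ X : Subgroup (MulAut S), X ≤ Γ → (∀ s ∈ E, MulAut.conj s ∈ X) →
    (∀ α ∈ Γ, ∀ β ∈ Γ, β * α * β⁻¹ * α⁻¹ ∈ X) → (CQ Q).relIndex X ≤ 3 → Ix Q E
  ns : AllSh fun {S} _ Q E _ => NS S 2 → (Ce Q).relIndex E ≤ 3 → Ix Q E

/-- [FX] -/
def BoxFX : Prop := ∀ (S : Type) [Group S], NS S 2 → AllQ S fun σ M b Q θ => ∀ A A₀, NCe 2 M b Q θ σ A A₀ →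
  ¬ S9 (Q.map σ) ((In Q θ).map σ)

/-- [V4'] -/
structure BoxV : Prop where
  v4 : ∀ (S : Type) [Group S], AllQ S fun σ _ b Q θ => Ix (Q.map σ) ((In Q θ).map σ) → ∀ A A₀, AHyp 2 b Q θ A A₀ → DL A →
    Cen 2 Q θ A ∨ NC' 2 b Q A
  dl : ∀ (S : Type) [Group S], OutC S → DLA S
  old : ∀ (S : Type) [Group S], Row2 S → Row S

/-- [T] the shadow of `NoT` -/
structure BoxT : Prop where
  ex : ∀ (S : Type) [Group S], AllQ S fun σ _ b Q θ => ¬ NoT b Q θ → ∃ Γ, St (Q.map σ) ((In Q θ).map σ) Γ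
  loc : ∀ (S : Type) [Group S], AllQ S fun σ _ _ Q θ => LocA 2 (Q.map σ) ∧ Nat.card (Q.map σ) = Nat.card Q ∧
    (Ce Q).map σ = Ce (Q.map σ) ∧ (Ce (Q.map σ)).relIndex ((In Q θ).map σ) = (Ce Q).relIndex (In Q θ)
  cor : ∀ (S : Type) [Group S] [Finite S] (Q E : Subgroup S) (Γ : Subgroup (MulAut S)), St Q E Γ →
    ¬ Ix Q E ∧ ¬ S9 Q E ∧ 3 ≤ (Ce Q).relIndex E ∧
    (Nat.card Q = 8 → 7 ≤ (Ce Q).relIndex E ∧ ∀ u ∈ Q, ∀ v ∈ Q, u ≠ 1 → v ≠ 1 → ∃ s ∈ E, s * u * s⁻¹ = v)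

section lam

variable {Y K : Type} [Group Y] [Group K]

/-- `D` is the Sylow `2`-subgroup of the preimage of `Q` -/
def Up {H : Subgroup Y} (π : H →* K) (Q : Subgroup K) (D : Subgroup Y) : Prop :=
  ∀ d, d ∈ D ↔ ∃ h : d ∈ H, π ⟨d, h⟩ ∈ Q ∧ ∃ j : ℕ, d ^ 2 ^ j = 1

/-- a character of `L` of defect zero modulo `D` whose inertial index in `H` is odd -/
structure Lam (H L D : Subgroup Y) (lam : Y → ℂ) : Prop where
  irr : IsIrrCharacter L fun g => lam g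
  zero : ∀ g, g ∉ L → lam g = 0
  triv : ∀ d ∈ D, lam d = lam 1
  deg : (Nat.card L).factorization 2 ≤ (charDegree fun g : L => lam g).factorization 2 + (Nat.card D).factorization 2
  odd : ∀ n ∈ H ⊓ In D lam, ∃ m : ℕ, ¬ 2 ∣ m ∧ n ^ m ∈ L

end lam

/-- [LAM] a constituent of the canonical character -/
def BoxLam : Prop := ∀ (Y K : Type) [Group Y] [Group K] (H L D : Subgroup Y) [Finite H] [Finite K] (π : H →* K)
  (M : Ideal AlgInt) (b : Set (IrrCharacter K)) (Q : Subgroup K) (θ : K → ℂ), Function.Surjective π → π.ker ≤ center H →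
  Can 2 M b Q θ → Up π Q D → D ≤ L → L ≤ H ⊓ Ce D → (∀ h : H, π h = 1 → (h : Y) ∈ L) →
  (∀ g ∈ H ⊓ Ce D, ¬ 2 ∣ orderOf g → g ∈ L) → (∀ x ∈ H, (∀ d, x * d * x⁻¹ ∈ D ↔ d ∈ D) → ∀ g, x * g * x⁻¹ ∈ L ↔ g ∈ L) →
  ∃ lam : Y → ℂ, Lam H L D lam ∧ (∀ n : H, (n : Y) ∈ In D lam → π n ∈ In Q θ) ∧
    ∀ x : Y, (∀ h, x * h * x⁻¹ ∈ H ↔ h ∈ H) → (∀ d, x * d * x⁻¹ ∈ D ↔ d ∈ D) → (∀ g, x * g * x⁻¹ ∈ L ↔ g ∈ L) →
      (∀ h h' : H, (h' : Y) = x * h * x⁻¹ → θ (π h') = θ (π h)) → ∃ c : H, π c ∈ Ce Q ∧ c * x ∈ In D lam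

/-- [LIFT] the inertial quotient in a central extension -/
def BoxLift : Prop := ∀ (H K : Type) [Group H] [Group K] [Finite H] [Finite K] (π : H →* K) (M : Ideal AlgInt)
  (b : Set (IrrCharacter K)) (Q : Subgroup K) (θ : K → ℂ), Function.Surjective π → π.ker ≤ center H → IsPGroup 2 π.ker →
  Can 2 M b Q θ → Q.comap π ≤ Ce (Q.comap π) →
  ∃ B θ', Can 2 M B (Q.comap π) θ' ∧ In Q θ = (In (Q.comap π) θ').map π ⊔ Ce Q

/-- [NS] -/
structure BoxNS : Prop where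
  psp : RowE.For 2 (fun S _ => NS S 2) KM.CPsp
  oodd : RowE.For 2 (fun S _ => NS S 2) KM.COdd
  oplus : ∀ (F : Type) [Field F] [Fintype F] (m : ℕ), (2 : F) ≠ 0 → 5 ≤ m → NS (POmega F (quadFormPlus m F)) 2
  ominus : RowE.For 2 (fun S _ => NS S 2) KM.CMinus
  f4 : RowE.For 2 (fun S _ => NS S 2) KM.CF4
  e7 : RowE.For 2 (fun S _ => NS S 2) KM.CE7
  e8 : RowE.For 2 (fun S _ => NS S 2) KM.CE8

/-- [D4o] -/
def BoxD4o : Prop := ∀ (F : Type) [Field F] [Fintype F], (2 : F) ≠ 0 → DLA (POmega F (quadFormPlus 4 F))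

/-- the pure boxes -/
structure Px : Prop where
  sh : BoxSh
  a2 : BoxA2
  a3 : BoxA3
  fx : BoxFX
  v : BoxV
  t : BoxT
  lam : BoxLam
  lift : BoxLift
  ns : BoxNS

section red

variable {S : Type} [Group S] [Finite S]

/-- **the reduction** -/
theorem Px.row (P : Px) (h1 : DLA S) (h2 : IxA S) (h3 : NoS S) : Row S := fun K _ _ σ M b Q θ H =>
  ⟨by_contra fun hn => let ⟨Γ, h⟩ := P.t.ex S K σ M b Q θ H hn; h3 K σ M b Q θ H Γ h, fun A A₀ hA hC => by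
    by_cases hn : Cen 2 Q θ A
    · exact .inl hn
    obtain ⟨-, Γ, Γ₀, k1, k2, -⟩ := P.sh 2 K S M b Q θ σ A A₀ ⟨H, hA, hn⟩
    exact P.v.v4 S K σ M b Q θ H (h2 K σ M b Q θ H A A₀ ⟨H, hA, hn⟩ Γ Γ₀ k1 fun β hβ =>
      let ⟨α, e1, _, e2⟩ := k2 β hβ; ⟨α, e1, e2⟩) A A₀ hA (h1 K σ M b Q θ H A A₀ hA hC)⟩

theorem Px.ixa (P : Px) (h1 : NS S 2) (h2 : Quad S) : IxA S := fun K _ _ σ M b Q θ H A A₀ hN Γ Γ₀ h _ => by
  rcases h2 K σ M b Q θ H with e | e | e | e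
  exacts [P.a2 S _ _ Γ Γ₀ h e, P.a3.ns S _ _ Γ Γ₀ h h1 e, e, (P.fx S h1 K σ M b Q θ H A A₀ hN e).elim]

/-- **the reduction**, normal Sylow subgroup of `Out S` -/
theorem Px.row_ns (P : Px) (h0 : OutC S) (h1 : NS S 2) (h2 : Quad S) (h3 : NoS S) : Row S :=
  P.row (P.v.dl S h0) (P.ixa h1 h2) h3

/-- **the reduction**, rank at most three -/
theorem Px.row_rk (P : Px) (h0 : OutC S) (h2 : ∀ Q : Subgroup S, LocA 2 Q → (Om Q).ncard ≤ 8) (h3 : NoS S) : Row S :=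
  P.row (P.v.dl S h0) (fun K _ _ σ M b Q θ H _ _ _ Γ Γ₀ h _ => P.a2 S _ _ Γ Γ₀ h (h2 _ (P.t.loc S K σ M b Q θ H).1)) h3

omit [Finite S] in
theorem Row.of_equiv {T : Type} [Group T] (e : S ≃* T) (h : Row T) : Row S := fun K _ _ _ M b Q θ H =>
  h K _ M b Q θ (H.congr e)

end red

/-! ### symplectic and orthogonal groups -/

section cl

open Cfsg.Agent.KM.Two (Fm)

/-- `E` is the central product of two quaternion groups -/
def QQ {R : Type} [Ring R] [StarRing R] (E : Subgroup (unitary R)) : Prop := ∃ i j i' j' : unitary R,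
  i * i = -1 ∧ j * j = -1 ∧ i * j = -(j * i) ∧ i' * i' = -1 ∧ j' * j' = -1 ∧ i' * j' = -(j' * i') ∧
  Commute i i' ∧ Commute i j' ∧ Commute j i' ∧ Commute j j' ∧ E = closure {i, j, i', j'} ∧ Nat.card E = 32

/-- [CN] the case of a non-abelian preimage -/
def BoxCN : Prop := ∀ (R : Type) [Ring R] [StarRing R] [Finite R] (Y : Type) [Group Y] [Finite Y] (f : Fm R Y)
  (G : Type) [Group G] [Finite G] (π : Y →* G), Function.Surjective π →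
  (∀ y, π y = 1 ↔ (f.j y : R) = 1 ∨ (f.j y : R) = -1) →
  ∀ (M : Ideal AlgInt) (b : Set (IrrCharacter G)) (D : Subgroup G) (θ : G → ℂ), Can 2 M b D θ →
    ¬ D.comap π ≤ Ce (D.comap π) → Idx D θ ∨ (QQ ((D.comap π).map f.j) ∧ S9 D (In D θ))

/-- [D4x] no defect group `2⁴` with extraspecial preimage in dimension eight -/
def BoxD4x : Prop := ∀ (F : Type) [Field F] [Finite F] (ι : Type) [Fintype ι] [DecidableEq ι] [StarRing (Matrix ι ι F)]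
  (J K : Matrix ι ι F), Fintype.card ι = 8 → J * K = 1 → Jᵀ = J → (∀ A : Matrix ι ι F, star A = K * Aᵀ * J) →
  ∀ (ν : unitary (Matrix ι ι F) →* ℤˣ × ℤˣ) (H E : Subgroup (unitary (Matrix ι ι F))) (n : ℕ), KM.Two.St ν H E n → ¬ QQ E

/-- [O73] -/
def BoxO73 : Prop := Px → ∀ (F : Type) [Field F] [Fintype F], Fintype.card F = 3 → Row (POmega F (quadFormOdd 3 F))

end cl

/-! ### linear and unitary groups -/

/-- equal degrees in the blocks with abelian defect groups -/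
def Nil (Γ : Type) [Group Γ] : Prop := ∀ (M : Ideal AlgInt) (B : Set (IrrCharacter Γ)) (P : Subgroup Γ) (θ : Γ → ℂ),
  Can 2 M B P θ → In P θ ≤ Ce P

/-- [NIL] -/
structure BoxNil : Prop where
  gl : ∀ (F : Type) [Field F] [Fintype F] (n : ℕ), (2 : F) ≠ 0 → Nil (GL (Fin n) F)
  gu : ∀ (F : Type) [Field F] [Fintype F] (n q : ℕ), (2 : F) ≠ 0 → Fintype.card F = q ^ 2 → Nil (GU n F q)

/-- `K` is a central quotient of the normal subgroup `N` of `Γ` with cyclic quotient -/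
structure OvA {Γ K : Type} [Group Γ] [Group K] (N : Subgroup Γ) [N.Normal] (π : N →* K) (act : Γ →* MulAut K) : Prop where
  surj : Function.Surjective π
  ker : ∀ n : N, π n = 1 → (n : Γ) ∈ center Γ
  cyc : IsCyclic (Γ ⧸ N)
  act_eq : ∀ (h : Γ) (n n' : N), (n' : Γ) = h * n * h⁻¹ → π n' = act h (π n)
  cen : ∀ g, act g = 1 → g ∈ center Γ
  fixZ : ∀ g, ∀ z ∈ center K, act g z = z
  nrm : ∀ α : MulAut K, ∀ β ∈ act.range, α * β * α⁻¹ ∈ act.range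
  nil : Nil Γ
  grp : ∀ (y : Γ) (P₀ : Sylow 2 (Cu y)) (P : Subgroup Γ), P = (P₀ : Subgroup (Cu y)).map (Cu y).subtype →
    Ab ((P.subgroupOf N).map π) → IsMulCommutative P ∨ Nat.card ((P.subgroupOf N).map π) ≤ 4
  bnd : ∀ m a : ℕ, m ∣ (Inn K).relIndex act.range → ¬ 2 ∣ m → 2 ^ a ∣ (center K).index → m * 2 ^ a < (center K).index

/-- [NC] -/
def BoxNC : Prop := ∀ (Γ : Type) [Group Γ] [Finite Γ] (N : Subgroup Γ) [N.Normal] (S : Type) [Group S],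
  AllQ S fun {K} _ _ _ _ b Q _ => ∀ (π : N →* K) (act : Γ →* MulAut K), OvA N π act →
    Nat.card Q ≤ 4 ∨ ∀ A ≤ Stab b, NC' 2 b Q A

/-- [NOT] -/
structure BoxNot : Prop where
  psl : ∀ (F : Type) [Field F] [Fintype F] (n : ℕ), (2 : F) ≠ 0 → 2 ≤ n → (n = 2 → 4 ≤ Fintype.card F) →
    ∀ Q E Γ, ¬ St (S := ProjectiveSpecialLinearGroup (Fin n) F) Q E Γ
  psu : ∀ (F : Type) [Field F] [Fintype F] (n q : ℕ), (2 : F) ≠ 0 → Fintype.card F = q ^ 2 → 3 ≤ n →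
    ∀ Q E Γ, ¬ St (S := PSU n F q) Q E Γ

/-! ### toral defect groups -/

section tor

variable {p : ℕ} [Fact p.Prime] {k : Type} [Field k] [CharP k p] {Y : Type} [Group Y] {N : Type} [Fintype N]
  [DecidableEq N] {ρ : Y →* GL N k} {F : MulAut Y} {G : Subgroup Y} [IsAlgClosed k] (X : Datum p ρ F G)

/-- `v` lies in the lattice of the connected centre modulo two -/
def Z2 (v : X.R → ℤ) : Prop := ∃ y, ∀ a, X.Rt a → X.wt a ⬝ᵥ (v - (2 : ℤ) • y) = 0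

/-- the torus of type `w` has odd order modulo the connected centre -/
def Od (w : X.W) : Prop := ∀ v, Z2 X ((X.Wm w * X.Mx) *ᵥ v - v) → Z2 X v

/-- labels of odd order -/
def Oo (c : Lbl X) : Prop := ∃ n : ℕ, ¬ 2 ∣ n ∧ c ^ n = 1

/-- no root is trivial on the label -/
def Rg (Φ : Set (X.I → ℤ)) (c : Lbl X) : Prop := ∀ a ∈ Φ, chr (X.cor a) c ≠ 1

/-- the stabiliser of an odd label is a Levi subgroup with one class of odd tori -/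
def AT : Prop := ∀ w c, Od X w → Fx X w c → Oo X c → ∃ lam, LeviOK X lam w c ∧ (∀ u, Rel X u c c ↔ u ∈ Wl X lam) ∧
  ∀ u ∈ Wl X lam, Od X (u * w) → ∃ v ∈ Wl X lam, Tc X v w (u * w)

/-- `F` acts as `± p ^ e` times an element of the Weyl group -/
def Sc : Prop := ∃ (e : ℕ) (m : ℤ) (φ : X.W), 0 < e ∧ (m = p ^ e ∨ m = -p ^ e) ∧ X.Mx = m • X.Wm φ

/-- a toral `2`-subgroup of rank at least three -/
structure TD (D : Subgroup Y) : Prop where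
  fin : Finite D
  le : D ≤ GF F G
  pg : IsPGroup 2 D
  z0 : D ≤ Z0 X D
  rk : 4 < (Om D).ncard

/-- the lattice facts in one frame -/
structure TL0 (a : ℕ) : Prop where
  sc : Sc X
  con : ∀ c, Oo X c → Rg X {b | X.Rt b} c → Nat.card {u // Rel X u c c} ≤ a
  lc : ∀ (D : Subgroup Y) (hZ : (D : Set Y) ⊆ X.T) (hF : ∀ b ∈ X.Sz D, X.g b ∈ X.Sz D), TD X D → AT (X.sub hZ hF rfl)

/-- the lattice facts -/
def TL (a : ℕ) : Prop := ∀ (y : Y) (hy : y ∈ G) (hN : y⁻¹ * F y ∈ X.NN), TL0 (X.conj hy hN) a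

/-- simply laced, simply connected, of rank at most eight (`E₆`, `E₇`, `E₈`) -/
structure LT (a : ℕ) : Prop extends KM.E2.LS X where
  sc : Sc X
  rk : Fintype.card X.R ≤ 8
  alt : (a = 1 ∧ ∀ m : X.R → ℤ, (2 : ℤ) • m ∈ Submodule.span ℤ (X.wt '' {b | X.Rt b})) ∨
    (a = 3 ∧ Fintype.card X.R ≤ 6 ∧ (∀ m : X.R → ℤ, (3 : ℤ) • m ∈ Submodule.span ℤ (X.wt '' {b | X.Rt b})) ∧
      (Submodule.span ℤ (X.wt '' {b | X.Rt b})).toAddSubgroup.index ≤ 3 ∧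
      ∀ α β, X.Rt α → X.Rt β → KM.E2.pr X α β = -1 → ∃ c, X.Rt c ∧ KM.E2.pr X α c = 1 ∧ KM.E2.pr X β c = 0)

variable (F G) in
/-- the elements which are rational modulo the centre -/
def Ht : Subgroup Y where
  carrier := {x | x ∈ G ∧ x⁻¹ * F x ∈ center Y}
  one_mem' := ⟨one_mem _, by simp⟩
  mul_mem' {x y} hx hy := ⟨mul_mem hx.1 hy.1, by
    rw [show (x * y)⁻¹ * F (x * y) = y⁻¹ * (x⁻¹ * F x) * F y by rw [map_mul]; group,
      mem_center_iff.1 hx.2, mul_assoc]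
    exact mul_mem hx.2 hy.2⟩
  inv_mem' {x} hx := ⟨inv_mem hx.1, by
    rw [show x⁻¹⁻¹ * F x⁻¹ = x * (x⁻¹ * F x)⁻¹ * x⁻¹ by rw [map_inv]; group, mem_center_iff.1 (inv_mem hx.2),
      mul_inv_cancel_right]
    exact inv_mem hx.2⟩

end tor

/-- [WL] an involution in the stabiliser of the label -/
def BoxWL : Prop := AllD fun {p} _ _ _ _ {Y} _ _ _ _ _ {F} _ _ X => p ≠ 2 → Sc X → ∀ (D : Subgroup Y) (c : Lbl X),
  Finite D → IsPGroup 2 D → D ≤ X.T → (∀ d ∈ D, F d = d) → Fx X 1 c → Rg X (X.Sz D) c →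
  Rg X {b | X.Rt b} c ∨ ∃ r : X.W, r ≠ 1 ∧ r * r = 1 ∧ X.Fw r = r ∧ Rel X r c c

/-- [LB] the labels of a character of central defect -/
def BoxLB : Prop := AllD fun {p} _ _ _ _ {Y} _ _ _ _ _ {F} {G} _ X => p ≠ 2 → X.QS → ∀ (f : Fr X) [Fintype ↥(GF F G)]
  (D : Subgroup Y) (χ : GF F G → ℂ), D ≤ GF F G → IsPGroup 2 D → D ≤ Z0 X {1} → IsIrrCharacter (GF F G) χ →
  (∀ d : GF F G, (d : Y) ∈ D → χ d = χ 1) →
  (Nat.card ↥(GF F G)).factorization 2 ≤ (charDegree χ).factorization 2 + (Nat.card D).factorization 2 →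
  ∀ w c, classInner χ (RW f w c) ≠ 0 → Od X w ∧ Oo X c ∧ KM.Uu.SylIn F 2 (Tw X w) D

/-- [SC] the Deligne-Lusztig character is irreducible -/
structure BoxSC : Prop where
  conj : AllD fun {_} _ _ _ _ {Y} _ _ _ _ _ {F} {G} _ X => ∀ (y : Y) (hy : y ∈ G) (hN : y⁻¹ * F y ∈ X.NN), AT X →
    AT (X.conj hy hN)
  irr : AllD fun {_} _ _ _ _ _ _ _ _ _ _ {F} {G} _ X => X.QS → AT X → ∀ (f : Fr X) [Fintype ↥(GF F G)] (χ : GF F G → ℂ),
    IsIrrCharacter (GF F G) χ → (∀ w c, classInner χ (RW f w c) ≠ 0 → Od X w ∧ Oo X c) →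
    ∀ w c, classInner χ (RW f w c) ≠ 0 → (RW f w c = χ ∨ RW f w c = -χ) ∧ (∀ v, Tc X v w w → Rel X v c c → v = 1) ∧
      Rg X {b | X.Rt b} c

/-- [TOR] the inertial index of a toral defect group -/
def BoxTor : Prop := AllD fun {p} _ _ _ _ {Y} _ _ _ _ _ {F} {G} _ X => p ≠ 2 → ∀ a, TL X a → Finite ↥(GF F G) →
  ∀ (D : Subgroup Y) (lam : Y → ℂ), TD X D → Lam (GF F G) (GF F (X.cen D)) D lam →
  (Ce D).relIndex (Ht F G ⊓ In D lam) ≠ 0 ∧ (Ce D).relIndex (Ht F G ⊓ In D lam) ≤ a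

/-- [LC], [CON] -/
structure BoxLC : Prop where
  lc : AllD fun {p} _ _ _ _ {Y} _ _ _ _ _ _ _ _ X => p ≠ 2 → ∀ a, LT X a → ∀ (D : Subgroup Y) (hZ : (D : Set Y) ⊆ X.T)
    (hF : ∀ b ∈ X.Sz D, X.g b ∈ X.Sz D), TD X D → AT (X.sub hZ hF rfl)
  con : AllD fun {_} _ _ _ _ _ _ _ _ _ _ _ _ _ X => ∀ a, LT X a → ∀ c, Oo X c → Rg X {b | X.Rt b} c →
    Nat.card {u // Rel X u c c} ≤ a
  conj : AllD fun {_} _ _ _ _ {Y} _ _ _ _ _ {F} {G} _ X => ∀ a (y : Y) (hy : y ∈ G) (hN : y⁻¹ * F y ∈ X.NN), LT X a →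
    LT (X.conj hy hN) a

/-- [TB] the block form: a toral defect group of a central quotient of `G ^ F` -/
def BoxTB : Prop := AllD fun {p} _ _ _ _ {Y} _ _ _ _ _ {F} {G} _ X => p ≠ 2 → ∀ a, TL X a → Finite ↥(GF F G) →
  ∀ (K : Type) [Group K] [Finite K] (π : GF F G →* K) (M : Ideal AlgInt) (b : Set (IrrCharacter K)) (Q : Subgroup K)
    (θ : K → ℂ) (D : Subgroup Y), Function.Surjective π → (∀ h, π h = 1 → (h : Y) ∈ KM.E2.ZG X) → Can 2 M b Q θ →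
    Up π Q D → Toral X D → 4 < (Om D).ncard → ∀ (U : Subgroup (MulAut K)), U ≤ LA Q θ →
    (∀ α ∈ U, ∃ x ∈ Ht F G, ∀ h h' : GF F G, (h' : Y) = x * h * x⁻¹ → π h' = α (π h)) → (CQ Q).relIndex U ≤ a

/-- [P3N] pure subgroups of order eight are toral -/
def BoxP3n : Prop := AllD fun {p} _ _ _ _ {Y} _ _ _ _ _ _ {G} _ X => p ≠ 2 → KM.E2.L8 X → KM.E2.P8 X →
  ∀ V : Subgroup Y, V ≤ G → (∀ v ∈ V, v * v = 1) → KM.E2.Pure X V → Nat.card V = 8 → ∃ g ∈ G, ∀ v ∈ V, g⁻¹ * v * g ∈ X.T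

/-- all boxes which the rows may use -/
structure Bx : Prop extends Px where
  d4o : BoxD4o
  cn : BoxCN
  d4x : BoxD4x
  o73 : BoxO73
  nil : BoxNil
  nc : BoxNC
  nt : BoxNot
  tb : BoxTB
  lc : BoxLC
  p3n : BoxP3n

end Cfsg.Agent.BH.R2
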