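import Cfsg.Agent.BH.Row2L.Defs
import Cfsg.Agent.KM.E2.D4
import Cfsg.Agent.KM.Tor.K0
import Cfsg.Agent.DL.CF.Uni

/-!
# BH, row `2` : the root lattice of the Levi subgroup has no odd cotorsion (helper95)
-/

set_option autoImplicit false
set_option linter.unusedSectionVars false

namespace Cfsg.Agent.BH.R2.LCt

open Cfsg Matrix Cfsg.Agent.DL Cfsg.Agent.KM.Tor Cfsg.Agent.ChevalleyStructure.CoxeterGeom Cfsg.Agent.Tits.Roots Module
open Cfsg.Agent.KM.Ev (Om)
open Cfsg.Agent.KM.Ht (Z0)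
open Cfsg.Agent.KM.E2.D4 (tw tw_congr exists_two)

/-- at most three nodes -/
theorem three {I : Type} [Fintype I] [DecidableEq I] {A : I → I → ℤ} {γ : I → ℤ} {J : Finset I} (hJ : J.card ≤ 3)
    (hγ : ∀ i ∉ J, γ i = 0) (h2 : ∀ i, A i i = 2)
    (h1 : ∀ i j, i ≠ j → (A i j = 0 ∧ A j i = 0) ∨ (A i j = -1 ∧ A j i = -1)) (h3 : ∀ i, 3 ∣ ∑ l, A i l * γ l)
    (h4 : ∀ i j, A j i = -1 → ∃ f : I → ℤ, f i = 1 ∧ f j = 0 ∧ 3 ∣ ∑ l, f l * γ l)
    (h5 : ∀ i j l, i ≠ j → i ≠ l → j ≠ l → A i j = -1 → A i l = -1 → A j l ≠ -1) (i : I) : 3 ∣ γ i := by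
  set S : Finset I := Finset.univ.filter fun i => ¬ 3 ∣ γ i with hS
  have mem : ∀ i, i ∈ S ↔ ¬ 3 ∣ γ i := fun i => by simp [hS]
  have key : ∀ f : I → ℤ, 3 ∣ ∑ l, f l * γ l → 3 ∣ ∑ l ∈ S, f l * γ l := fun f h => by
    rw [← Finset.sum_filter_add_sum_filter_not Finset.univ fun i => ¬ 3 ∣ γ i] at h
    exact (dvd_add_left (Finset.dvd_sum fun l hl => (not_not.1 (Finset.mem_filter.1 hl).2).mul_left _)).1 h
  have hc : S.card ≤ 3 := (Finset.card_le_card fun i hi => by_contra fun h => (mem i).1 hi (hγ i h ▸ dvd_zero _)).trans hJ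
  by_contra hi
  have h0 := Finset.card_pos.2 ⟨i, (mem i).2 hi⟩
  obtain e | e | e : S.card = 1 ∨ S.card = 2 ∨ S.card = 3 := by omega
  · obtain ⟨a, e⟩ := Finset.card_eq_one.1 e
    have ha := (mem a).1 (by simp [e])
    have k := key _ (h3 a)
    rw [e, Finset.sum_singleton, h2] at k
    omega
  · obtain ⟨a, b, hab, e⟩ := Finset.card_eq_two.1 e
    have ha := (mem a).1 (by simp [e])
    rcases h1 a b hab with ⟨e1, -⟩ | ⟨-, e1⟩
    · have k := key _ (h3 a)
      rw [e, Finset.sum_pair hab, h2, e1] at k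
      omega
    · obtain ⟨f, f1, f2, f3⟩ := h4 a b e1
      have k := key _ f3
      rw [e, Finset.sum_pair hab, f1, f2] at k
      omega
  · obtain ⟨a, b, c, hab, hac, hbc, e⟩ := Finset.card_eq_three.1 e
    have ha := (mem a).1 (by simp [e])
    have hb := (mem b).1 (by simp [e])
    have hc := (mem c).1 (by simp [e])
    have ka := key _ (h3 a)
    have kb := key _ (h3 b)
    have kc := key _ (h3 c)
    rw [e, Finset.sum_insert (by simp [hab, hac]), Finset.sum_pair hbc, h2] at ka kb kc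
    have k := h5 a b c hab hac hbc
    rcases h1 a b hab with ⟨e1, e2⟩ | ⟨e1, e2⟩ <;> rcases h1 a c hac with ⟨e3, e4⟩ | ⟨e3, e4⟩ <;>
      rcases h1 b c hbc with ⟨e5, e6⟩ | ⟨e5, e6⟩ <;> rw [e1, e3] at ka <;> rw [e2, e5] at kb <;> rw [e4, e6] at kc <;> omega

variable {p : ℕ} [Fact p.Prime] {k : Type} [Field k] [CharP k p] {Y : Type} [Group Y] {N : Type} [Fintype N]
  [DecidableEq N] {ρ : Y →* GL N k} {F : MulAut Y} {G : Subgroup Y} [IsAlgClosed k] (X : Datum p ρ F G)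

/-- `v` moves the standard Levi subsystem of `J` to `Ψ` -/
structure Bs (Ψ : Set (X.I → ℤ)) (v : X.W) (J : Finset X.I) : Prop where
  rt : ∀ a ∈ Ψ, X.Rt a
  mem : ∀ a, X.Rt a → (X.act v a ∈ Ψ ↔ ∀ i ∉ J, a i = 0)

/-- the cocharacters orthogonal to `Ψ` -/
def PP (Ψ : Set (X.I → ℤ)) : Submodule ℤ (X.R → ℤ) where
  carrier := {u | Pp X Ψ u}
  zero_mem' := fun _ _ => dotProduct_zero _
  add_mem' ha hb := fun b h => by rw [dotProduct_add, ha b h, hb b h, add_zero]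
  smul_mem' c _ ha := fun b h => by rw [dotProduct_smul, ha b h, smul_zero]

/-- principal minors of the Cartan matrix do not vanish -/
theorem nd {a : X.I → ℤ} (h : ∀ i, a i ≠ 0 → pairing X.A i a = 0) : a = 0 := by
  have := Fintype.ofFinite X.W
  by_contra h0
  have h1 := form_pos X.cs X.h h0
  rw [form_eq_sum, Finset.sum_eq_zero] at h1
  · exact lt_irrefl _ h1
  intro i _
  by_cases hi : a i = 0
  · rw [hi, zero_mul]
  have h2 := two_form X.cs X.h i a
  rw [h i hi, zero_mul] at h2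
  rw [show form X.cs X.h a (sr i) = 0 by omega, mul_zero]

theorem wa_smul (v : X.W) (c : ℤ) (a : X.I → ℤ) : X.wt (X.act v (c • a)) = c • X.wt (X.act v a) := by
  rw [show X.act v (c • a) = c • X.act v a from map_smul _ _ _, map_zsmul]

theorem wa_add (v : X.W) (a b : X.I → ℤ) : X.wt (X.act v (a + b)) = X.wt (X.act v a) + X.wt (X.act v b) := by
  rw [show X.act v (a + b) = X.act v a + X.act v b from map_add _ _ _, map_add]

theorem wa_zero (v : X.W) : X.wt (X.act v 0) = 0 := by rw [show X.act v 0 = 0 from map_zero _, map_zero]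

theorem wa_sum (v : X.W) (a : X.I → ℤ) : X.wt (X.act v a) = ∑ i, a i • X.wt (X.act v (sr i)) := by
  conv_lhs => rw [X.eq_sum_sr a]
  rw [show X.act v (∑ i, a i • sr i) = ∑ i, X.act v (a i • sr i) from map_sum _ _ _, map_sum]
  exact Finset.sum_congr rfl fun i _ => wa_smul X v _ _

theorem wt_sum (v : X.W) (a : X.I → ℤ) (u : X.R → ℤ) :
    X.wt (X.act v a) ⬝ᵥ u = ∑ i, X.wt (X.act v (sr i)) ⬝ᵥ u * a i := by
  rw [wa_sum, sum_dotProduct]
  exact Finset.sum_congr rfl fun i _ => by rw [smul_dotProduct, smul_eq_mul, mul_comm]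

theorem dot_sr (v : X.W) (a : X.I → ℤ) (i : X.I) : X.wt (X.act v a) ⬝ᵥ X.cor (X.act v (sr i)) = pairing X.A i a := by
  rw [X.cor_act_sr, dot_Wm, act_inv_act]
  exact X.pair i a

theorem dot_srsr (v : X.W) (i j : X.I) : X.wt (X.act v (sr j)) ⬝ᵥ X.cor (X.act v (sr i)) = X.A i j := by
  rw [dot_sr, pairing]
  simp [sr, Pi.single_apply]

theorem exists_all (v : X.W) {x : X.R → ℤ} (h : x ∈ Submodule.span ℤ (X.wt '' {b | X.Rt b})) :
    ∃ γ, x = X.wt (X.act v γ) := by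
  induction h using Submodule.span_induction with
  | mem x h => obtain ⟨b, -, rfl⟩ := h; exact ⟨X.act v⁻¹ b, by rw [act_act_inv]⟩
  | zero => exact ⟨0, (wa_zero X v).symm⟩
  | add x y _ _ h h' =>
    obtain ⟨⟨a, rfl⟩, b, rfl⟩ := And.intro h h'
    exact ⟨a + b, (wa_add X v a b).symm⟩
  | smul c x _ h => obtain ⟨a, rfl⟩ := h; exact ⟨c • a, (wa_smul X v c a).symm⟩

variable {X} {Ψ : Set (X.I → ℤ)} {v : X.W} {J : Finset X.I}

theorem exists_bs (h0 : ∀ a ∈ Ψ, X.Rt a) (h : Lvs X Ψ) : ∃ v J, Bs X Ψ v J := by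
  obtain ⟨lam, h⟩ := h
  obtain ⟨v, hv⟩ := CF.exists_dominant X (AddMonoidHom.mk' (fun a => X.wt a ⬝ᵥ lam) fun a b => by
    rw [map_add, add_dotProduct])
  replace hv : ∀ i, 0 ≤ X.wt (X.act v (sr i)) ⬝ᵥ lam := hv
  refine ⟨v, Finset.univ.filter fun i => X.wt (X.act v (sr i)) ⬝ᵥ lam = 0, h0, fun a ha => ?_⟩
  rw [h _ (ha.act v), wt_sum]
  simp only [Finset.mem_filter, Finset.mem_univ, true_and]
  refine ⟨fun e i hi => ?_, fun e => Finset.sum_eq_zero fun i _ => ?_⟩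
  · obtain ⟨w, j, rfl⟩ := ha
    refine (mul_eq_zero.1 ?_).resolve_left hi
    rcases nonneg_or_nonpos X.cs X.h w j with h1 | h1
    · exact (Finset.sum_eq_zero_iff_of_nonneg fun l _ => mul_nonneg (hv l) (h1 l)).1 e i (Finset.mem_univ i)
    · exact (Finset.sum_eq_zero_iff_of_nonpos fun l _ => mul_nonpos_of_nonneg_of_nonpos (hv l) (h1 l)).1 e i (Finset.mem_univ i)
  · exact mul_eq_zero.2 (or_iff_not_imp_left.2 (e i))

theorem Bs.sr_mem (h : Bs X Ψ v J) {j : X.I} (hj : j ∈ J) : X.act v (sr j) ∈ Ψ :=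
  (h.mem _ (isRoot_sr _ _ j)).2 fun i hi => Pi.single_eq_of_ne (fun e : i = j => hi (e ▸ hj)) _

theorem Bs.span_iff (h : Bs X Ψ v J) {x : X.R → ℤ} :
    x ∈ Submodule.span ℤ (X.wt '' Ψ) ↔ ∃ γ : X.I → ℤ, (∀ i ∉ J, γ i = 0) ∧ x = X.wt (X.act v γ) := by
  constructor
  · intro hx
    induction hx using Submodule.span_induction with
    | mem x hx =>
      obtain ⟨b, hb, rfl⟩ := hx
      exact ⟨X.act v⁻¹ b, (h.mem _ ((h.rt b hb).act _)).1 (by rwa [act_act_inv]), by rw [act_act_inv]⟩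
    | zero => exact ⟨0, fun _ _ => rfl, (wa_zero X v).symm⟩
    | add x y _ _ h h' =>
      obtain ⟨⟨a, ha, rfl⟩, b, hb, rfl⟩ := And.intro h h'
      exact ⟨a + b, fun i hi => by rw [Pi.add_apply, ha i hi, hb i hi, add_zero],
        (wa_add X v a b).symm⟩
    | smul c x _ h =>
      obtain ⟨a, ha, rfl⟩ := h
      exact ⟨c • a, fun i hi => by rw [Pi.smul_apply, ha i hi, smul_zero], (wa_smul X v c a).symm⟩
  · rintro ⟨γ, hγ, rfl⟩
    rw [wa_sum]
    refine Submodule.sum_mem _ fun i _ => ?_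
    by_cases hi : i ∈ J
    · exact Submodule.smul_mem _ _ (Submodule.subset_span ⟨_, h.sr_mem hi, rfl⟩)
    · rw [hγ i hi, zero_smul]
      exact zero_mem _

/-- **the root lattice of a Levi subsystem is saturated in the root lattice** -/
theorem Bs.par (h : Bs X Ψ v J) {m : X.R → ℤ} {c n : ℤ} (hn : n ≠ 0) (h1 : c • m ∈ Submodule.span ℤ (X.wt '' {b | X.Rt b}))
    (h2 : n • m ∈ Submodule.span ℤ (X.wt '' Ψ)) : c • m ∈ Submodule.span ℤ (X.wt '' Ψ) := by
  obtain ⟨γ, e1⟩ := exists_all X v h1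
  obtain ⟨δ, hδ, e2⟩ := h.span_iff.1 h2
  refine h.span_iff.2 ⟨γ, fun i hi => ?_, e1⟩
  have h3 : n • γ = c • δ := act_inj v (X.wt_injective (by
    rw [wa_smul, wa_smul, ← e1, ← e2, smul_comm]))
  have h4 := congrFun h3 i
  rw [Pi.smul_apply, Pi.smul_apply, hδ i hi, smul_zero, smul_eq_mul] at h4
  exact (mul_eq_zero.1 h4).resolve_left hn

theorem Bs.card (h : Bs X Ψ v J) (hs : Sl X) : finrank ℤ (PP X Ψ) + J.card ≤ Fintype.card X.R := by
  let g : (PP X Ψ × (J → ℤ)) →ₗ[ℤ] (X.R → ℤ) :=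
    (PP X Ψ).subtype.coprod (Fintype.linearCombination ℤ fun j : J => X.cor (X.act v (sr (j : X.I))))
  have hg : Function.Injective g := by
    rw [injective_iff_map_eq_zero]
    rintro ⟨u, y⟩ e
    replace e : (u : X.R → ℤ) + ∑ j : J, y j • X.cor (X.act v (sr (j : X.I))) = 0 := e
    let a : X.I → ℤ := fun i => if hi : i ∈ J then y ⟨i, hi⟩ else 0
    have ha : a = 0 := nd X fun i hi => by
      have hJ : i ∈ J := by_contra fun h => hi (dif_neg h)
      have h1 := congrArg (X.wt (X.act v (sr i)) ⬝ᵥ ·) e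
      simp only [dotProduct_add, dotProduct_sum, dotProduct_smul, dotProduct_zero] at h1
      rw [u.2 _ (h.sr_mem hJ), zero_add] at h1
      rw [pairing, ← Finset.sum_subset (Finset.subset_univ J) fun l _ hl => by rw [show a l = 0 from dif_neg hl, mul_zero],
        ← Finset.sum_coe_sort, ← h1]
      refine Finset.sum_congr rfl fun j _ => ?_
      rw [hs _ _ ((isRoot_sr _ _ i).act v) ((isRoot_sr _ _ j.1).act v), dot_srsr, show a j = y j from dif_pos j.2, smul_eq_mul,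
        mul_comm]
    have hy : y = 0 := funext fun j => (dif_pos j.2).symm.trans (congrFun ha j)
    subst hy
    simp only [Pi.zero_apply, zero_smul, Finset.sum_const_zero, add_zero] at e
    exact Prod.ext (Subtype.ext e) rfl
  have h1 := LinearMap.finrank_le_finrank_of_injective hg
  rwa [finrank_prod, finrank_fintype_fun_eq_card, finrank_fintype_fun_eq_card, Fintype.card_coe] at h1

/-- the involutions of the connected centre -/
theorem om_le {D : Subgroup Y} (h : D ≤ Z0 X D) : (Om D).ncard ≤ 2 ^ finrank ℤ (PP X (X.Sz D)) := by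
  let b := finBasis ℤ (PP X (X.Sz D))
  let f : (Fin (finrank ℤ (PP X (X.Sz D))) → Fin 2) → Y := fun ε => tw X (∑ i, ((ε i : ℕ) : ℤ) • (b i : X.R → ℤ))
  have h1 : Om D ⊆ f '' Set.univ := fun d hd => by
    obtain ⟨u, hu, rfl⟩ := exists_two (h hd.1) hd.2
    obtain ⟨c, rfl⟩ : ∃ c : _ → ℤ, u = ∑ i, c i • (b i : X.R → ℤ) :=
      ⟨b.repr ⟨u, hu⟩, (congrArg Subtype.val (b.sum_repr ⟨u, hu⟩).symm).trans (Submodule.coe_sum _ _ _)⟩
    refine ⟨fun i => ⟨(c i % 2).toNat, by omega⟩, trivial, tw_congr fun r => ?_⟩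
    rw [← Finset.sum_sub_distrib, Finset.sum_apply]
    refine Finset.dvd_sum fun i _ => ?_
    rw [← sub_smul, Pi.smul_apply, smul_eq_mul]
    exact Dvd.dvd.mul_right (by show (2 : ℤ) ∣ ((c i % 2).toNat : ℤ) - c i; omega) _
  refine (Set.ncard_le_ncard h1 (Set.finite_univ.image f)).trans ((Set.ncard_image_le Set.finite_univ).trans ?_)
  simp [Set.ncard_univ]

/-- **the rank of the Levi subsystem** -/
theorem exists_base {D : Subgroup Y} (hs : Sl X) (hD : TD X D) :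
    ∃ v J, Bs X (X.Sz D) v J ∧ J.card + 3 ≤ Fintype.card X.R := by
  obtain ⟨v, J, h⟩ := exists_bs (X := X) (Ψ := X.Sz D) (fun _ h => h.1) (qc_of_le hD.z0)
  refine ⟨v, J, h, ?_⟩
  have h1 := h.card hs
  have h2 : 2 ^ 2 < 2 ^ finrank ℤ (PP X (X.Sz D)) := hD.rk.trans_le (om_le hD.z0)
  have h3 := (Nat.pow_lt_pow_iff_right one_lt_two).1 h2
  omega

theorem car (hs : Sl X) {i j : X.I} (h : i ≠ j) : (X.A i j = 0 ∧ X.A j i = 0) ∨ (X.A i j = -1 ∧ X.A j i = -1) := by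
  have h1 := hs _ _ ((isRoot_sr _ _ i).act 1) ((isRoot_sr _ _ j).act 1)
  rw [dot_srsr, dot_srsr] at h1
  have h2 := X.h.rel i j h
  omega

/-- **no odd cotorsion** -/
theorem tf {a : ℕ} (h : LT X a) {D : Subgroup Y} (hD : TD X D) {m : X.R → ℤ} {n : ℕ} (hn : ¬ 2 ∣ n)
    (hm : (n : ℤ) • m ∈ Submodule.span ℤ (X.wt '' X.Sz D)) : m ∈ Submodule.span ℤ (X.wt '' X.Sz D) := by
  obtain ⟨v, J, B, hJ⟩ := exists_base h.sl hD
  have h0 : (n : ℤ) ≠ 0 := by omega
  rcases h.alt with ⟨-, h2⟩ | ⟨-, h6, h3, -, hc⟩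
  · have h1 := Submodule.sub_mem _ hm (Submodule.smul_mem _ ((n : ℤ) / 2) (B.par h0 (h2 m) hm))
    rwa [smul_smul, ← sub_smul, show (n : ℤ) - n / 2 * 2 = 1 by omega, one_smul] at h1
  obtain ⟨γ, hγ, e⟩ := B.span_iff.1 (B.par h0 (h3 m) hm)
  have key : ∀ u, 3 ∣ ∑ l, X.wt (X.act v (sr l)) ⬝ᵥ u * γ l := fun u => by
    rw [← wt_sum, ← e, smul_dotProduct]
    exact dvd_mul_right _ _
  have h1 : ∀ i, 3 ∣ γ i := three (A := X.A) (by omega : J.card ≤ 3) hγ X.h.diag (fun i j => car h.sl)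
    (fun i => by simpa only [dot_srsr] using key (X.cor (X.act v (sr i))))
    (fun i j e => by
      obtain ⟨c, -, e1, e2⟩ := hc _ _ ((isRoot_sr _ _ i).act v) ((isRoot_sr _ _ j).act v) ((dot_srsr X v j i).trans e)
      exact ⟨fun l => X.wt (X.act v (sr l)) ⬝ᵥ X.cor c, e1, e2, key _⟩)
    fun i j l h1 h2 h3 e1 e2 e3 => by
      have k1 := car h.sl h1
      have k2 := car h.sl h2
      have k3 := car h.sl h3
      have k := X.h.diag
      have h4 : ∀ t, pairing X.A t (sr i + sr j + sr l) = X.A t i + X.A t j + X.A t l := fun t => by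
        simp [pairing, sr, Pi.single_apply, mul_add, Finset.sum_add_distrib]
      have h5 : (sr i + sr j + sr l : X.I → ℤ) = 0 := nd X fun t ht => by
        rw [h4]
        by_cases t1 : t = i
        · subst t1; have := k t; omega
        by_cases t2 : t = j
        · subst t2; have := k t; omega
        by_cases t3 : t = l
        · subst t3; have := k t; omega
        exact absurd (by simp [sr, t1, t2, t3]) ht
      have h6 := congrFun h5 i
      simp [sr, h1, h2] at h6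
  choose δ hδ using h1
  obtain rfl : γ = (3 : ℤ) • δ := funext hδ
  refine B.span_iff.2 ⟨δ, fun i hi => ?_, smul_right_injective _ (show (3 : ℤ) ≠ 0 by decide) ?_⟩
  · have := hγ i hi
    rw [Pi.smul_apply, smul_eq_mul] at this
    omega
  · show (3 : ℤ) • m = (3 : ℤ) • _
    rw [e, wa_smul]

theorem img_sub {Z : Set Y} (hZ : Z ⊆ X.T) (hF : ∀ b ∈ X.Sz Z, X.g b ∈ X.Sz Z) :
    (X.sub hZ hF rfl).wt '' {b | (X.sub hZ hF rfl).Rt b} = X.wt '' X.Sz Z := by
  rw [← X.io_roots Z, ← Set.image_comp]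
  rfl

/-- **no odd cotorsion**, in the datum of the centraliser -/
theorem tf_sub {a : ℕ} (h : LT X a) {D : Subgroup Y} (hZ : (D : Set Y) ⊆ X.T) (hF : ∀ b ∈ X.Sz D, X.g b ∈ X.Sz D)
    (hD : TD X D) {m : (X.sub hZ hF rfl).R → ℤ} {n : ℕ} (hn : ¬ 2 ∣ n)
    (hm : (n : ℤ) • m ∈ Submodule.span ℤ ((X.sub hZ hF rfl).wt '' {b | (X.sub hZ hF rfl).Rt b})) :
    m ∈ Submodule.span ℤ ((X.sub hZ hF rfl).wt '' {b | (X.sub hZ hF rfl).Rt b}) := by
  rw [img_sub] at hm ⊢
  exact tf h hD hn hm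

end Cfsg.Agent.BH.R2.LCt
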