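import Cfsg.Agent.BH.Row2L.Defs

/-!
# BH, Row2L, `boxNot`: the combinatorics of the weight spaces (helper90)
-/

set_option autoImplicit false
set_option linter.unusedSectionVars false

namespace Cfsg.Agent.BH.R2.Nt

open Cfsg Subgroup Cfsg.Agent.TO

variable {G X κ : Type} [Group G] [Group X] [Fintype κ] [DecidableEq κ]

/-- the involutions over `Q` -/
def Tv (π : G →* X) (Q : Subgroup X) (t : G) : Prop := π t ∈ Q ∧ t * t = 1

/-- `Ψ` moves the weights -/
def Mv (π : G →* X) (Q : Subgroup X) (sp : G → Finset κ) (Ψ : MulAut G) : Prop :=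
  (∀ t, Tv π Q t → Tv π Q (Ψ t)) → ∀ i, ∃ j, ∀ t, Tv π Q t → (j ∈ sp (Ψ t) ↔ i ∈ sp t)

/-- `Ψ` induces `σ` on the weights -/
def Pm (π : G →* X) (Q : Subgroup X) (sp : G → Finset κ) (Ψ : MulAut G) (σ : Equiv.Perm κ) : Prop :=
  (∀ t, Tv π Q (Ψ t) ↔ Tv π Q t) ∧ ∀ t, Tv π Q t → ∀ i, σ i ∈ sp (Ψ t) ↔ i ∈ sp t

/-- the weights of the group of involutions over `Q` -/
structure At (π : G →* X) (Q : Subgroup X) (sp : G → Finset κ) (O : Finset κ) : Prop where
  surj : Function.Surjective π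
  all : ∀ u ∈ Q, ∃ t, Tv π Q t ∧ π t = u
  eq : ∀ t t', Tv π Q t → Tv π Q t' → (π t = π t' ↔ sp t = sp t' ∨ sp t = (sp t')ᶜ)
  one : sp 1 = ∅
  ev : ∀ S, Even (S ∩ O).card ↔ ∃ t, Tv π Q t ∧ sp t = S
  sep : ∀ i j, (∀ t, Tv π Q t → (i ∈ sp t ↔ j ∈ sp t)) → i = j
  aut : ∀ α : MulAut X, ∃ Ψ : MulAut G, (∀ g, π (Ψ g) = α (π g)) ∧ Mv π Q sp Ψ
  cj : ∀ g, Mv π Q sp (MulAut.conj g)

variable {π : G →* X} {Q E : Subgroup X} {Δ : Subgroup (MulAut X)} {sp : G → Finset κ} {O : Finset κ}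
  {Ψ Φ : MulAut G} {σ τ : Equiv.Perm κ}

theorem tv_one : Tv π Q 1 := ⟨by rw [map_one]; exact one_mem _, one_mul _⟩

theorem pm_one : Pm π Q sp 1 1 := ⟨fun _ => Iff.rfl, fun _ _ _ => Iff.rfl⟩

theorem Pm.mul (h : Pm π Q sp Ψ σ) (h' : Pm π Q sp Φ τ) : Pm π Q sp (Ψ * Φ) (σ * τ) :=
  ⟨fun t => (h.1 _).trans (h'.1 t), fun t ht i => (h.2 _ ((h'.1 t).2 ht) _).trans (h'.2 t ht i)⟩

theorem Pm.inv (h : Pm π Q sp Ψ σ) : Pm π Q sp Ψ⁻¹ σ⁻¹ := by
  have h1 : ∀ t, Tv π Q (Ψ⁻¹ t) ↔ Tv π Q t := fun t => by rw [← h.1, MulAut.apply_inv_self]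
  refine ⟨h1, fun t ht i => ?_⟩
  rw [← h.2 _ ((h1 t).2 ht), MulAut.apply_inv_self, show σ (σ⁻¹ i) = i from σ.apply_symm_apply i]

theorem Pm.sp_eq (h : Pm π Q sp Ψ σ) {t : G} (ht : Tv π Q t) : sp (Ψ t) = (sp t).map σ.toEmbedding := by
  ext i
  obtain ⟨i, rfl⟩ := σ.surjective i
  rw [h.2 t ht]
  exact (Finset.mem_map' σ.toEmbedding).symm

variable (π Q E sp) in
/-- the permutations of the weights induced by `E` -/
def Eb : Subgroup (Equiv.Perm κ) where
  carrier := {σ | ∃ g, π g ∈ E ∧ Pm π Q sp (MulAut.conj g) σ}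
  one_mem' := ⟨1, by rw [map_one]; exact one_mem _, by rw [map_one]; exact pm_one⟩
  mul_mem' := fun ⟨g, h1, h2⟩ ⟨g', h3, h4⟩ => ⟨g * g', by rw [map_mul]; exact mul_mem h1 h3, by
    rw [map_mul]; exact h2.mul h4⟩
  inv_mem' := fun ⟨g, h1, h2⟩ => ⟨g⁻¹, by rw [map_inv]; exact inv_mem h1, by rw [map_inv]; exact h2.inv⟩

theorem Pm.pow {g : G} (h : Pm π Q sp (MulAut.conj g) σ) (m : ℕ) : Pm π Q sp (MulAut.conj (g ^ m)) (σ ^ m) := by
  induction m with
  | zero => rw [pow_zero, pow_zero, map_one]; exact pm_one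
  | succ m ih => rw [pow_succ, pow_succ, map_mul]; exact ih.mul h

namespace At

variable (A : At π Q sp O)
include A

theorem exists_pm (h : Mv π Q sp Ψ) (hQ : ∀ g, π (Ψ g) ∈ Q ↔ π g ∈ Q) : ∃ σ, Pm π Q sp Ψ σ := by
  have h1 : ∀ t, Tv π Q (Ψ t) ↔ Tv π Q t := fun t => and_congr (hQ t) (by rw [← map_mul, map_eq_one_iff _ Ψ.injective])
  choose f hf using h fun t => (h1 t).2
  have h2 : Function.Injective f := fun i j e => A.sep i j fun t ht => by rw [← hf i t ht, ← hf j t ht, e]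
  exact ⟨Equiv.ofBijective f (Finite.injective_iff_bijective.1 h2), h1, fun t ht i => hf i t ht⟩

theorem eq_one {t : G} (ht : Tv π Q t) : π t = 1 ↔ sp t = ∅ ∨ sp t = Finset.univ := by
  rw [← map_one π, A.eq t 1 ht tv_one, A.one, Finset.compl_empty]

theorem map_O (h : Pm π Q sp Ψ σ) : Oᶜ.map σ.toEmbedding = Oᶜ := by
  refine Finset.eq_of_subset_of_card_le (fun j hj => ?_) (Finset.card_map _).ge
  obtain ⟨i, hi, rfl⟩ := Finset.mem_map.1 hj
  obtain ⟨t, h1, h2⟩ := (A.ev {i}).1 (by rw [Finset.singleton_inter_of_notMem (Finset.mem_compl.1 hi)]; exact Even.zero)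
  have h3 := (A.ev _).2 ⟨_, (h.1 t).2 h1, rfl⟩
  rw [h.sp_eq h1, h2, Finset.map_singleton] at h3
  refine Finset.mem_compl.2 fun h4 => ?_
  rw [Finset.singleton_inter_of_mem h4, Finset.card_singleton] at h3
  exact Nat.not_even_one h3

variable (H : St Q E Δ)
include H

theorem exists_cj {g : G} (hg : π g ∈ E) : ∃ σ, Pm π Q sp (MulAut.conj g) σ :=
  A.exists_pm (A.cj g) fun x => by
    rw [← H.nrm _ ((H.inn _).2 hg) (π x), MulAut.conj_apply, MulAut.conj_apply, map_mul, map_mul, map_inv]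

theorem fix {S : Finset κ} (hS : Even (S ∩ O).card) (h : ∀ σ ∈ Eb π Q E sp, S.map σ.toEmbedding = S) :
    S = ∅ ∨ S = Finset.univ := by
  obtain ⟨t, h1, rfl⟩ := (A.ev S).1 hS
  refine (A.eq_one h1).1 (mem_bot.1 (H.fx ▸ ⟨h1.1, mem_centralizer_iff.2 fun s hs => ?_⟩))
  obtain ⟨g, rfl⟩ := A.surj s
  obtain ⟨σ, h2⟩ := A.exists_cj H hs
  have h3 := (A.eq _ _ ((h2.1 t).2 h1) h1).2 (.inl (by rw [h2.sp_eq h1, h σ ⟨g, hs, h2⟩]))
  rw [MulAut.conj_apply, map_mul, map_mul, map_inv, mul_inv_eq_iff_eq_mul] at h3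
  exact h3

theorem tr {S S' : Finset κ} (hS : Even (S ∩ O).card) (hS' : Even (S' ∩ O).card) (h0 : 0 < S.card)
    (h1 : S.card < Fintype.card κ) (h0' : 0 < S'.card) (h1' : S'.card < Fintype.card κ) :
    ∃ σ : Equiv.Perm κ, (∀ τ ∈ Eb π Q E sp, σ * τ * σ⁻¹ ∈ Eb π Q E sp) ∧
      (S.map σ.toEmbedding = S' ∨ S.map σ.toEmbedding = S'ᶜ) := by
  obtain ⟨t, ht, rfl⟩ := (A.ev S).1 hS
  obtain ⟨t', ht', rfl⟩ := (A.ev S').1 hS'
  have h2 : ∀ t, Tv π Q t → 0 < (sp t).card → (sp t).card < Fintype.card κ → π t ≠ 1 := fun t ht h0 h1 e => by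
    rcases (A.eq_one ht).1 e with e | e
    · rw [e] at h0; exact h0.false
    · rw [e] at h1; exact h1.false
  obtain ⟨α, hα, e⟩ := H.tr _ ht.1 _ ht'.1 (h2 t ht h0 h1) (h2 t' ht' h0' h1')
  obtain ⟨Ψ, h3, h4⟩ := A.aut α
  obtain ⟨σ, h5⟩ := A.exists_pm h4 fun g => by rw [h3, H.nrm α hα]
  refine ⟨σ, fun τ ⟨g, h6, h7⟩ => ⟨Ψ g, ?_, ?_⟩, ?_⟩
  · rw [h3, ← H.inn, show MulAut.conj (α (π g)) = α * MulAut.conj (π g) * α⁻¹ from by ext x; simp]
    exact mul_mem (mul_mem hα ((H.inn _).2 h6)) (inv_mem hα)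
  · rw [show MulAut.conj (Ψ g) = Ψ * MulAut.conj g * Ψ⁻¹ from by ext x; simp]
    exact (h5.mul h7).mul h5.inv
  · rw [← h5.sp_eq ht]
    exact (A.eq _ _ ((h5.1 t).2 ht) ht').1 (by rw [h3, e])

theorem card_eq {S S' : Finset κ} (hS : Even (S ∩ O).card) (hS' : Even (S' ∩ O).card) (h0 : 0 < S.card)
    (h1 : S.card < Fintype.card κ) (h0' : 0 < S'.card) (h1' : S'.card < Fintype.card κ) :
    S.card = S'.card ∨ S.card + S'.card = Fintype.card κ := by
  obtain ⟨σ, -, h | h⟩ := A.tr H hS hS' h0 h1 h0' h1'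
  · exact .inl (by rw [← h, Finset.card_map])
  · have h2 := Finset.card_compl S'
    rw [← h, Finset.card_map] at h2
    omega

theorem big {N : Finset (Finset κ)} (h : ∀ S, Even (S ∩ O).card → ∃ S' ∈ N, Even (S' ∩ O).card ∧ (S' = S ∨ S' = Sᶜ)) :
    8 ≤ N.card := by
  classical
  choose f h1 h2 using fun S hS => (A.ev S).1 hS
  let φ : Finset κ → X := fun S => if hS : Even (S ∩ O).card then π (f S hS) else 1
  have h3 : (Q : Set X) ⊆ φ '' N := fun u hu => by
    obtain ⟨t, ht, rfl⟩ := A.all u hu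
    obtain ⟨S', h4, h5, h6⟩ := h _ ((A.ev _).2 ⟨t, ht, rfl⟩)
    exact ⟨S', h4, (dif_pos h5).trans ((A.eq _ _ (h1 S' h5) ht).2 (by rw [h2]; exact h6))⟩
  have h4 := (Set.ncard_le_ncard h3 (N.finite_toSet.image _)).trans (Set.ncard_image_le N.finite_toSet)
  rw [Set.ncard_coe_finset] at h4
  exact H.big.trans h4

theorem ne : Nonempty κ := by
  by_contra h
  have := not_nonempty_iff.1 h
  have h1 := A.big H (N := {∅}) fun S _ => ⟨∅, Finset.mem_singleton_self _, by simp, .inl (Subsingleton.elim _ _)⟩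
  simp at h1

theorem not_even (hO : O = ∅) : False := by
  subst hO
  obtain ⟨a⟩ := A.ne H
  have h0 : ∀ S : Finset κ, Even (S ∩ ∅).card := fun S => by simp
  have h1 := A.big H (N := (Finset.univ.erase a).powerset) fun S _ => by
    by_cases h : a ∈ S
    · exact ⟨Sᶜ, Finset.mem_powerset.2 fun i hi => Finset.mem_erase.2 ⟨fun e => Finset.mem_compl.1 hi (e ▸ h),
        Finset.mem_univ _⟩, h0 _, .inr rfl⟩
    · exact ⟨S, Finset.mem_powerset.2 fun i hi => Finset.mem_erase.2 ⟨fun e => h (e ▸ hi), Finset.mem_univ _⟩, h0 _,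
        .inl rfl⟩
  rw [Finset.card_powerset, Finset.card_erase_of_mem (Finset.mem_univ _), Finset.card_univ] at h1
  have h2 : 4 ≤ Fintype.card κ := by
    by_contra h
    have h3 : 2 ^ (Fintype.card κ - 1) ≤ 2 ^ 2 := Nat.pow_le_pow_right (by decide) (by omega)
    omega
  obtain ⟨S, -, h3⟩ := Finset.exists_subset_card_eq (s := (Finset.univ : Finset κ)) (n := 1) (by rw [Finset.card_univ]; omega)
  obtain ⟨S', -, h4⟩ := Finset.exists_subset_card_eq (s := (Finset.univ : Finset κ)) (n := 2) (by rw [Finset.card_univ]; omega)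
  have := A.card_eq H (h0 S) (h0 S') (by omega) (by omega) (by omega) (by omega)
  omega

theorem five (hO : O = Finset.univ) : 5 ≤ Fintype.card κ := by
  subst hO
  obtain ⟨a⟩ := A.ne H
  by_contra h
  have h1 : ∀ U : Finset κ, U.card ≤ 3 → (∀ S : Finset κ, Even S.card → S ⊆ U ∨ Even Sᶜ.card ∧ Sᶜ ⊆ U) → False :=
    fun U hU h2 => by
    have h3 : ∀ S : Finset κ, Even S.card → S ⊆ U → S ∈ insert ∅ (Finset.powersetCard 2 U) := fun S ⟨k, e⟩ h4 => by
      have h5 := Finset.card_le_card h4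
      rw [Finset.mem_insert, Finset.mem_powersetCard, ← Finset.card_eq_zero]
      exact (show S.card = 0 ∨ S.card = 2 by omega).imp_right fun e => ⟨h4, e⟩
    have h4 := A.big H (N := insert ∅ (Finset.powersetCard 2 U)) fun S hS => by
      rw [Finset.inter_univ] at hS
      rcases h2 S hS with e | ⟨e1, e⟩
      · exact ⟨S, h3 S hS e, by rwa [Finset.inter_univ], .inl rfl⟩
      · exact ⟨Sᶜ, h3 _ e1 e, by rwa [Finset.inter_univ], .inr rfl⟩
    have h5 := Finset.card_insert_le ∅ (Finset.powersetCard 2 U)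
    have h6 : U.card.choose 2 ≤ Nat.choose 3 2 := Nat.choose_le_choose 2 hU
    rw [Finset.card_powersetCard] at h5
    have h7 : Nat.choose 3 2 = 3 := rfl
    omega
  by_cases h2 : Fintype.card κ = 4
  · refine h1 (Finset.univ.erase a) (by rw [Finset.card_erase_of_mem (Finset.mem_univ _), Finset.card_univ]; omega)
      fun S hS => ?_
    by_cases h : a ∈ S
    · refine .inr ⟨?_, fun i hi => Finset.mem_erase.2 ⟨fun e => Finset.mem_compl.1 hi (e ▸ h), Finset.mem_univ _⟩⟩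
      rw [Finset.card_compl, h2, Nat.even_sub (h2 ▸ Finset.card_le_univ S)]
      exact iff_of_true (by decide) hS
    · exact .inl fun i hi => Finset.mem_erase.2 ⟨fun e => h (e ▸ hi), Finset.mem_univ _⟩
  · exact h1 Finset.univ (by rw [Finset.card_univ]; omega) fun S _ => .inl (Finset.subset_univ _)

theorem six (hO : O = Finset.univ) : Fintype.card κ = 6 := by
  have h2 := A.five H hO
  subst hO
  obtain ⟨S, -, h3⟩ := Finset.exists_subset_card_eq (s := (Finset.univ : Finset κ)) (n := 2) (by rw [Finset.card_univ]; omega)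
  obtain ⟨S', -, h4⟩ := Finset.exists_subset_card_eq (s := (Finset.univ : Finset κ)) (n := 4) (by rw [Finset.card_univ]; omega)
  have := A.card_eq H (S := S) (S' := S') (by rw [Finset.inter_univ, h3]; decide) (by rw [Finset.inter_univ, h4]; decide)
    (by omega) (by omega) (by omega) (by omega)
  omega

theorem odd (hO : O = Finset.univ) (h : σ ∈ Eb π Q E sp) (h2 : σ ^ 2 = 1) : σ = 1 := by
  have h6 := A.six H hO
  subst hO
  obtain ⟨g, hg, h3⟩ := h
  have : ((Ce Q).subgroupOf E).Normal := ⟨fun c hc s => mem_centralizer_iff.2 fun u hu => by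
    have h4 : (s : X)⁻¹ * u * s ∈ Q := by
      rw [← H.nrm _ ((H.inn _).2 s.2), MulAut.conj_apply]
      simpa [mul_assoc] using hu
    have h5 := mem_centralizer_iff.1 (mem_subgroupOf.1 hc) _ h4
    change u * (s * c * (s : X)⁻¹) = s * c * (s : X)⁻¹ * u
    calc u * (s * c * (s : X)⁻¹) = s * ((s : X)⁻¹ * u * s * c) * (s : X)⁻¹ := by group
      _ = _ := by rw [h5]; group⟩
  have h4 : π g ^ (Ce Q).relIndex E ∈ Ce Q := pow_index_mem ((Ce Q).subgroupOf E) ⟨π g, hg⟩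
  have h5 := h3.pow ((Ce Q).relIndex E)
  obtain ⟨k, hk⟩ := Nat.not_even_iff_odd.1 fun e => H.odd e.two_dvd
  rw [← map_pow] at h4
  rw [show σ ^ (Ce Q).relIndex E = σ by rw [hk, pow_succ, pow_mul, h2, one_pow, one_mul]] at h5
  generalize g ^ (Ce Q).relIndex E = c at h4 h5
  have h7 : ∀ a b, a ≠ b → σ a = a ∨ σ a = b := fun a b hab => by
    obtain ⟨t, ht, e⟩ := (A.ev {a, b}).1 (by rw [Finset.inter_univ, Finset.card_pair hab]; decide)
    have h8 := (A.eq _ _ ((h5.1 t).2 ht) ht).1 (by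
      rw [MulAut.conj_apply, map_mul, map_mul, map_inv, ← mem_centralizer_iff.1 h4 _ ht.1, mul_inv_cancel_right])
    rcases h8 with h8 | h8
    · have h9 := (h5.2 t ht a).2 (by rw [e]; exact Finset.mem_insert_self _ _)
      rw [h8, e] at h9
      simpa using h9
    · have h9 := congrArg Finset.card h8
      rw [h5.sp_eq ht, Finset.card_map, Finset.card_compl, e, Finset.card_pair hab] at h9
      omega
  ext a
  obtain ⟨b, c, d, h8, h9, h10⟩ := Fintype.two_lt_card_iff.1 (show 2 < Fintype.card κ by omega)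
  by_contra h11
  have h12 : ∀ b, b = a ∨ b = σ a := fun b => (em _).imp_right fun e => ((h7 a b (Ne.symm e)).resolve_left h11).symm
  rcases h12 b with rfl | e1 <;> rcases h12 c with e2 | e2 <;> rcases h12 d with e3 | e3 <;> simp_all

theorem not_odd (hO : O = Finset.univ) : False := by
  have h6 := A.six H hO
  have h0 : ∀ a b : κ, a ≠ b → Even (({a, b} : Finset κ) ∩ O).card ∧ 0 < ({a, b} : Finset κ).card ∧
      ({a, b} : Finset κ).card < Fintype.card κ := fun a b hab => by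
    rw [hO, Finset.inter_univ, Finset.card_pair hab, h6]; decide
  by_cases h : ∃ τ ∈ Eb π Q E sp, τ ≠ 1
  · obtain ⟨τ, h1, h2⟩ := h
    obtain ⟨a, ha⟩ : ∃ a, a ≠ τ a := by
      by_contra h3
      push Not at h3
      exact h2 (Equiv.ext fun a => (h3 a).symm)
    have h3 : ∀ c, c ∈ MulAction.orbit (Eb π Q E sp) a := fun c => by
      by_cases e : a = c
      · exact e ▸ MulAction.mem_orbit_self a
      obtain ⟨σ, h4, h5 | h5⟩ := A.tr H (h0 _ _ ha).1 (h0 _ _ e).1 (h0 _ _ ha).2.1 (h0 _ _ ha).2.2 (h0 _ _ e).2.1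
        (h0 _ _ e).2.2
      · have h7 : (σ * τ * σ⁻¹) (σ a) = σ (τ a) := by simp
        have h8 : σ a ≠ σ (τ a) := σ.injective.ne ha
        have h9 : ∀ x, x = σ a ∨ x = σ (τ a) ↔ x = a ∨ x = c := fun x => by
          have := Finset.ext_iff.1 h5 x
          simpa [Finset.map_insert] using this
        rcases (h9 _).1 (.inl rfl) with e1 | e1 <;> rcases (h9 _).1 (.inr rfl) with e2 | e2
        · exact (h8 (e1.trans e2.symm)).elim
        · exact ⟨⟨_, h4 τ h1⟩, by rw [e1, e2] at h7; exact h7⟩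
        · refine ⟨⟨_, inv_mem (h4 τ h1)⟩, ?_⟩
          rw [e1, e2] at h7
          exact Equiv.Perm.inv_eq_iff_eq.2 h7.symm
        · exact (h8 (e1.trans e2.symm)).elim
      · have h9 := congrArg Finset.card h5
        rw [Finset.card_map, Finset.card_compl, Finset.card_pair ha, Finset.card_pair e] at h9
        omega
    have h4 : 2 ∣ Nat.card (Eb π Q E sp) := by
      have h5 := MulAction.index_stabilizer (Eb π Q E sp) a
      rw [Set.eq_univ_of_forall h3, Set.ncard_univ, Nat.card_eq_fintype_card, h6] at h5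
      exact (show 2 ∣ 6 by decide).trans (h5 ▸ index_dvd_card _)
    obtain ⟨x, hx⟩ := exists_prime_orderOf_dvd_card' 2 h4
    have h5 := A.odd H hO x.2 (congrArg Subtype.val (hx ▸ pow_orderOf_eq_one x : x ^ 2 = 1))
    rw [show x = 1 from Subtype.ext h5, orderOf_one] at hx
    exact absurd hx (by decide)
  · push Not at h
    obtain ⟨a, b, hab⟩ := Fintype.one_lt_card_iff.1 (show 1 < Fintype.card κ by omega)
    rcases A.fix H (h0 a b hab).1 fun σ hσ => by rw [h σ hσ]; exact Finset.map_refl with e | e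
    · exact (e ▸ (h0 a b hab).2.1 : 0 < (∅ : Finset κ).card).false
    · have h1 := (h0 a b hab).2.2
      rw [e] at h1
      exact h1.false

/-- **no weight system** -/
theorem false : False := by
  rcases A.fix H (S := Oᶜ) (by rw [Finset.inter_comm, Finset.inter_compl]; exact Even.zero) fun σ ⟨_, _, h⟩ => A.map_O h with e | e
  · exact A.not_odd H (by simpa using e)
  · exact A.not_even H (by simpa using e)

end At

end Cfsg.Agent.BH.R2.Nt
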