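import Cfsg.Agent.BH.Row2L.NotA
import Cfsg.Agent.BH.RowO.R8a
import Cfsg.Agent.KM.A.Lin
import Cfsg.Agent.KM.A.Red

/-!
# BH, Row2L, `boxNot`: the weight spaces (helper90)
-/

set_option autoImplicit false
set_option linter.unusedSectionVars false

namespace Cfsg.Agent.BH.R2.Nt

open Cfsg Matrix Cfsg.Agent.TO Cfsg.Agent.TO.LU Cfsg.Agent.BHZ.Nil Cfsg.Agent.BH.RO.R8
open Cfsg.Agent.KM.Sp (LocA)

theorem comm_of_rel {Y : Type} [Group Y] {l m k : ℕ} (hl : l.Prime) (hm : ¬ l ∣ m) {a b c : Y} (hc : ∀ g, Commute c g)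
    (h : a * b = c * b * a) (ha : a ^ l ^ k = 1) (hb : b ^ m = 1) : a * b = b * a := by
  have h1 := pow_mul_of_rel (hc a) h (l ^ k)
  have h2 := pow_mul_of_rel (a := b) (b := a) (hc b).inv_left (by rw [mul_assoc, h]; group) m
  rw [ha, one_mul, mul_one, eq_comm, mul_eq_right] at h1
  rw [hb, one_mul, mul_one, eq_comm, mul_eq_right, inv_pow, inv_eq_one] at h2
  rw [h, eq_one_of hl hm h2 h1, one_mul]

theorem exists_syl {Y : Type} [Group Y] {l : ℕ} [Fact l.Prime] (C : Subgroup Y) [Finite C] {P : Subgroup Y} (hP : P ≤ C)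
    (hp : IsPGroup l P) : ∃ R : Subgroup Y, P ≤ R ∧ R ≤ C ∧ IsPGroup l R ∧
      ∀ Q : Subgroup Y, Q ≤ C → IsPGroup l Q → ∃ g ∈ C, ∀ x ∈ Q, g * x * g⁻¹ ∈ R := by
  obtain ⟨R, h1⟩ := (hp.comap_of_injective _ C.subtype_injective).exists_le_sylow
  refine ⟨(R : Subgroup C).map C.subtype, fun x hx => ⟨⟨x, hP hx⟩, h1 hx, rfl⟩, Subgroup.map_subtype_le _,
    R.isPGroup'.map _, fun Q hQ hq => ?_⟩
  obtain ⟨Q₀, h2⟩ := (hq.comap_of_injective _ C.subtype_injective).exists_le_sylow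
  obtain ⟨g, hg⟩ := MulAction.exists_smul_eq C Q₀ R
  refine ⟨g, g.2, fun x hx => ⟨g * ⟨x, hQ hx⟩ * g⁻¹, ?_, rfl⟩⟩
  rw [← hg]
  exact Subgroup.smul_mem_pointwise_smul _ (MulAut.conj g) _ (h2 (show (⟨x, hQ hx⟩ : C) ∈ _ from hx))

variable {F : Type} [Field F] [Fintype F] {n : ℕ} {G X : Type} [Group G] [Group X]

/-- `Ψ` is induced on involutions by a map of matrices -/
def Ind (ι : G →* (Mt n F)ˣ) (Ψ : MulAut G) : Prop := ∃ φ : Mt n F → Mt n F, (∀ m, φ m = 0 → m = 0) ∧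
  (∀ m, φ (-m) = -φ m) ∧ ∀ g m, g * g = 1 → Commute (ι g).1 m → (ι (Ψ g)).1 * φ m = φ ((ι g).1 * m)

/-- linear and unitary groups in odd characteristic -/
structure S2 (ι : G →* (Mt n F)ˣ) (π : G →* X) (Γ : Subgroup (Mt n F)ˣ) (μ : Subgroup Fˣ) : Prop where
  n0 : n ≠ 0
  two : (2 : F) ≠ 0
  inj : Function.Injective ι
  surj : Function.Surjective π
  mem : ∀ g, ι g ∈ Γ
  ex : ∀ x ∈ Γ, (x : Mt n F).det = 1 → ∃ g, ι g = x
  ker : ∀ g, π g = 1 ↔ ∃ c ∈ μ, ι g = sc n c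
  scal : ∀ c, sc n c ∈ Γ ↔ c ∈ μ
  neg : -1 ∈ μ
  cut : CutClosed 2 F Γ
  lin : ∃ R, KM.A.Lin F Γ R
  det1 : ∀ g, GeneralLinearGroup.det (ι g) = 1
  aut : ∀ α : MulAut X, ∃ Ψ : MulAut G, (∀ g, π (Ψ g) = α (π g)) ∧ Ind ι Ψ

variable {ι : G →* (Mt n F)ˣ} {π : G →* X} {Γ : Subgroup (Mt n F)ˣ} {μ : Subgroup Fˣ} {Ψ : MulAut G}

theorem conj_zero (B : (Mt n F)ˣ) (σ : F ≃+* F) {m : Mt n F} (h : B.1 * m.map σ * (B⁻¹ : (Mt n F)ˣ).1 = 0) : m = 0 := by
  rw [Units.mul_left_eq_zero, Units.mul_right_eq_zero] at h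
  ext i j
  exact (map_eq_zero_iff σ σ.injective).1 (congrFun (congrFun h i) j)

theorem map_neg' (σ : F ≃+* F) (m : Mt n F) : (-m).map σ = -m.map σ := by
  ext i j
  simp

theorem ind_of (B : (Mt n F)ˣ) (σ : F ≃+* F) (h : ∀ g, (ι (Ψ g)).1 = B.1 * (ι g).1.map σ * (B⁻¹ : (Mt n F)ˣ).1) :
    Ind ι Ψ :=
  ⟨fun m => B.1 * m.map σ * (B⁻¹ : (Mt n F)ˣ).1, fun _ => conj_zero B σ, fun m => by
    simp only [map_neg', mul_neg, neg_mul], fun g m _ _ => by
    simp only [h, mul_assoc, Units.inv_mul_cancel_left, Matrix.map_mul]⟩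

theorem ind_of' (B : (Mt n F)ˣ) (σ : F ≃+* F)
    (h : ∀ g, (ι (Ψ g)).1 = B.1 * ((ι g)⁻¹ : (Mt n F)ˣ).1ᵀ.map σ * (B⁻¹ : (Mt n F)ˣ).1) : Ind ι Ψ :=
  ⟨fun m => B.1 * mᵀ.map σ * (B⁻¹ : (Mt n F)ˣ).1, fun _ e => transpose_eq_zero.1 (conj_zero B σ e), fun m => by
    simp only [transpose_neg, map_neg', mul_neg, neg_mul], fun g m hg hc => by
    rw [h, ← map_inv, inv_eq_of_mul_eq_one_right hg, hc.eq]
    simp only [transpose_mul, mul_assoc, Units.inv_mul_cancel_left, Matrix.map_mul]⟩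

theorem ind_conj (g : G) : Ind ι (MulAut.conj g) :=
  ind_of (ι g) (RingEquiv.refl F) fun x => by
    rw [MulAut.conj_apply, map_mul, map_mul, map_inv]
    rfl

/-- the signs of a set of weights -/
def sg (F : Type) [Field F] {κ : Type} [DecidableEq κ] (S : Finset κ) (i : κ) : Fˣ := if i ∈ S then -1 else 1

theorem prod_sg {κ : Type} [Fintype κ] [DecidableEq κ] (S : Finset κ) (r : κ → ℕ) :
    ∏ i, (sg F S i : F) ^ r i = (-1) ^ (S ∩ Finset.univ.filter fun i => Odd (r i)).card := by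
  rw [← Finset.prod_const, ← Finset.univ_inter (S ∩ _), ← Finset.prod_ite_mem]
  refine Finset.prod_congr rfl fun i _ => ?_
  by_cases h : i ∈ S
  · rcases Nat.even_or_odd (r i) with e | e
    · simp [sg, h, e.neg_one_pow, Nat.not_odd_iff_even.2 e]
    · simp [sg, h, e.neg_one_pow, e]
  · simp [sg, h]

namespace S2

variable (S : S2 ι π Γ μ)
include S

theorem hF : ((2 : ℕ) : F) ≠ 0 := by exact_mod_cast S.two

theorem neg_ne : (-1 : F) ≠ 1 := fun h => S.two (by linear_combination -h)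

theorem of_eq {x y : G} (h : π x = π y) : ∃ c ∈ μ, ι x = sc n c * ι y := by
  obtain ⟨c, hc, e⟩ := (S.ker (x * y⁻¹)).1 (by rw [map_mul, map_inv, h, mul_inv_cancel])
  exact ⟨c, hc, by rw [← e, ← map_mul, inv_mul_cancel_right]⟩

theorem cyc : ∃ z, π z = 1 ∧ (∀ g, Commute z g) ∧ ∀ g, π g = 1 → ∃ i : ℤ, g = z ^ i := by
  obtain ⟨⟨c, z, h1, h2⟩, hc⟩ := IsCyclic.exists_generator (α := (π.ker.map ι).comap (sc n : Fˣ →* (Mt n F)ˣ))
  refine ⟨z, h1, fun g => S.inj (by rw [map_mul, map_mul, h2, (commute_sc c _).eq]), fun g hg => ?_⟩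
  obtain ⟨d, -, e⟩ := (S.ker g).1 hg
  obtain ⟨i, hi⟩ := hc ⟨d, g, hg, e⟩
  exact ⟨i, S.inj (by rw [map_zpow, h2, e, ← map_zpow]; exact congrArg (fun x => sc n x.1) hi.symm)⟩

theorem not_both {x e : Mt n F} (he : e ≠ 0) (h : x * e = e) : x * e ≠ -e := fun h' =>
  he (KM.A.eq_zero_of_neg S.two (h.symm.trans h'))

variable [Finite G] {Q : Subgroup X}

theorem comm_y {z x : G} {m k : ℕ} (hm : ¬ 2 ∣ m) (hz : z ^ m = 1) (hx : x ^ 2 ^ k = 1) (h : π x * π z = π z * π x) :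
    ι x * ι z = ι z * ι x := by
  obtain ⟨c, -, e⟩ := S.of_eq (x := x * z) (y := z * x) (by rw [map_mul, map_mul, h])
  rw [map_mul, map_mul, ← mul_assoc] at e
  exact comm_of_rel Nat.prime_two hm (commute_sc c) e (k := k) (by rw [← map_pow, hx, map_one])
    (by rw [← map_pow, hz, map_one])

theorem ab (hL : LocA 2 Q) (h4 : 4 < Nat.card Q) : ∀ x y, π x ∈ Q → π y ∈ Q → x * y = y * x := by
  have : Finite X := Finite.of_surjective π S.surj
  obtain ⟨y, hy, hc, hs⟩ := hL.syl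
  obtain ⟨z, m, rfl, hm, hz⟩ : ∃ (z : G) (m : ℕ), π z = y ∧ ¬ 2 ∣ m ∧ z ^ m = 1 := by
    obtain ⟨z, rfl⟩ := S.surj y
    obtain ⟨u, m, h1, h2, h3⟩ := expo' Nat.prime_two hy (orderOf_pos z).ne'
    exact ⟨z ^ u, m, by rw [map_pow, pow_eq_self (pow_orderOf_eq_one _) h1], h2,
      by rw [← pow_mul, orderOf_dvd_iff_pow_eq_one.1 h3]⟩
  obtain ⟨P, h1, -, rfl⟩ := exists_lift_pgroup S.surj IsPGroup.of_bot hL.pg (by simp)
  obtain ⟨R, h3, h4', h5, h6⟩ := exists_syl (Γ ⊓ Subgroup.centralizer {ι z}) (P := P.map ι) (by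
    rintro _ ⟨x, hx, rfl⟩
    obtain ⟨k, hk⟩ := h1 ⟨x, hx⟩
    exact ⟨S.mem x, Subgroup.mem_centralizer_singleton_iff.2
      (S.comm_y hm hz (congrArg Subtype.val hk) (hc _ ⟨x, hx, rfl⟩))⟩) (h1.map ι)
  have h7 : ∀ x, ι x ∈ R → π x ∈ P.map π := fun x hx => hs ((R.comap ι).map π)
    ((h5.comap_of_injective ι S.inj).map π) (Subgroup.map_mono fun y hy => h3 ⟨y, hy, rfl⟩) (by
      rintro _ ⟨y, hy, rfl⟩
      change _ * _ = _ * _
      rw [← map_mul, ← map_mul, S.inj (a₁ := y * z) (a₂ := z * y) (by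
        rw [map_mul, map_mul, Subgroup.mem_centralizer_singleton_iff.1 (h4' hy).2])]) ⟨x, hx, rfl⟩
  have h8 : ∀ x ∈ R ⊓ GeneralLinearGroup.det.ker, ∃ x', ι x' = x := fun x hx =>
    S.ex x (h4' hx.1).1 (congrArg Units.val (MonoidHom.mem_ker.1 hx.2))
  have h9 : ∀ x, ι x ∈ (KM.A.sc F _).range → π x = 1 := by
    rintro x ⟨c, hc⟩
    have e : sc n c = ι x := hc
    exact (S.ker x).2 ⟨c, (S.scal c).1 (e ▸ S.mem x), e.symm⟩
  obtain ⟨L, hL'⟩ := S.lin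
  rcases KM.A.sylow_or (S := GeneralLinearGroup.det.ker) S.hF (S.cut.inf_centralizer {ι z})
    (Subgroup.commutator_le.2 fun a _ b _ => by
      rw [MonoidHom.mem_ker, map_commutatorElement, commutatorElement_eq_one_iff_mul_comm, mul_comm])
    (KM.A.gen_two (hL'.inf (ι z))) h4' h5 h6 (fun a ha b hb aS bS => by
      obtain ⟨a, rfl⟩ := h8 a ⟨ha, aS⟩
      obtain ⟨b, rfl⟩ := h8 b ⟨hb, bS⟩
      obtain ⟨c, -, e⟩ := (S.ker (a * b * a⁻¹ * b⁻¹)).1 (by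
        rw [map_mul, map_mul, map_mul, (hL.ab _ (h7 a ha) _ (h7 b hb)).eq, map_inv, map_inv]
        group)
      exact ⟨c, by rw [← map_inv, ← map_inv, ← map_mul, ← map_mul, ← map_mul, e]; rfl⟩) with h | ⟨a, ha, b, hb, e1, e2, h⟩
  · have h' : ∀ a ∈ R, ∀ b ∈ R, a * b = b * a := fun a ha b hb => congrArg Subtype.val (h.is_comm.comm ⟨a, ha⟩ ⟨b, hb⟩)
    rintro x y ⟨x', hx, e1⟩ ⟨y', hy, e2⟩
    obtain ⟨c, -, e3⟩ := S.of_eq e1.symm
    obtain ⟨d, -, e4⟩ := S.of_eq e2.symm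
    refine S.inj ?_
    rw [map_mul, map_mul, e3, e4, (commute_sc d _).symm.mul_mul_mul_comm, (commute_sc c _).symm.mul_mul_mul_comm,
      (commute_sc c _).eq, h' _ (h3 ⟨x', hx, rfl⟩) _ (h3 ⟨y', hy, rfl⟩)]
  · obtain ⟨a, rfl⟩ := h8 a ha
    obtain ⟨b, rfl⟩ := h8 b hb
    refine absurd (KM.A.card_le_sq (l := 2) (α := π a) (β := π b) ?_ ?_ ?_) (not_le.2 h4)
    · rw [← map_pow] at e1 ⊢
      exact h9 _ e1
    · rw [← map_pow] at e2 ⊢
      exact h9 _ e2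
    · rintro _ ⟨x, hx, rfl⟩
      obtain ⟨i, m, h10⟩ := h (ι x) ⟨h3 ⟨x, hx, rfl⟩, S.det1 x⟩
      rw [← map_pow, ← map_pow, ← map_mul, ← map_mul] at h10
      exact ⟨i, m, by rw [← map_pow, ← map_pow, ← map_mul, ← map_mul, h9 _ h10]⟩

theorem mem_Q (hL : LocA 2 Q) (hab : ∀ x y, π x ∈ Q → π y ∈ Q → x * y = y * x) {t : G} (ht : t * t = 1)
    (hc : ∀ y ∈ Cs ι (Q.comap π), Commute y (ι t).1) : π t ∈ Q := by
  let C := Subgroup.centralizer (Q.comap π : Set G)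
  have h1 : ∀ t ∈ Subgroup.centralizer (C : Set G), t ∈ C := fun t ht x hx => ht x fun y hy => hab y x hy hx
  let U : Subgroup G :=
    { carrier := {t | t * t = 1 ∧ t ∈ Subgroup.centralizer (C : Set G)}
      one_mem' := ⟨one_mul _, one_mem _⟩
      mul_mem' := fun {a b} ha hb => ⟨by
        rw [mul_assoc, ← mul_assoc b, ha.2 b (h1 b hb.2), mul_assoc, hb.1, mul_one, ha.1], mul_mem ha.2 hb.2⟩
      inv_mem' := fun {a} ha => ⟨by rw [← _root_.mul_inv_rev, ha.1, inv_one], inv_mem ha.2⟩ }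
  refine hL.core (U.map π) (IsPGroup.map (fun x => ⟨1, Subtype.ext (by rw [pow_one, sq]; exact x.2.1)⟩) π) ?_
    ⟨t, ⟨ht, fun c hc' => S.inj (Units.ext (by rw [map_mul, map_mul]; exact hc _ ⟨c, hc', rfl⟩))⟩, rfl⟩
  rintro x hx _ ⟨u, hu, rfl⟩
  obtain ⟨g, rfl⟩ := S.surj x
  refine ⟨g * u * g⁻¹, ⟨by rw [conj_mul, hu.1, mul_one, mul_inv_cancel], fun c hc' => ?_⟩, by
    rw [map_mul, map_mul, map_inv]⟩
  have h2 : g⁻¹ * c * g ∈ C := fun y hy => by
    have h3 := hc' (g * y * g⁻¹) (show π (g * y * g⁻¹) ∈ Q by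
      rw [map_mul, map_mul, map_inv, ← (hx _ hy).eq, mul_inv_cancel_right]; exact hy)
    calc y * (g⁻¹ * c * g) = g⁻¹ * (g * y * g⁻¹ * c) * g := by group
      _ = _ := by rw [h3]; group
  calc c * (g * u * g⁻¹) = g * (g⁻¹ * c * g * u) * g⁻¹ := by group
    _ = _ := by rw [hu.2 _ h2]; group

omit [Finite G] in
theorem exists_fam {C : Set (Mt n F)} (s : Finset G)
    (hs : ∀ t ∈ s, t * t = 1 ∧ (ι t).1 ∈ C ∧ ∀ y ∈ C, Commute y (ι t).1) :
    ∃ (κ : Type) (_ : Fintype κ) (e : κ → Mt n F), Fam C Γ μ e ∧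
      ∀ t ∈ s, ∀ i, (ι t).1 * e i = e i ∨ (ι t).1 * e i = -e i := by
  classical
  induction s using Finset.induction_on with
  | empty => exact ⟨Unit, inferInstance, fun _ => 1, ⟨fun _ => gd_one fun c => (S.scal c).2, fun _ _ h => (h rfl).elim,
      by simp⟩, by simp⟩
  | insert a s _ ih =>
    obtain ⟨κ, _, e, h1, h2⟩ := ih fun t ht => hs t (Finset.mem_insert_of_mem ht)
    obtain ⟨a1, a2, a3⟩ := hs a (Finset.mem_insert_self _ _)
    have hω : (-1 : Fˣ) ^ 2 = 1 := neg_one_sq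
    have hω1 : (-1 : Fˣ) ≠ 1 := fun h => S.neg_ne (congrArg Units.val h)
    have ha : ι a ^ 2 = 1 := by rw [← map_pow, sq, a1, map_one]
    have hc : ∀ i (k : ZMod 2), Commute (e i) (ev (-1) (ι a) k) := fun i k => commute_ev ((h1.gd i).cc _ a2).symm k
    refine ⟨κ × ZMod 2, inferInstance, fun x => e x.1 * ev (-1) (ι a) x.2, ⟨fun x => (h1.gd _).mul
      (ev_idem S.hF hω hω1 ha _) (fun y hy => commute_ev (a3 y hy) _)
      (good_ev hω S.cut (fun c => (S.scal c).2) S.neg (S.mem a) ha _) (hc _ _), fun x y h => ?_, ?_⟩, fun t ht x => ?_⟩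
    · rw [(hc _ _).symm.mul_mul_mul_comm]
      by_cases e1 : x.1 = y.1
      · rw [ev_orth S.hF hω hω1 ha fun e2 => h (Prod.ext e1 e2), mul_zero]
      · rw [h1.orth _ _ e1, zero_mul]
    · rw [Fintype.sum_prod_type, ← Finset.sum_mul_sum, h1.sum, ev_sum S.hF hω hω1, one_mul]
    · rcases Finset.mem_insert.1 ht with rfl | ht
      · rw [← mul_assoc, ((h1.gd _).cc _ a2).eq, mul_assoc, mul_ev hω ha, Matrix.mul_smul, zt]
        rcases neg_one_pow_eq_or Fˣ x.2.val with h | h <;> simp [h]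
      · rw [← mul_assoc]
        rcases h2 t ht x.1 with h | h <;> simp [h]

theorem atoms {C : Set (Mt n F)} (T : G → Prop)
    (hs : ∀ t, T t → t * t = 1 ∧ (ι t).1 ∈ C ∧ ∀ y ∈ C, Commute y (ι t).1) :
    ∃ (κ : Type) (_ : Fintype κ) (e : κ → Mt n F), Fam C Γ μ e ∧ (∀ i, e i ≠ 0) ∧
      (∀ t, T t → ∀ i, (ι t).1 * e i = e i ∨ (ι t).1 * e i = -e i) ∧
      ∀ i j, (∀ t, T t → ((ι t).1 * e i = -e i ↔ (ι t).1 * e j = -e j)) → i = j := by
  classical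
  have := Fintype.ofFinite G
  obtain ⟨κ, _, e, h1, h2⟩ := S.exists_fam (C := C) (Finset.univ.filter T) fun t ht => hs t (Finset.mem_filter.1 ht).2
  let c : κ → Finset G := fun i => Finset.univ.filter fun t => T t ∧ (ι t).1 * e i = -e i
  have h3 := h1.merge c
  have h4 : ∀ t v, t ∈ v → (ι t).1 * ∑ i with c i = v, e i = -∑ i with c i = v, e i := fun t v ht => by
    rw [Finset.mul_sum, ← Finset.sum_neg_distrib]
    exact Finset.sum_congr rfl fun i hi => (Finset.mem_filter.1 (((Finset.mem_filter.1 hi).2 ▸ ht : t ∈ c i))).2.2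
  have h5 : ∀ t v, T t → t ∉ v → (ι t).1 * ∑ i with c i = v, e i = ∑ i with c i = v, e i := fun t v hT ht => by
    rw [Finset.mul_sum]
    exact Finset.sum_congr rfl fun i hi => (h2 t (by simpa using hT) i).resolve_right fun h =>
      ht ((Finset.mem_filter.1 hi).2 ▸ Finset.mem_filter.2 ⟨Finset.mem_univ _, hT, h⟩)
  have h6 : ∀ t v, ∑ i with c i = v, e i ≠ 0 → t ∈ v → T t := fun t v h ht => by
    obtain ⟨i, hi, -⟩ := Finset.exists_ne_zero_of_sum_ne_zero h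
    exact (Finset.mem_filter.1 (((Finset.mem_filter.1 hi).2 ▸ ht : t ∈ c i))).2.1
  have h7 : ∀ t v, T t → ∑ i with c i = v, e i ≠ 0 →
      ((ι t).1 * ∑ i with c i = v, e i = -∑ i with c i = v, e i ↔ t ∈ v) := fun t v hT h =>
    ⟨fun h8 => by_contra fun h9 => S.not_both h (h5 t v hT h9) h8, h4 t v⟩
  refine ⟨{v // ∑ i with c i = v, e i ≠ 0}, inferInstance, fun v => ∑ i with c i = v.1, e i,
    ⟨fun v => h3.gd v.1, fun v w h => h3.orth _ _ fun e => h (Subtype.ext e), ?_⟩, fun v => v.2, fun t hT v => ?_,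
    fun v w h => Subtype.ext (Finset.ext fun t => ?_)⟩
  · rw [← h3.sum, ← Finset.sum_filter_ne_zero Finset.univ (f := fun v => ∑ i with c i = v, e i)]
    exact (Finset.sum_subtype _ (by simp) fun v => ∑ i with c i = v, e i).symm
  · exact (em (t ∈ v.1)).elim (fun h => .inr (h4 t _ h)) fun h => .inl (h5 t _ hT h)
  · by_cases hT : T t
    · rw [← h7 t _ hT v.2, ← h7 t _ hT w.2]
      exact h t hT
    · exact iff_of_false (fun h => hT (h6 t _ v.2 h)) fun h => hT (h6 t _ w.2 h)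

variable {E : Subgroup X} {Δ : Subgroup (MulAut X)}

theorem all (H : St Q E Δ) (hab : ∀ x y, π x ∈ Q → π y ∈ Q → x * y = y * x) (u : X) (hu : u ∈ Q) :
    ∃ t, Tv π Q t ∧ π t = u := by
  have : Finite X := Finite.of_surjective π S.surj
  obtain ⟨z, z1, z2, z3⟩ := S.cyc
  have h1 : ∀ x (i : ℤ), π x ∈ Q → π x ≠ 1 → x * x = z ^ i → Even i → ∃ t, Tv π Q t ∧ π t ≠ 1 := by
    rintro x _ hx h1 h2 ⟨j, rfl⟩
    have h3 : π (x * (z ^ j)⁻¹) = π x := by rw [map_mul, map_inv, map_zpow, z1, _root_.one_zpow, inv_one, mul_one]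
    refine ⟨x * (z ^ j)⁻¹, ⟨h3 ▸ hx, ?_⟩, h3 ▸ h1⟩
    rw [((z2 x).zpow_left j).inv_left.mul_mul_mul_comm, h2, _root_.zpow_add]
    group
  obtain ⟨t, ht, t1⟩ : ∃ t, Tv π Q t ∧ π t ≠ 1 := by
    have := Fintype.ofFinite Q
    have h2 : ∃ a b : Q, a ≠ 1 ∧ b ≠ 1 ∧ a ≠ b := by
      obtain ⟨a, b, c, h3, h4, h5⟩ := Fintype.two_lt_card_iff.1
        (show 2 < Fintype.card Q by have := H.big; rw [Nat.card_eq_fintype_card] at this; omega)
      by_cases e1 : a = 1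
      · exact ⟨b, c, e1 ▸ h3.symm, e1 ▸ h4.symm, h5⟩
      by_cases e2 : b = 1
      · exact ⟨a, c, e1, e2 ▸ h5.symm, h4⟩
      exact ⟨a, b, e1, e2, h3⟩
    obtain ⟨⟨a, ha⟩, ⟨b, hb⟩, a1, b1, ab⟩ := h2
    obtain ⟨x, rfl⟩ := S.surj a
    obtain ⟨y, rfl⟩ := S.surj b
    obtain ⟨i, hi⟩ := z3 (x * x) (by rw [map_mul, H.sq _ ha])
    obtain ⟨j, hj⟩ := z3 (y * y) (by rw [map_mul, H.sq _ hb])
    rcases Int.even_or_odd i with e1 | e1
    · exact h1 x i ha (fun e => a1 (Subtype.ext e)) hi e1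
    rcases Int.even_or_odd j with e2 | e2
    · exact h1 y j hb (fun e => b1 (Subtype.ext e)) hj e2
    refine h1 (x * y) (i + j) (by rw [map_mul]; exact mul_mem ha hb) (fun e => ab (Subtype.ext ?_)) ?_ (e1.add_odd e2)
    · rw [map_mul, ← H.sq _ hb] at e
      exact mul_right_cancel e
    · rw [Commute.mul_mul_mul_comm (hab y x hb ha), hi, hj, _root_.zpow_add]
  by_cases e : u = 1
  · exact ⟨1, tv_one, by rw [map_one, e]⟩
  obtain ⟨α, -, h2⟩ := H.tr _ ht.1 u hu t1 e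
  obtain ⟨Ψ, h3, -⟩ := S.aut α
  exact ⟨Ψ t, ⟨by rw [h3, h2]; exact hu, by rw [← map_mul, ht.2, map_one]⟩, by rw [h3, h2]⟩

/-- **no counterexample** -/
theorem not_st (H : St Q E Δ) : False := by
  classical
  have hab := S.ab H.loc (lt_of_lt_of_le (by decide) H.big)
  have h0 : ∀ t, Tv π Q t → (ι t).1 ∈ Cs ι (Q.comap π) := fun t ht => ⟨t, fun x hx => hab x t hx ht.1, rfl⟩
  obtain ⟨κ, _, e, h1, h2, h3, h4⟩ := S.atoms (C := Cs ι (Q.comap π)) (Tv π Q) fun t ht => ⟨ht.2, h0 t ht, cs_comm ht.1⟩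
  let sp : G → Finset κ := fun t => Finset.univ.filter fun i => (ι t).1 * e i = -e i
  have m1 : ∀ t i, i ∈ sp t ↔ (ι t).1 * e i = -e i := fun t i => by simp [sp]
  have m2 : ∀ t, Tv π Q t → ∀ i, (ι t).1 * e i = (sg F (sp t) i : F) • e i := fun t ht i => by
    by_cases h : i ∈ sp t
    · rw [sg, if_pos h, (m1 t i).1 h]; simp
    · rw [sg, if_neg h, (h3 t ht i).resolve_right fun e => h ((m1 t i).2 e)]; simp
  have m3 : ∀ s : Finset κ, ∀ i, sg F s i ∈ μ := fun s i => by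
    rw [sg]
    split_ifs
    exacts [S.neg, one_mem _]
  have m4 : ∀ (s : Finset κ) i, (sg F s i : F) • e i = -e i ↔ i ∈ s := fun s i => by
    by_cases h : i ∈ s
    · simp [sg, h]
    · rw [sg, if_neg h, Units.val_one, one_smul]
      exact iff_of_false (fun h' => h2 i (KM.A.eq_zero_of_neg S.two h')) h
  have mv : ∀ Ψ, Ind ι Ψ → Mv π Q sp Ψ := fun Ψ ⟨φ, p1, p2, p3⟩ hT i => by
    obtain ⟨j, hj⟩ : ∃ j, e j * φ (e i) ≠ 0 := by
      by_contra h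
      push Not at h
      exact h2 i (p1 _ (by rw [← one_mul (φ _), ← h1.sum, Finset.sum_mul, Finset.sum_eq_zero fun j _ => h j]))
    refine ⟨j, fun t ht => ?_⟩
    have h5 : (ι (Ψ t)).1 * e j * φ (e i) = e j * φ ((ι t).1 * e i) := by
      rw [((h1.gd j).cc _ (h0 _ (hT t ht))).eq, mul_assoc, p3 t _ ht.2 ((h1.gd i).cc _ (h0 t ht))]
    have h6 : ¬ e j * φ (e i) = -(e j * φ (e i)) := fun h => hj (KM.A.eq_zero_of_neg S.two h)
    rw [m1, m1]
    rcases h3 t ht i with e1 | e1 <;> rcases h3 _ (hT t ht) j with e2 | e2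
    · exact iff_of_false (S.not_both (h2 j) e2) (S.not_both (h2 i) e1)
    · rw [e1, e2, neg_mul] at h5
      exact (h6 h5.symm).elim
    · rw [e1, e2, p2, mul_neg] at h5
      exact (h6 h5).elim
    · exact iff_of_true e2 e1
  refine At.false (π := π) (sp := sp) (O := Finset.univ.filter fun i => Odd (e i).rank) ⟨S.surj, S.all H hab,
    fun t t' ht ht' => ⟨fun h => ?_, ?_⟩, ?_, fun s => ⟨fun hs => ?_, ?_⟩, fun i j h => h4 i j fun t ht => ?_,
    fun α => ?_, fun g => mv _ (ind_conj g)⟩ H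
  · obtain ⟨c, -, h5⟩ := S.of_eq h
    have h6 : c * c = 1 := sc_inj S.n0 (by
      have h7 : ι t * ι t = 1 := by rw [← map_mul, ht.2, map_one]
      rwa [h5, (commute_sc c _).symm.mul_mul_mul_comm, ← map_mul ι, ht'.2, map_one, mul_one, ← map_mul,
        ← map_one (sc n : Fˣ →* (Mt n F)ˣ)] at h7)
    rcases mul_self_eq_one_iff.1 (show (c : F) * c = 1 from congrArg Units.val h6) with h7 | h7
    · refine .inl (Finset.ext fun i => ?_)
      rw [m1, m1, h5, val_sc_mul, h7, one_smul]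
    · refine .inr (Finset.ext fun i => ?_)
      rw [Finset.mem_compl, m1, m1, h5, val_sc_mul, h7, neg_smul, one_smul, neg_mul, neg_inj]
      exact ⟨S.not_both (h2 i), (h3 t' ht' i).resolve_right⟩
  · rintro (h | h)
    · exact congrArg π (S.inj (Units.ext (h1.ext fun i => by rw [m2 t ht, m2 t' ht', h])))
    · refine eq_of_mul_inv_eq_one (by
        rw [← map_inv, ← map_mul]
        refine (S.ker _).2 ⟨-1, S.neg, ?_⟩
        rw [map_mul, map_inv, mul_inv_eq_iff_eq_mul]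
        refine Units.ext (h1.ext fun i => ?_)
        rw [val_sc_mul, smul_mul_assoc, m2 t ht, m2 t' ht', h, smul_smul, sg, sg]
        by_cases h5 : i ∈ sp t' <;> simp [h5])
  · refine Finset.eq_empty_of_forall_notMem fun i h => S.not_both (h2 i) ?_ ((m1 1 i).1 h)
    rw [map_one, Units.val_one, one_mul]
  · obtain ⟨g, hg, h5, h6⟩ := h1.exists_diag (sg F s) (m3 s)
    obtain ⟨t, rfl⟩ := S.ex g hg (by rw [h6, prod_sg, hs.neg_one_pow])
    have h7 : t * t = 1 := S.inj (Units.ext (h1.ext fun i => by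
      rw [map_mul, Units.val_mul, mul_assoc, h5, Matrix.mul_smul, h5, smul_smul, map_one, Units.val_one, one_mul, sg]
      split_ifs <;> simp))
    exact ⟨t, ⟨S.mem_Q H.loc hab h7 fun y hy => h1.commute h5 hy, h7⟩, Finset.ext fun i => by rw [m1, h5, m4]⟩
  · rintro ⟨t, ht, rfl⟩
    obtain ⟨g, -, h5, h6⟩ := h1.exists_diag (sg F (sp t)) (m3 _)
    rw [h1.ext fun i => (h5 i).trans (m2 t ht i).symm, prod_sg,
      show (ι t).1.det = 1 from congrArg Units.val (S.det1 t)] at h6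
    exact (neg_one_pow_eq_one_iff_even S.neg_ne).1 h6.symm
  · rw [← m1, ← m1]
    exact h t ht
  · obtain ⟨Ψ, h5, h6⟩ := S.aut α
    exact ⟨Ψ, h5, mv Ψ h6⟩

end S2

end Cfsg.Agent.BH.R2.Nt
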