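import Cfsg.Agent.BH.Row2L.Defs
import Cfsg.Agent.KM.Sc.E0
import Cfsg.Agent.TwoF.DC.Fin.Aut

/-!
# BH (S4524), the prime `2`: the bound `BoxTB` in the simple group, through an isogeny of odd degree (helper34)

`up2`, `up_of`, **`bound`**.
-/

set_option autoImplicit false
set_option linter.unusedSectionVars false
set_option maxHeartbeats 200000

namespace Cfsg.Agent.BH.R2.E6

open Cfsg Subgroup Cfsg.Agent.TO Cfsg.Agent.DL Cfsg.Agent.BH.RO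
open Cfsg.Agent.KM.Ev (Om)
open Cfsg.Agent.KM.Ht (Toral)
open Cfsg.Agent.KM.Sc (Isog)

section grp

variable {Y K : Type} [Group Y] [Group K] {H : Subgroup Y} {π : H →* K} {Q : Subgroup K} {z : ℕ}

theorem eq_one_of {c : Y} (hz : Nat.Coprime 2 z) (h : c ^ z = 1) {j : ℕ} (h' : c ^ 2 ^ j = 1) : c = 1 :=
  orderOf_eq_one_iff.1 (Nat.eq_one_of_dvd_coprimes (hz.pow_left j) (orderOf_dvd_of_pow_eq_one h')
    (orderOf_dvd_of_pow_eq_one h))

/-- the Sylow `2`-subgroup of the preimage -/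
theorem exists_up (hz : Nat.Coprime 2 z) (h1 : ∀ h : H, π h = 1 → (h : Y) ∈ center Y ∧ (h : Y) ^ z = 1)
    (h2 : Q ≤ Ce Q) : ∃ D : Subgroup Y, Up π Q D := by
  have k : ∀ (d e : H), π d ∈ Q → π e ∈ Q → ∀ j : ℕ, (e : Y) ^ 2 ^ j = 1 → Commute (d : Y) e := fun d e hd he j hj => by
    obtain ⟨k1, k2⟩ := h1 (d * e * d⁻¹ * e⁻¹) (by
      rw [map_mul, map_mul, map_mul, map_inv, map_inv, h2 he _ hd]; group)
    simp only [coe_mul, coe_inv] at k1 k2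
    have k3 : Commute ((d : Y) * e * (d : Y)⁻¹ * (e : Y)⁻¹) e := (mem_center_iff.1 k1 e).symm
    have k4 := k3.mul_pow (2 ^ j)
    rw [inv_mul_cancel_right, conj_pow, hj, mul_one, mul_one, mul_inv_cancel] at k4
    exact commutatorElement_eq_one_iff_commute.1 (eq_one_of hz k2 k4.symm)
  refine ⟨⟨⟨⟨{d | ∃ h : d ∈ H, π ⟨d, h⟩ ∈ Q ∧ ∃ j : ℕ, d ^ 2 ^ j = 1}, ?_⟩, one_mem _, ?_, 0, one_pow _⟩, ?_⟩,
    fun _ => Iff.rfl⟩
  · rintro d e ⟨hd, d1, i, d2⟩ ⟨he, e1, j, e2⟩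
    refine ⟨mul_mem hd he, (map_mul π ⟨d, hd⟩ ⟨e, he⟩).symm ▸ mul_mem d1 e1, i + j, ?_⟩
    rw [(k ⟨d, hd⟩ ⟨e, he⟩ d1 e1 j e2).mul_pow, pow_add, pow_mul, d2, mul_comm (2 ^ i), pow_mul, e2, one_pow, one_pow, mul_one]
  · exact (map_one π).symm ▸ one_mem Q
  · rintro d ⟨hd, d1, i, d2⟩
    exact ⟨inv_mem hd, (map_inv π ⟨d, hd⟩).symm ▸ inv_mem d1, i, by rw [inv_pow, d2, inv_one]⟩

theorem Up.lift {D : Subgroup Y} (h : Up π Q D) (hz : Nat.Coprime 2 z) (h0 : Function.Surjective π)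
    (h1 : ∀ h : H, π h = 1 → (h : Y) ^ z = 1) (h2 : IsPGroup 2 Q) {u : K} (hu : u ∈ Q) : ∃ d : H, (d : Y) ∈ D ∧ π d = u := by
  obtain ⟨j, hj⟩ := h2 ⟨u, hu⟩
  replace hj : u ^ 2 ^ j = 1 := congrArg Subtype.val hj
  obtain ⟨m, hm⟩ := exists_pow_eq_self_of_coprime (x := u) (n := z)
    ((hz.pow_left j).symm.coprime_dvd_right (orderOf_dvd_of_pow_eq_one hj))
  obtain ⟨x, rfl⟩ := h0 u
  have e : π ((x ^ z) ^ m) = π x := by rw [map_pow, map_pow, hm]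
  refine ⟨(x ^ z) ^ m, (h _).2 ⟨SetLike.coe_mem _, e.symm ▸ hu, j, ?_⟩, e⟩
  have h3 := h1 (x ^ 2 ^ j) (by rw [map_pow, hj])
  rw [coe_pow, coe_pow, ← pow_mul, ← pow_mul, show z * (m * 2 ^ j) = 2 ^ j * z * m by ring, pow_mul, pow_mul, ← coe_pow, h3,
    one_pow]

end grp

variable {p : ℕ} [Fact p.Prime] {k : Type} [Field k] [CharP k p] [IsAlgClosed k]
  {Y' : Type} [Group Y'] {N' : Type} [Fintype N'] [DecidableEq N'] {ρ' : Y' →* GL N' k} {F' : MulAut Y'}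
  {Y : Type} [Group Y] {N : Type} [Fintype N] [DecidableEq N] {ρ : Y →* GL N k} {F : MulAut Y}
  {X' : Datum p ρ' F' ⊤} {X : Datum p ρ F ⊤} {φ : Y' →* Y} {z a : ℕ} {S : Type} [Group S] {ι : S →* Y}
  {K : Type} [Group K] [Finite K] {σ : K →* S} {M : Ideal AlgInt} {b : Set (IrrCharacter K)} {Q : Subgroup K} {θ : K → ℂ}

theorem mem_ZG (I : Isog X' X φ z) {h : Y'} (e : φ h = 1) : h ∈ KM.E2.ZG X' := ⟨I.ker h trivial e, fun c hc => by
  obtain ⟨d, -, e'⟩ := I.root c hc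
  rw [← I.chi e' (I.ker h trivial e), e, X.χ_one]⟩

theorem exists_cov (s : KM.Sc X' S) (H : QHyp 2 M b Q θ σ) (hK : ¬ p ∣ Nat.card (center K)) :
    ∃ ψ : GF F' ⊤ →* K, Function.Surjective ψ ∧ ∀ h, σ (ψ h) = s.π h :=
  s.cov K H.qs hK ((QuotientGroup.quotientMulEquivOfEq H.ker.symm).trans
    (QuotientGroup.quotientKerEquivOfSurjective σ H.surj))

/-- **the bound in the simple group** -/
theorem bound (B : BoxTB) (hp : p ≠ 2) (hT : TL X' a) (I : Isog X' X φ z) (hz : Nat.Coprime 2 z) (s : KM.Sc X' S)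
    (hi : Function.Injective ι) (hc : φ.ker = center Y') (hι : ∀ h, ι (s.π h) = φ h) (H : QHyp 2 M b Q θ σ)
    (hK : ¬ p ∣ Nat.card (center K)) (h1 : Toral X ((Q.map σ).map ι)) (h2 : 4 < (Om (Q.map σ)).ncard)
    (V : Subgroup (MulAut S)) (h3 : ∀ β ∈ V, ∃ α ∈ LA Q θ, ∀ g, σ (α g) = β (σ g))
    (h4 : ∀ β ∈ V, ∃ g, F g = g ∧ ∀ x, ι (β x) = g * ι x * g⁻¹) : (CQ (Q.map σ)).relIndex V ≤ a := by
  have := X'.amb.finite_GF ⊤
  obtain ⟨ψ, k1, k2⟩ := exists_cov s H hK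
  obtain ⟨f, f1, -, -⟩ := H.exists_dn
  have k3 : ∀ h, ι (σ (ψ h)) = φ h := fun h => by rw [k2, hι]
  have k4 : ∀ h, ψ h = 1 → φ h = 1 := fun h e => by rw [← k3, e, map_one, map_one]
  have k5 : ∀ h, ψ h = 1 → (h : Y') ^ z = 1 := fun h e => I.pow_eq_one trivial (k4 h e)
  obtain ⟨D, hD⟩ := exists_up (π := ψ) hz (fun h e => ⟨hc.le (k4 h e), k5 h e⟩) H.can.ab
  have k6 : D ≤ GF F' ⊤ := fun d hd => ((hD d).1 hd).1
  have k7 : D.map φ = (Q.map σ).map ι := le_antisymm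
    (by
      rintro _ ⟨d, hd, rfl⟩
      obtain ⟨d1, d2, -⟩ := (hD d).1 hd
      exact ⟨_, ⟨_, d2, rfl⟩, k3 ⟨d, d1⟩⟩)
    (by
      rintro _ ⟨_, ⟨u, hu, rfl⟩, rfl⟩
      obtain ⟨d, d1, rfl⟩ := Up.lift hD hz k1 k5 H.pg hu
      exact ⟨d, d1, (k3 d).symm⟩)
  have : Finite D := Finite.of_injective _ (inclusion_injective k6)
  obtain ⟨j, hj⟩ := IsPGroup.iff_card.1 (show IsPGroup 2 D from fun d =>
    ((hD d).1 d.2).2.2.imp fun _ e => Subtype.ext e)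
  have k8 : Toral X' D := I.pull (n := 2 ^ j) (fun _ _ => trivial) (hz.pow_left j)
    (fun d hd => congrArg Subtype.val (hj ▸ pow_card_eq_one' (x := (⟨d, hd⟩ : D)))) (k7 ▸ h1)
  have k9 : 4 < (Om D).ncard := by
    refine h2.trans_le (le_of_eq_of_le (Set.ncard_image_of_injective _ hi).symm
      ((Set.ncard_le_ncard (t := φ '' Om D) ?_ ?_).trans (Set.ncard_image_le ?_)))
    · rintro _ ⟨u, hu, rfl⟩
      obtain ⟨d, hd, e⟩ := k7.ge ⟨u, hu.1, rfl⟩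
      obtain ⟨i, hi⟩ := ((hD _).1 (mul_mem hd hd)).2.2
      exact ⟨d, ⟨hd, eq_one_of hz (I.pow_eq_one trivial (by rw [map_mul, e, ← map_mul, hu.2, map_one])) hi⟩, e⟩
    all_goals
      have := (Set.toFinite (D : Set Y')).subset (show Om D ⊆ D from fun _ h => h.1)
      first | exact this | exact this.image _
  have k10 := B X' hp a hT inferInstance K ψ M b Q θ D k1 (fun h e => mem_ZG I (k4 h e)) H.can hD k8 k9
    (LA Q θ ⊓ V.comap f) inf_le_left fun α hα => by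
      obtain ⟨g, g1, g2⟩ := h4 _ hα.2
      obtain ⟨x, -, rfl⟩ := I.surj g trivial
      have e1 : x⁻¹ * F' x ∈ center Y' := hc.le (by rw [MonoidHom.mem_ker, I.map_lang, g1, inv_mul_cancel])
      have e2 : ∀ h : GF F' ⊤, x * h * x⁻¹ ∈ GF F' ⊤ := fun h => ⟨trivial, by
        show F' _ = x * h * x⁻¹
        have e3 : F' h = h := h.2.2
        rw [map_mul, map_mul, map_inv, e3]
        calc _ = x * ((x⁻¹ * F' x) * h) * (F' x)⁻¹ := by group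
          _ = _ := by rw [← mem_center_iff.1 e1]; group⟩
      let c : GF F' ⊤ →* GF F' ⊤ := ((MulAut.conj x).toMonoidHom.comp (GF F' ⊤).subtype).codRestrict _ e2
      refine ⟨x, ⟨trivial, e1⟩, fun h h' e => ?_⟩
      rw [show h' = c h from Subtype.ext e]
      exact TwoF.DC.hom_eq_of_perfect s.perf H.ker.le (β := ψ.comp c) (β' := α.toMonoidHom.comp ψ) (fun h => hi (by
        show ι (σ (ψ (c h))) = ι (σ (α (ψ h)))
        rw [k3, f1, g2, k3, ← map_inv, ← map_mul, ← map_mul]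
        rfl)) h
  have k11 : (LA Q θ ⊓ V.comap f).map f = V := le_antisymm (map_le_iff_le_comap.2 inf_le_right) fun β hβ => by
    obtain ⟨α, a1, a2⟩ := h3 β hβ
    have e : f α = β := MulEquiv.ext fun x => by
      obtain ⟨x, rfl⟩ := H.surj x
      rw [← f1, a2]
    exact ⟨α, ⟨a1, show f α ∈ V from e ▸ hβ⟩, e⟩
  rw [← k11, ← relIndex_comap]
  refine (Nat.le_of_dvd (Nat.pos_of_ne_zero index_ne_zero_of_finite) (relIndex_dvd_of_le_left _ fun α hα => ?_)).trans k10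
  rw [mem_comap, mem_fixingSubgroup_iff]
  rintro _ ⟨u, hu, rfl⟩
  exact (f1 α u).symm.trans (congrArg σ ((mem_fixingSubgroup_iff _).1 hα u hu))

end Cfsg.Agent.BH.R2.E6
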