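import Cfsg.Agent.BH.Row2L.Defs
import Cfsg.Agent.BH.RowE.OutL
import Cfsg.Agent.KM.Ev.Fr

/-!
# BH (S4524), the prime `2`: the rows `G₂`, `³D₄`, `F₄` (helper67)

* `G67.row_four` : rank at most two; `G67.tb_one`, `G67.row_geo` : `S = G ^ F` with trivial covers;
* **`row_g2`, `row_td4`, `row_f4_of`** (the lattice facts `TLF4` as a hypothesis).
-/

set_option autoImplicit false
set_option linter.unusedSectionVars false
set_option maxRecDepth 100000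

namespace Cfsg.Agent.BH.R2

open Cfsg Cfsg.Lie Subgroup Matrix Cfsg.Agent.TO Cfsg.Agent.KM.BK Cfsg.Agent.BH.RO
open Cfsg.Agent.KM.Ev Cfsg.Agent.KM.Tor
open Cfsg.Agent.KM.Sp (LocA)
open Cfsg.Agent.KM.Ht (Toral)
open Cfsg.Agent.DL Cfsg.Agent.KZ.DatX Cfsg.Agent.Nodes.RGDChev Cfsg.Agent.BpExc Cfsg.Agent.BpExc.Zc
  Cfsg.Agent.ChevalleyStructure.NPerm Cfsg.Agent.ChevalleyStructure.CoxeterGeom
  Cfsg.Agent.ChevalleyStructure.CoxeterGeomTypes Cfsg.Agent.Tits.Roots Cfsg.Agent.TO.X5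
open Cfsg.Agent.TO.X.Cn (Pi1 pi1 pm_G2 pm_F4 pm_D4)
open Cfsg.Agent.TO.X (ZD)

namespace G67

section Grp

variable {S Y : Type} [Group S] [Group Y]

theorem om_map {ι : S →* Y} (hι : Function.Injective ι) (Q : Subgroup S) : (Om (Q.map ι)).ncard = (Om Q).ncard := by
  have e : Om (Q.map ι) = ι '' Om Q := Set.ext fun y => ⟨fun ⟨⟨d, hd, e⟩, h3⟩ =>
    ⟨d, ⟨hd, hι (by rw [map_mul, e, h3, map_one])⟩, e⟩, fun ⟨d, hd, e⟩ => ⟨⟨d, hd.1, e⟩, by rw [← e, ← map_mul, hd.2, map_one]⟩⟩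
  rw [e, Set.ncard_image_of_injective _ hι]

theorem om_st {Q E : Subgroup S} {Γ : Subgroup (MulAut S)} (h : St Q E Γ) : (Om Q).ncard = Nat.card Q := by
  have e : Om Q = (Q : Set S) := Set.ext fun y => ⟨fun h => h.1, fun hy => ⟨hy, h.sq y hy⟩⟩
  rw [e]
  rfl

/-- **rank at most two** -/
theorem row_four [Finite S] (P : Px) (h0 : OutC S) (h : ∀ Q : Subgroup S, LocA 2 Q → (Om Q).ncard ≤ 4) : Row S :=
  P.row_rk h0 (fun Q hQ => (h Q hQ).trans (by decide)) fun _ _ _ _ _ _ _ _ _ _ hs => by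
    have h1 := h _ hs.loc
    have h2 := hs.big
    rw [om_st hs] at h1
    omega

/-- at most three involutions -/
def Few (H : Subgroup Y) : Prop := ∀ D : Subgroup Y, Co H D → (Om D).ncard ≤ 4

variable {F : MulAut Y} {G T : Subgroup Y} {ι : S →* Y}

theorem co_one [Finite S] (O : DL.Ex.Over F G T ι 1) {Q : Subgroup S} (h : LocA 2 Q) : Co (GF F G) (Q.map ι) :=
  co_of_loc O.inj O.mem (fun _ hy _ => O.range_eq.ge hy) h

theorem Few.row [Finite S] (h : Few (GF F G)) (O : DL.Ex.Over F G T ι 1) (P : Px) (h0 : OutC S) : Row S :=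
  row_four P h0 fun Q hQ => om_map O.inj Q ▸ h _ (co_one O hQ)

end Grp

section Dat

variable {p : ℕ} [Fact p.Prime] {k : Type} [Field k] [CharP k p] {Y : Type} [Group Y] {N : Type} [Fintype N]
  [DecidableEq N] {ρ : Y →* GL N k} {F : MulAut Y} {G : Subgroup Y} [IsAlgClosed k] {X : Datum p ρ F G}

theorem few_all (cz : CommZ X.cs X.h X.X) (hp : p ≠ 2) (mc : MC X)
    (h : ∀ t ∈ GF F G, t * t = 1 → t ≠ 1 → ∃ K, Rk X t K ∧ ∀ y ∈ K, F y ∈ K)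
    (h4 : {x | x = 0 ∨ Rc X x}.ncard ≤ 4) : Few (GF F G) := fun D H => by
  obtain ⟨g, -, P, h1, h2, -⟩ := tor_all cz hp mc H (R := Om D \ {1}) H.om_fin.sdiff fun t ht =>
    ⟨ht.1.1, ht.2, h t (H.le ht.1.1) ht.1.2 ht.2⟩
  refine le_trans (Set.ncard_le_ncard (t := (fun x => g * iw X x * g⁻¹) '' {x | x = 0 ∨ Rc X x}) fun d hd => ?_)
    ((Set.ncard_image_le).trans h4)
  by_cases e : d = 1
  · exact ⟨0, .inl rfl, by simp only [iw_zero hp, e, mul_one, mul_inv_cancel]⟩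
  · obtain ⟨a, ha, h3⟩ := h2 d ⟨hd, e⟩
    exact ⟨_, .inr ⟨a, h1 a ha, rfl⟩, by simp only [← ct_iw hp, ← h3]; group⟩

theorem few_g (cz : CommZ X.cs X.h X.X) (hp : p ≠ 2) (h : Pi1 X 1) (uq : UQ X) (hg : ∀ a, Lg X a → Lg X (X.g a))
    (h1 : ∀ x, x ≠ 0 → Rc X x) (h4 : Nat.card (X.R → ZMod 2) = 4) : Few (GF F G) :=
  few_all cz hp (mc_of h (Nat.coprime_one_right 2)) (fun t ht k1 k2 => by
    obtain ⟨g, k3, k4⟩ := tor_one (X := X) hp ht.1 k1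
    obtain ⟨x, hx⟩ := exists_iw hp k4 k1
    exact ((ro_iff cz hp k3 hx).2 (h1 x fun e => k2 (cj_eq_one.1 (by rw [hx, e, iw_zero hp])))).imp
      fun K hK => ⟨hK, hK.stable cz hp uq hg ht⟩) (h4 ▸ Set.ncard_le_card _)

theorem few_t (cz : CommZ X.cs X.h X.X) (hp : p ≠ 2) (h : Pi1 X 2) (h1 : D4 X) (h3 : Tri X X.Mx)
    (h4 : {x | x = 0 ∨ Rc X x}.ncard ≤ 4) : Few (GF F G) := few_all cz hp (mc_tri hp h h3) (fun t ht k1 k2 => by
  obtain ⟨g, hg, k3⟩ := tor_one (X := X) hp ht.1 k1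
  obtain ⟨y, hy, hN, k4, -⟩ := SB.Exc.Max.exists_conj_le_T X (Z := {t}) (fun _ e => e ▸ ht.2) hg fun _ e => e ▸ k3
  obtain ⟨a, ha, k5, k6⟩ := fix_root (X := X.conj hy hN) hp (h1.conj hy hN) (h3.tw _) (k4 rfl) k1 k2 ht.2
  refine ⟨_, ⟨y, hy, a, ha, by rw [k5, ct, KM.Ev.conj_cor hy hN ha.1, X.conj_tau, ct]; group, rfl⟩, fun z hz => ?_⟩
  rw [← X.conj_S hy hN] at hz ⊢
  refine (X.conj hy hN).F_mem_S (TO.G2D.rt_pair ha.1) ?_ hz
  rintro _ (rfl | rfl)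
  · exact k6
  · rw [(X.conj hy hN).g_neg ha.1]
    exact k6.symm.imp (fun e => by rw [e, neg_neg]) fun e => by rw [e]; rfl) h4

variable {S : Type} [Group S] [Finite S] {T : Subgroup Y} {ι : S →* Y}

/-- **a toral defect group**, `S = G ^ F`, trivial covers -/
theorem tb_one (B : Bx) (hp : p ≠ 2) {a : ℕ} (hT : TL X a) (O : DL.Ex.Over F G T ι 1) (hZ : ZD 1 S) {K : Type} [Group K] [Finite K]
    {σ : K →* S} {M : Ideal AlgInt} {b : Set (IrrCharacter K)} {Q : Subgroup K} {θ : K → ℂ} (H : QHyp 2 M b Q θ σ)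
    (h1 : Toral X ((Q.map σ).map ι)) (h2 : 4 < (Om (Q.map σ)).ncard) : (Ce (Q.map σ)).relIndex ((In Q θ).map σ) ≤ a := by
  have h3 : Function.Injective σ := (MonoidHom.ker_eq_bot_iff σ).1 (H.ker.trans (Subgroup.card_eq_one.1
    (Nat.dvd_one.1 (hZ K σ H.qs.1.commutator_eq_top H.surj H.ker H.cyc))))
  obtain ⟨e, he⟩ : ∃ e : K ≃* GF F G, ∀ x, (e x : Y) = ι (σ x) :=
    ⟨(MulEquiv.ofBijective σ ⟨h3, H.surj⟩).trans O.equiv, fun _ => rfl⟩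
  obtain ⟨h4, -, -, h5⟩ := B.t.loc S K σ M b Q θ H
  have h6 : (CQ Q).comap (MulAut.conj : K →* MulAut K) = Ce Q := Subgroup.ext fun x => by
    rw [mem_comap, mem_fixingSubgroup_iff]
    exact forall₂_congr fun y _ => mul_inv_eq_iff_eq_mul.trans eq_comm
  rw [h5, ← h6, relIndex_comap]
  refine B.tb X hp a hT (X.amb.finite_GF G) K e.symm.toMonoidHom M b Q θ _ e.symm.surjective (fun h h7 => ?_) H.can
    (fun d => ⟨?_, ?_⟩) h1 (by rwa [om_map O.inj]) _ (map_comap_le _ _) ?_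
  · rw [e.symm.map_eq_one_iff.1 h7]
    exact one_mem _
  · rintro ⟨_, ⟨x, hx, rfl⟩, rfl⟩
    refine ⟨O.mem _, ?_, (h4.pelt (mem_map_of_mem σ hx)).imp fun j hj => by rw [← map_pow, hj, map_one]⟩
    rwa [show (⟨ι (σ x), O.mem _⟩ : GF F G) = e x from Subtype.ext (he x).symm, MulEquiv.coe_toMonoidHom, e.symm_apply_apply]
  · rintro ⟨h, h7, -⟩
    exact ⟨_, ⟨_, h7, rfl⟩, (he _).symm.trans (congrArg Subtype.val (e.apply_symm_apply _))⟩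
  · rintro _ ⟨n, -, rfl⟩
    refine ⟨e n, ⟨(e n).2.1, by rw [(mem_GF.1 (e n).2).2, inv_mul_cancel]; exact one_mem _⟩, fun h h' h7 => ?_⟩
    rw [show h' = e n * h * (e n)⁻¹ from Subtype.ext h7]
    simp

/-- **toral or small**, `S = G ^ F`, trivial covers, no stabilisers -/
theorem row_geo (B : Bx) (hp : p ≠ 2) (hT : TL X 1) (O : DL.Ex.Over F G T ι 1) (hZ : ZD 1 S) (hG : Geo X) (h0 : OutC S)
    (h1 : NS S 2) : Row S := by
  refine B.row_ns h0 h1 (fun K _ _ σ M b Q θ H => ?_) fun K _ _ σ M b Q θ H Γ hs => ?_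
  · by_cases h2 : (Om (Q.map σ)).ncard ≤ 8
    · exact .inl h2
    rcases hG _ (co_one O (B.t.loc S K σ M b Q θ H).1) with h3 | h3
    · exact .inr (.inl ((tb_one B hp hT O hZ H h3 (by omega)).trans (by decide)))
    · rw [Sm, om_map O.inj] at h3
      omega
  · obtain ⟨-, -, h2, h3⟩ := B.t.cor S _ _ Γ hs
    have h4 := hs.big
    have h5 := om_st hs
    rcases hG _ (co_one O hs.loc) with h6 | h6 | ⟨h6, _, ⟨⟨r, hr, rfl⟩, -⟩, _, ⟨⟨s, hs', rfl⟩, -⟩, r1, s1, h7⟩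
    · have := tb_one B hp hT O hZ H h6 (by omega)
      omega
    · rw [om_map O.inj] at h6
      omega
    · rw [om_map O.inj] at h6
      obtain ⟨x, -, hx⟩ := (h3 (by omega)).2 r hr s hs' (fun e => r1 (by rw [e, map_one])) fun e => s1 (by rw [e, map_one])
      exact h7 _ (O.mem x).1 (by rw [← map_inv, ← map_mul, ← map_mul, hx])

end Dat

variable {r e : ℕ} [Fact r.Prime] {k : Type} [Field k] [CharP k r] [IsAlgClosed k]

theorem few_g2 (X : XF hpG2 r k ((r : ℤ) ^ e • 1)) (h2 : r ≠ 2) : Few (GF X.F ⊤) := by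
  have hc := cor_cv X H931.KC.ok_G2.1 (by decide)
  have hL : ∀ s : Fin chevG2.nroots, (∀ t : Fin chevG2.nroots, vec chevG2 2 t ≠ vec chevG2 2 s →
    vec chevG2 2 t ⬝ᵥ cv ![![2, -3], ![-3, 6]] (vec chevG2 2 s) ≤ 1) ↔ 3 ∣ vec chevG2 2 s 0 := by decide +kernel
  exact few_g (cz X) h2 (pi1 X pm_G2) (uq_of X hc (L := fun a => 3 ∣ a 0) hL (by decide +kernel)) (lg_g X)
    (fun x => (rc_iff X hc (L := fun a => 3 ∣ a 0) hL (Q := (· ≠ 0)) (by decide +kernel) (by decide +kernel) x).2)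
    (Nat.card_eq_fintype_card.trans rfl)

theorem few_td4 (X : XF hpD4 r k ((r : ℤ) ^ e • P4)) (h2 : r ≠ 2) : Few (GF X.F ⊤) := by
  have hr := rc_iff X (fun _ => cor_eq X (by decide +kernel)) (L := fun _ => True) lD
    (Q := fun x => x ≠ 0 ∧ x 0 = x 2 ∧ x 0 = x 3) (by decide +kernel) (by decide +kernel)
  refine few_t (cz X) h2 (pi1 X pm_D4) (d4 X) (fun (μ : Fin 4 → ℤ) => (lq_iff X _).2 ?_) ((Set.ncard_le_ncard
    (fun x hx => hx.imp_right (hr x).1) (Set.toFinite _)).trans (ncard_le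
      (P := fun x : Fin 4 → ZMod 2 => x = 0 ∨ x ≠ 0 ∧ x 0 = x 2 ∧ x 0 = x 3) (by decide +kernel)))
  obtain ⟨m, hm⟩ := (((Fact.out : r.Prime).odd_of_ne_two h2).natCast (R := ℤ)).pow (n := e)
  have h3 : ∀ v : Fin 4 → ℤ, ((r : ℤ) ^ e • P4) *ᵥ v = (2 * m + 1) • ![v 3, v 1, v 0, v 2] := fun v => by
    have h : P4 = !![0, 0, 0, 1; 0, 1, 0, 0; 1, 0, 0, 0; 0, 0, 1, 0] := by decide +kernel
    rw [smul_mulVec, hm, h]
    congr 1
    funext i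
    fin_cases i <;> simp [mulVec, dotProduct, Fin.sum_univ_four]
  have h4 : ∀ v : Fin 4 → ℤ, v = μ + ((r : ℤ) ^ e • P4) *ᵥ μ + ((r : ℤ) ^ e • P4) *ᵥ ((r : ℤ) ^ e • P4) *ᵥ μ →
      2 ∣ v 0 + v 2 ∧ 2 ∣ v 0 + v 3 := fun v hv => by
    rw [hv, h3, h3]
    simp [vecHead, vecTail]
    exact ⟨⟨μ 0 + μ 2 + μ 3 + m * (μ 0 + μ 3) + (2 * m * m + 2 * m) * (μ 2 + μ 3), by ring⟩,
      μ 0 + μ 2 + μ 3 + m * (μ 2 + μ 3) + (2 * m * m + 2 * m) * (μ 2 + μ 0), by ring⟩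
  exact h4 _ rfl

theorem geo_f4 (X : XF hpF4 r k ((r : ℤ) ^ e • 1)) (h2 : r ≠ 2) : Geo X.D := by
  have hc : ∀ a, X.D.Rt a → X.D.cor a = cv BF a := cor_cv X H931.KC.ok_F4.1 (by decide)
  have hr := rc_iff X hc lF (Q := QF) (by decide +kernel) (by decide +kernel)
  have e : Rc X.D = QF := funext fun x => propext (hr x)
  refine geo_f (cz X) h2 (pi1 X pm_F4) (Nat.coprime_one_right 2) (uq_of X hc lF (by decide +kernel)) (lg_g X)
    (e ▸ latF.2.2.2) (fun x y hx => cc_sub (iw_mem x) (cc_iw h2 (pi1 X pm_F4) (Nat.coprime_one_right 2) x)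
      (fun (v : Fin 4 → ℤ) => ?_) (iw_mem y)) (by unfold P3; rw [e]; exact latF.1) (zcs X 2) (e ▸ latF.2.1)
      (forall_rt X fun s => ncard_le (P := fun x => c2 (vec chevF4 4 s) ⬝ᵥ x = 0) (by revert s; decide +kernel))
      (e ▸ latF.2.2.1)
  have h3 : ∀ j : Fin 4, ![![0, 0, -1, 2], ![0, -1, 2, -1], ![-1, 1, 0, -1], ![1, 0, 0, -1]] j ∈
      AddSubgroup.closure (X.D.cor '' X.D.Sz {iw X.D x}) := fun j =>
    let ⟨s, h3, h4⟩ := spF j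
    AddSubgroup.subset_closure ⟨_, ⟨rt_vec X s, fun _ e' => e' ▸ (χ_iw h2 _ x).2 (h3 x (e ▸ hx))⟩, (hc _ (rt_vec X s)).trans h4⟩
  have h4 : v = (2 * v 0 + 4 * v 1 + 3 * v 2 + 2 * v 3) • ![0, 0, -1, 2] + (v 0 + 2 * v 1 + 2 * v 2 + v 3) • ![0, -1, 2, -1] +
      ((v 0 + 3 * v 1 + 2 * v 2 + v 3) • ![-1, 1, 0, -1] + (2 * v 0 + 3 * v 1 + 2 * v 2 + v 3) • ![1, 0, 0, -1]) := by
    funext i
    fin_cases i <;> simp <;> ring
  exact h4 ▸ add_mem (add_mem (zsmul_mem (h3 0) _) (zsmul_mem (h3 1) _)) (add_mem (zsmul_mem (h3 2) _) (zsmul_mem (h3 3) _))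

end G67

open G67

/-- **the row `G₂(q)`** -/
theorem row_g2 (B : Bx) : RowFor KM.CG2 := fun S _ _ _ _ h => by
  obtain ⟨r, e, _, hr, -, -, k, _, _, _, X, -, ⟨s⟩⟩ := KM.Nt.row_G2 h
  exact (few_g2 X hr.symm).row s.ov B.toPx (outC_g2 h)

/-- **the row `³D₄(q)`** -/
theorem row_td4 (B : Bx) : RowFor KM.CTd4 := fun S _ _ _ _ h => by
  obtain ⟨r, e, _, hr, -, k, _, _, _, X, -, ⟨s⟩⟩ := KM.Nt.row_3D4 h
  exact (few_td4 X hr.symm).row s.ov B.toPx (outC_td4 h)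

/-- the lattice facts for `F₄` -/
def TLF4 : Prop := ∀ (r e : ℕ) [Fact r.Prime] (k : Type) [Field k] [CharP k r] [IsAlgClosed k]
  (X : XF hpF4 r k ((r : ℤ) ^ e • 1)), 0 < e → r ≠ 2 → TL X.D 1

/-- **the row `F₄(q)`** -/
theorem row_f4_of (hT : TLF4) (B : Bx) : RowFor KM.CF4 := fun S _ _ _ hS h => by
  obtain ⟨r, e, _, hr, he, k, _, _, _, X, -, ⟨s⟩⟩ := KM.Nt.row_F4 h
  refine row_geo B hr.symm (hT r e k X he hr.symm) s.ov ?_ (geo_f4 X hr.symm) (outC_f4 h) (B.ns.f4 S hS h)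
  obtain ⟨F, _, _, h3, ⟨i⟩⟩ := h
  refine (TO.X.zd_F4 fun h4 => h3 ?_).congr i
  exact h4 ▸ FiniteField.cast_card_eq_zero F

end Cfsg.Agent.BH.R2
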