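import Cfsg.Agent.BH.Row2L.RowE6a
import Cfsg.Agent.BH.Row2L.RowG
import Cfsg.Agent.BH.RowO.G
import Cfsg.Agent.BH.RowO.Diag
import Cfsg.Agent.KM.Ev.E6X
import Cfsg.Agent.KM.Ev.Q2X
import Cfsg.Agent.KM.Ev.Q2S
import Cfsg.Agent.KM.Nt

/-!
# BH (S4524), the prime `2`: the rows `E₆`, `²E₆` from the lattice facts (helper34)

`Dg` (inner-diagonal automorphisms), `comm_mem`, `rt_aut`, `nos`, `ixa`, `row`.
-/

set_option autoImplicit false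
set_option linter.unusedSectionVars false
set_option maxHeartbeats 200000

namespace Cfsg.Agent.BH.R2.E6

open Cfsg Cfsg.Lie Matrix Subgroup Cfsg.Agent.TO Cfsg.Agent.DL Cfsg.Agent.DL.PP Cfsg.Agent.BH.RO Cfsg.Agent.KZ.DatX
open Cfsg.Agent.KM.Ev (Om Co co_of_loc geo_e6 lg_act)
open Cfsg.Agent.KM.Ev.Q2 (RT)
open Cfsg.Agent.KM.Sp (LocA)
open Cfsg.Agent.KM.Sc (Isog)

section gen

variable {p : ℕ} [Fact p.Prime] {k : Type} [Field k] [CharP k p] [IsAlgClosed k]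
  {Y : Type} [Group Y] {N : Type} [Fintype N] [DecidableEq N] {ρ : Y →* GL N k} {F : MulAut Y} {G : Subgroup Y}
  {X : Datum p ρ F G} {S : Type} [Group S] {ι : S →* Y}

/-- the root type is invariant -/
theorem rt_au {α : MulAut Y} {c : ℤ} {w : X.W} (h : Au X α (c • X.Wm w)) (hc : Odd c) {t : Y} (ht : RT X t) : RT X (α t) := by
  obtain ⟨_, g, hg, a, ha, e, -⟩ := ht
  refine ⟨_, α g, (h.memG g).2 hg, X.act w a, lg_act ha w, ?_, rfl⟩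
  rw [← map_inv, ← map_mul, ← map_mul, e, X5.ct, h.tau, mon_coch, smul_mulVec, coch_zsmul, hc.neg_one_zpow, X5.ct,
    X.cor_act w ha.1]

theorem co_odd [Finite S] {T : Subgroup Y} {d : ℕ} (O : Ex.Over F G T ι d) (hd : ¬ 2 ∣ d) {Q : Subgroup S} (h : LocA 2 Q) :
    Co (GF F G) (Q.map ι) := co_of_loc O.inj O.mem (fun y hy ⟨j, hj⟩ => by
  obtain ⟨m, hm⟩ := exists_pow_eq_self_of_coprime (x := y) (n := d)
    (((Nat.prime_two.coprime_iff_not_dvd.2 hd).pow_left j).symm.coprime_dvd_right (orderOf_dvd_of_pow_eq_one hj))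
  exact hm ▸ pow_mem (O.mem_range.1 (O.pow_mem ⟨y, hy⟩)) m) h

variable (F ι) in
/-- the inner-diagonal automorphisms -/
def Dg : Subgroup (MulAut S) where
  carrier := {β | ∃ g, F g = g ∧ ∀ x, ι (β x) = g * ι x * g⁻¹}
  one_mem' := ⟨1, map_one _, fun x => by simp⟩
  mul_mem' := fun ⟨g, g1, g2⟩ ⟨c, c1, c2⟩ => ⟨g * c, by rw [map_mul, g1, c1], fun x => by
    rw [MulAut.mul_apply, g2, c2]; group⟩
  inv_mem' := fun {β} ⟨g, g1, g2⟩ => ⟨g⁻¹, by rw [map_inv, g1], fun x => by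
    have h := g2 (β⁻¹ x)
    rw [MulAut.apply_inv_self] at h
    rw [h]; group⟩

variable (F ι) in
/-- `σ` is induced by `α` up to `G ^ F` -/
def Lf (σ : MulAut S) (α : MulAut Y) : Prop := ∃ g, F g = g ∧ ∀ s, ι (σ s) = g * α (ι s) * g⁻¹

variable {σ σ' : MulAut S} {α β : MulAut Y} {A : Matrix X.R X.R ℤ}

theorem Lf.mul (h : Lf F ι σ α) (h' : Lf F ι σ' β) (hα : Au X α A) : Lf F ι (σ * σ') (α * β) := by
  obtain ⟨g, g1, g2⟩ := h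
  obtain ⟨c, c1, c2⟩ := h'
  refine ⟨g * α c, by rw [map_mul, g1, ← hα.comm, c1], fun s => ?_⟩
  rw [MulAut.mul_apply, g2, c2, map_mul, map_mul, map_inv, MulAut.mul_apply]
  group

end gen

variable {r : ℕ} [hr : Fact r.Prime] {k : Type} [Field k] [CharP k r] [IsAlgClosed k] {Mx : Matrix (Fin 6) (Fin 6) ℤ}
  {X : XF hpE6 r k Mx} {d : ℕ} {S : Type} [Group S] (t : XS X (AdmL r [1, P6]) d S)

theorem Lf.div {ι : S →* ↥(chevE6.group k)} {σ σ' : MulAut S} {α β : MulAut ↥(chevE6.group k)} {A : Matrix X.D.R X.D.R ℤ}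
    (h : Lf X.F ι σ α) (h' : Lf X.F ι σ' β) (hα : Au X.D α A) (hβ : Au X.D β A) : σ * σ'⁻¹ ∈ Dg X.F ι := by
  obtain ⟨g, g1, g2⟩ := h
  obtain ⟨c, c1, c2⟩ := h'
  have h1 := Gn.au_div hα hβ
  obtain ⟨t, -, h2⟩ := boxDiag X.D _ h1
  have h3 : t⁻¹ * X.F t = 1 := cn_one hpE6 ⟨trivial, fun y _ => by
    obtain ⟨y, rfl⟩ := X.F.surjective y
    have h4 := h1.comm y
    rw [h2 _ trivial, h2 _ trivial, map_mul, map_mul, map_inv] at h4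
    calc _ = t⁻¹ * (t * X.F y * t⁻¹) * X.F t := by group
      _ = _ := by rw [h4]; group⟩
  refine ⟨g * t * c⁻¹, by rw [map_mul, map_mul, map_inv, g1, c1, ← inv_mul_eq_one.1 h3], fun s => ?_⟩
  obtain ⟨s, rfl⟩ := σ'.surjective s
  have h4 := h2 (β (ι s)) trivial
  rw [MulAut.mul_apply, MulAut.inv_apply_self] at h4 ⊢
  rw [g2, c2, h4]
  group

theorem adm_comm {A B : Matrix (Fin 6) (Fin 6) ℤ} (h : AdmL r [1, P6] A) (h' : AdmL r [1, P6] B) : A * B = B * A := by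
  obtain ⟨j, A, h1, rfl⟩ := h
  obtain ⟨i, B, h2, rfl⟩ := h'
  simp only [List.mem_cons, List.not_mem_nil, or_false] at h1 h2
  refine (Commute.smul_right (Commute.smul_left ?_ _) _).eq
  rcases h1 with rfl | rfl <;> rcases h2 with rfl | rfl <;> simp

theorem comm_mem (σ σ' : MulAut S) : σ * σ' * σ⁻¹ * σ'⁻¹ ∈ Dg X.F t.ι := by
  obtain ⟨g, hg, α, A, h1, h2, h3⟩ := t.aut σ
  obtain ⟨c, hc, β, B, k1, k2, k3⟩ := t.aut σ'
  have h4 : Lf X.F t.ι σ α := ⟨g, hg.2, h3⟩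
  have k4 : Lf X.F t.ι σ' β := ⟨c, hc.2, k3⟩
  have h5 := (h4.mul k4 h1).div (k4.mul h4 k1) (KZ.Dat.au_mul h1 k1) ((adm_comm k2 h2 : B * A = A * B) ▸ KZ.Dat.au_mul k1 h1)
  rwa [_root_.mul_inv_rev, ← mul_assoc] at h5

theorem rt_aut (h2 : r ≠ 2) (σ : MulAut S) {s : S} (h : RT X.D (t.ι s)) : RT X.D (t.ι (σ s)) := by
  obtain ⟨g, hg, α, _, h1, ⟨j, B, h3, rfl⟩, h4⟩ := t.aut σ
  obtain ⟨w, hw⟩ := X.exists_neg_E6
  have h5 : Odd ((r : ℤ) ^ j) := ((Int.odd_coe_nat r).2 (hr.out.odd_of_ne_two h2)).pow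
  have h6 : RT X.D (α (t.ι s)) := by
    simp only [List.mem_cons, List.not_mem_nil, or_false] at h3
    rcases h3 with rfl | rfl
    · exact rt_au (w := 1) (X.D.Wm_one.symm ▸ h1) h5 h
    · have e : (r : ℤ) ^ j • P6 = (-(r : ℤ) ^ j) • X.D.Wm w := (neg_smul_neg _ P6).symm.trans (congrArg _ hw.symm)
      exact rt_au (w := w) (e ▸ h1) h5.neg h
  simpa only [inv_inv, h4] using h6.conj (inv_mem hg.1)

variable [Finite S] (h2 : r ≠ 2) (hd : ¬ 2 ∣ d)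
include t h2 hd

/-- no pure subgroup of order at least eight -/
theorem nos : NoS S := fun K _ _ σ M b Q θ H Γ h => by
  have h1 := co_odd t.ov hd h.loc
  have h4 : 4 < (Om ((Q.map σ).map t.ι)).ncard := by
    rw [G67.om_map t.ov.inj, G67.om_st h]
    exact lt_of_lt_of_le (by decide) h.big
  have k1 := KM.Ev.Q2.cz X
  have k2 := KM.Ev.Q2.s6 X
  have k3 := TO.X.Cn.pi1 X TO.X.Cn.pm_E6
  obtain ⟨_, ⟨⟨u, hu, rfl⟩, u1⟩, u2, u3⟩ := KM.Ev.Q2.exists_rt k1 h2 k2 k3 (by decide) h1 h4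
  obtain ⟨g, hg, h3⟩ := KM.Ev.Q2.tor_rt k1 h2 k2 k3 (by decide) h1 KM.Ev.Q2.boxSat ⟨⟨u, hu, rfl⟩, u1⟩ u2 u3
  obtain ⟨x, y, z, T⟩ := KM.Ev.Q2.exists_tri h1.ab h4
  obtain ⟨_, ⟨⟨v, hv, rfl⟩, -⟩, v2, v3⟩ := T.not_all k1 h2 k2.toUn h1.ab hg (h3 _ T.mr.1) (h3 _ T.ms.1) (h3 _ T.mu.1)
  obtain ⟨α, -, rfl⟩ := h.tr u hu v hv (fun e => u2 (by rw [e, map_one])) fun e => v2 (by rw [e, map_one])
  exact v3 (rt_aut t h2 α u3)

variable {Y : Type} [Group Y] {N : Type} [Fintype N] [DecidableEq N] {ρ : Y →* GL N k} {F : MulAut Y} {X' : Datum r ρ F ⊤}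
  {φ : Y →* ↥(chevE6.group k)}

theorem ixa (B : Bx) (hT : TL X' 3) (I : Isog X' X.D φ 3) (s : KM.Sc X' S) (hc : φ.ker = center Y)
    (hι : ∀ h, t.ι (s.π h) = φ h) (hZ : TO.X.ZD d S) : IxA S := fun K _ _ σ M b Q θ H A A₀ _ Γ Γ₀ h h3 => by
  by_cases h8 : (Om (Q.map σ)).ncard ≤ 8
  · exact B.a2 S _ _ Γ Γ₀ h h8
  have h4 := (geo_e6 X h2 _ (co_odd t.ov hd (B.t.loc S K σ M b Q θ H).1)).resolve_right fun e => h8 (by
    rw [← G67.om_map t.ov.inj]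
    exact e.elim (·.trans (by decide)) (·.1))
  refine B.a3.gen S _ _ Γ Γ₀ h (Γ ⊓ Dg X.F t.ι) inf_le_left (fun x hx => ⟨(h.inn x).2 hx, t.ι x, (t.ov.mem x).2, fun y => ?_⟩)
    (fun α hα β hβ => ⟨Γ.mul_mem (Γ.mul_mem (Γ.mul_mem hβ hα) (Γ.inv_mem hβ)) (Γ.inv_mem hα), comm_mem t β α⟩)
    (bound B.tb h2 hT I (by decide) s t.ov.inj hc hι H (fun e => ?_) h4 (by omega) _
      (fun β hβ => let ⟨α, a1, a2⟩ := h3 β hβ.1; ⟨α, a1.2, a2⟩) fun _ hβ => hβ.2)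
  · rw [MulAut.conj_apply, map_mul, map_mul, map_inv]
  · exact hr.out.one_lt.ne' (t.cop.symm.eq_one_of_dvd (e.trans
      (hZ K σ H.qs.1.commutator_eq_top H.surj H.ker H.cyc)))

omit t h2 hd in
/-- **the row** -/
theorem row {Adm : Matrix (Fin 6) (Fin 6) ℤ → Prop} {m : ℕ} (B : Bx) (h2 : r ≠ 2) (h : KM.Sc.HasSc hpE6 r Mx Adm 3 (Nat.gcd 3 m) S)
    (hA : ∀ A, Adm A → AdmL r [1, P6] A) (hZ : TO.X.ZD (Nat.gcd 3 m) S) (h0 : OutC S)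
    (hT : ∀ (k : Type) [Field k] [CharP k r] [IsAlgClosed k] (X : XF hpE6 r k Mx) (Y : Type) [Group Y] (N : Type) [Fintype N]
      [DecidableEq N] (ρ : Y →* GL N k) (F : MulAut Y) (X' : Datum r ρ F ⊤) (φ : Y →* ↥(chevE6.group k)),
      Isog X' X.D φ 3 → TO.X.Cn.Pi1 X' 1 → TL X' 3) : Row S := by
  obtain ⟨k, _, _, _, X, t, -, Y, _, N, _, _, ρ, F, X', φ, s, ⟨I⟩, h3, h4⟩ := h
  exact B.toPx.row (B.v.dl S h0) (ixa (t.mono hA) h2 (KM.Ev.not_two m) B (hT k X Y N ρ F X' φ I s.pi1) I s h3 h4 hZ)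
    (nos (t.mono hA) h2 (KM.Ev.not_two m))

end Cfsg.Agent.BH.R2.E6
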