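import Cfsg.Agent.BH.Row2L.Defs
import Cfsg.Agent.BH.Main.I
import Cfsg.Agent.BH.Ht.Main
import Cfsg.Agent.BH.Orb.Tri
import Cfsg.Agent.BH.V4.Main
import Cfsg.Agent.Lib.CoprimeAbelian
import Cfsg.Agent.S0966
import Cfsg.Agent.S0970

/-!
# BH (S4524): the reduction with the interface `AUT'` (helper77)

`boxHT'`, `boxCT`, `boxI'`, `bhg_all'`, `row_old`, `s4524_boxes'`.
-/

set_option autoImplicit false
set_option linter.style.haveILetI false
set_option linter.unusedSectionVars false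

namespace Cfsg.Agent.BH.R2

open Cfsg Cfsg.Agent Cfsg.Agent.Characters.Core Cfsg.Agent.Blocks Cfsg.Agent.TID.Red Cfsg.Agent.KM.BK Cfsg.Agent.TO
open Cfsg.Agent.KM.Mu Cfsg.Agent.SignalizersComponents.Components
open Cfsg.Agent.H591.Reynolds (IsStab)
open Cfsg.Agent.H592.Transport (tr trSet tr_mem_trSet mem_trSet isPBlock_trSet)
open Cfsg.Agent.BH.Main

variable {p : ℕ} [Fact p.Prime] {M : Ideal AlgInt}

namespace Tp77

/-- coprime action on an abelian `p`-group -/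
theorem fit {Γ : Type} [Group Γ] [Finite Γ] {Q E R : Subgroup Γ} (ab : Q ≤ Ce Q) (pg : IsPGroup p Q)
    (hE : E ≤ Subgroup.normalizer (Q : Set Γ)) (idx : ¬ p ∣ (Ce Q).relIndex E)
    (hR : ∀ t ∈ E, ∀ u ∈ Q, t * u * t⁻¹ * u⁻¹ ∈ R) {u : Γ} (hu : u ∈ Q) : ∃ c ∈ Q ⊓ Ce E, ∃ w ∈ R, c * w = u := by
  letI : CommGroup Q := { (inferInstance : Group Q) with mul_comm := fun x y => Subtype.ext (ab y.2 x x.2) }
  let φ : E →* MulAut Q := (Subgroup.normalizerMonoidHom Q).comp (Subgroup.inclusion hE)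
  have hφ : ∀ (a : E) (v : Q), ((φ a v : Q) : Γ) = a * v * (a : Γ)⁻¹ := fun a v => rfl
  have h1 : φ.ker = (Ce Q).subgroupOf E := by
    ext a
    refine ⟨fun h y hy => ?_, fun h => MulEquiv.ext fun v => Subtype.ext ?_⟩
    · have h2 := hφ a ⟨y, hy⟩
      rw [show φ a = 1 from h] at h2
      exact (mul_inv_eq_iff_eq_mul.1 h2.symm).symm
    · rw [hφ, ← show (v : Γ) * a = a * v from h v v.2, mul_inv_cancel_right]
      rfl
  obtain ⟨n, hn⟩ := IsPGroup.iff_card.1 pg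
  obtain ⟨c, w, h2, h3, h4⟩ := Lib.CoprimeAbelian.exists_fixed_mul φ.range.subtype (by
    rw [← Subgroup.index_ker, h1, hn]
    exact (Nat.Coprime.pow_left n ((Nat.Prime.coprime_iff_not_dvd Fact.out).2 idx)).symm) ⟨u, hu⟩
  refine ⟨c, ⟨c.2, fun t ht => ?_⟩, w, ?_, congrArg Subtype.val h4⟩
  · exact mul_inv_eq_iff_eq_mul.1 ((hφ ⟨t, ht⟩ c).symm.trans (congrArg Subtype.val (h2 ⟨_, ⟨t, ht⟩, rfl⟩)))
  · refine (Subgroup.closure_le (R.comap Q.subtype)).2 ?_ h3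
    rintro _ ⟨⟨_, a, rfl⟩, v, rfl⟩
    exact hR a a.2 v v.2

variable {G : Type} [Group G] [Finite G] {B : Set (IrrCharacter G)} {D : Subgroup G}

/-- a normal section which is a `p`-group is covered by the defect group -/
theorem cover (m : Min p M B D) {N₀ N : Subgroup G} [N₀.Normal] [N.Normal] (h : N₀ ≤ N)
    (hi : ∃ k, N₀.relIndex N = p ^ k) {n : G} (hn : n ∈ N) : ∃ w ∈ N₀, ∃ u ∈ D ⊓ N, w * u = n := by
  have := Local.isPrime_of_isPModular m.hM
  letI := Fintype.ofFinite N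
  letI := Fintype.ofFinite (N₀.subgroupOf N)
  have hb : IsPBlock M (cov (cov B N) (N₀.subgroupOf N)) := by
    rw [cov_cov h]
    exact isPBlock_trSet _ (m.blk _)
  obtain ⟨ψ, hψ⟩ := Basic.isPBlock_nonempty hb
  obtain ⟨χ, hχ, h1⟩ := id hψ
  have a1 := covH_iff.1 (⟨χ, hχ, ψ, hψ, h1⟩ : CovH (N₀.subgroupOf N).subtype (cov B N) _)
  obtain ⟨C, -, a2⟩ := S0966.result p M m.hM (N₀.subgroupOf N) hi _ hb
  obtain ⟨a5, -⟩ := S0970.result p M m.hM (N₀.subgroupOf N) _ hb (fun g => (isStab_cov _ _ g).1 (Subgroup.mem_top g)) _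
    (m.blk N) a1 (fun B' h2 h3 => by rw [a2 B' ⟨h2, h3⟩, a2 _ ⟨m.blk N, a1⟩]) _ (defect_cov m.hM m.hB m.hD (m.blk N))
  obtain ⟨k, hk⟩ := hi
  have h2 : N₀.subgroupOf N ⊔ (D ⊓ N).subgroupOf N = ⊤ := by
    rw [sup_comm, ← Subgroup.index_eq_one]
    exact Nat.eq_one_of_dvd_coprimes (Nat.Coprime.pow_left k ((Nat.Prime.coprime_iff_not_dvd Fact.out).2 a5))
      (hk ▸ Subgroup.index_dvd_of_le le_sup_right) dvd_rfl
  obtain ⟨w, hw, u, hu, h3⟩ := Subgroup.mem_sup_of_normal_left.1 (h2 ▸ Subgroup.mem_top (⟨n, hn⟩ : N))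
  exact ⟨w, hw, u, hu, congrArg Subtype.val h3⟩

/-- the inertia group centralizes `C_Q(E)` -/
theorem in_le (m : Min p M B D) {K Q : Subgroup G} [K.Normal] {θ : G → ℂ} (hH : K ⊔ In Q θ = ⊤) (hD : D ≤ In Q θ)
    (hZ : D ≤ Ce (Zr K Q θ)) : In Q θ ≤ Ce (Zr K Q θ) := by
  have h2 : In Q θ ≤ Subgroup.normalizer (Zr K Q θ : Set G) :=
    (le_inf (In_le Q θ) fun x hx => H649.mem_normalizer_centralizer (Subgroup.inf_normalizer_le_normalizer_inf
      ⟨Subgroup.le_normalizer hx, Subgroup.le_normalizer_of_normal (Subgroup.mem_top x)⟩)).trans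
      Subgroup.inf_normalizer_le_normalizer_inf
  have := normal_sup hH h2
  have h3 := m.gen _ ((le_inf hD hZ).trans (le_sup_right : _ ≤ K ⊔ (In Q θ ⊓ Ce (Zr K Q θ))))
  intro g hg z hz
  obtain ⟨k, hk, c, hc, rfl⟩ := Subgroup.mem_sup_of_normal_left.1 (h3 ▸ Subgroup.mem_top g)
  rw [← mul_assoc, ← hz.2 k ⟨(mul_mem_cancel_right (Subgroup.mem_inf.1 hc).1).1 hg, hk⟩, mul_assoc, hc.2 z hz, mul_assoc]

/-- an abelian normal `p`-section below a proper normal subgroup is central -/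
theorem sec (RZ : BoxRZ p M) (RT : BoxRT p M) (m : Min p M B D) {N₀ N : Subgroup G} [h0 : N₀.Normal] [N.Normal]
    (h : N₀ ≤ N) (hZ : Subgroup.center G ≤ N) (hN : N ≠ ⊤) (hna : ¬ Ab N) (hi : ∃ k, N₀.relIndex N = p ^ k)
    (hc : ∀ x ∈ N, ∀ y ∈ N, x * y * x⁻¹ * y⁻¹ ∈ N₀) (g : G) {n : G} (hn : n ∈ N) : g * n * g⁻¹ * n⁻¹ ∈ N₀ := by
  obtain ⟨θ, r, hD, h1⟩ := Cmp.cen_zr RZ RT m N hZ hN fun h1 => hna (Cmp.ab_of (m.ab N hN) h1)
  have hH := (RT m.hM G N B D m.hB m.hD (m.blk N) (m.stab N) (m.ab N hN)).2 θ r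
  have h2 := in_le m hH hD h1
  let q := QuotientGroup.mk' N₀
  have hq : ∀ x y, x * y * x⁻¹ * y⁻¹ ∈ N₀ ↔ q x * q y = q y * q x := fun x y => by
    rw [← QuotientGroup.eq_one_iff, show ((x * y * x⁻¹ * y⁻¹ : G) : G ⧸ N₀) = q x * q y * (q x)⁻¹ * (q y)⁻¹ from rfl,
      mul_inv_eq_one, mul_inv_eq_iff_eq_mul]
  have hq1 : ∀ w ∈ N₀, q w = 1 := fun w hw => (QuotientGroup.eq_one_iff w).2 hw
  obtain ⟨k, hk, t, ht, rfl⟩ := Subgroup.mem_sup_of_normal_left.1 (hH ▸ Subgroup.mem_top g)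
  obtain ⟨w, hw, u, hu, rfl⟩ := cover m h hi hn
  obtain ⟨c, h3, w', h4, h5⟩ := fit (R := N₀.subgroupOf N) r.can.ab r.can.pg (In_le _ _) r.can.idx
    (fun a _ v _ => hc a a.2 v v.2) (u := ⟨u, hu.2⟩) hu
  have h6 : (c : G) ∈ Zr N (D ⊓ N) θ :=
    ⟨h3.1, fun y hy => congrArg Subtype.val (h3.2 ⟨y, hy.2⟩ ((in_iff r.le r.zero _).2 hy.1))⟩
  have h7 : q (w * u) = q c := by
    rw [← show (c : G) * w' = u from congrArg Subtype.val h5, map_mul, map_mul, hq1 w hw, hq1 w' h4, one_mul, mul_one]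
  rw [hq, h7, map_mul, mul_assoc, ← map_mul, ← h2 ht c h6, map_mul, ← mul_assoc, (hq k c).1 (hc k hk c c.2), mul_assoc]

end Tp77

open Tp77

/-- `NC` implies `NC'` -/
theorem nc'_of {K S : Type} [Group K] [Finite K] [Group S] {σ : K →* S} {b : Set (IrrCharacter K)} {Q : Subgroup K}
    {θ : K → ℂ} (H : QHyp p M b Q θ σ) {A : Subgroup (MulAut K)} (h : NC p b Q A) : NC' p b Q A := by
  obtain ⟨δ, h1, h2, h3, h4, ⟨_, ⟨χ, hχ, rfl⟩, h5⟩, h6⟩ := h
  exact ⟨δ, h1, h2, h3, h4, fun _ _ e => Ht.fix_k0 h5 (H.faith χ hχ) h2 e, h6⟩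

theorem autOK'_of {K S : Type} [Group K] [Finite K] [Group S] {σ : K →* S} {b : Set (IrrCharacter K)} {Q : Subgroup K}
    {θ : K → ℂ} (H : QHyp p M b Q θ σ) (h : AutOK p b Q θ) : AutOK' p b Q θ :=
  fun A A₀ hA _ => (h A A₀ hA).imp_right (nc'_of H)

theorem aut'_of (h : AUT p M) : AUT' p M := fun K _ _ S _ σ b Q θ H => autOK'_of H (h K S σ b Q θ H)

/-- the old rows -/
theorem row_old (S : Type) [Group S] (h : Row2 S) : Row S := fun K _ _ σ M b Q θ H => by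
  rcases h K σ M b Q θ H with k | k | k
  · exact ⟨fun _ h1 h2 => absurd k (Orb.not_nil h1 h2), autOK'_of H (Orb.aut_of_nil k)⟩
  · exact ⟨fun _ h1 h2 => .inr (Orb.card_of_idx H.can.pg h1 h2 k.1), autOK'_of H (boxV4' K S σ b Q θ H k.1 k.2)⟩
  · exact ⟨fun _ _ _ => .inl k.1, autOK'_of H k.2⟩

/-- TRI and AUT' from the rows -/
theorem tri_aut' (hO : RowOFor fun _ _ _ => True) (h2 : RowFor fun _ _ _ => True) : TRI p M ∧ AUT' p M := by
  by_cases hp : p = 2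
  · subst hp
    have key : ∀ (K : Type) [Group K] [Finite K] (S : Type) [Group S] (σ : K →* S) b Q θ, QHyp 2 M b Q θ σ →
        NoT b Q θ ∧ AutOK' 2 b Q θ := fun K _ _ S _ σ b Q θ H =>
      have := Orb.finite_S H
      have := Orb.simple_S H
      h2 S (Orb.nonab_S H) trivial K σ M b Q θ H
    refine ⟨fun K _ _ S _ σ b Q θ H h1 h3 => ?_, fun K _ _ S _ σ b Q θ H => (key K S σ b Q θ H).2⟩
    by_cases h4 : Three b
    · exact .inl h4
    · exact ((key K S σ b Q θ H).1 (boxTWO K b Q θ H.can h4) h1 h3).imp_right fun e => .inr ⟨rfl, e⟩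
  · exact ⟨boxTRI hp, aut'_of (aut_odd hp hO)⟩

/-- **[CT]** -/
theorem boxCT (RZ : BoxRZ p M) (RT : BoxRT p M) : BoxCT p M := by
  intro G _ _ B D m _ K _ hK A₀ h1 _ X x1 x2 x3 x4 x5
  set φ : G →* MulAut K := MulAut.conjNormal with hφ
  have hn : (X.comap φ).Normal := ⟨fun n hn g => by
    have h := x3 (φ g) ⟨g, rfl⟩ (φ n) hn
    rwa [← map_inv, ← map_mul, ← map_mul] at h⟩
  have hKN : K ≤ X.comap φ := fun k hk => x1 ⟨⟨k, hk⟩, conj_eq _⟩
  rw [Subgroup.commutator_le]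
  rintro _ ⟨g, rfl⟩ β hβ
  obtain ⟨n, rfl⟩ := (x2.trans ‹_›) hβ
  have h2 := sec RZ RT m (N₀ := (Inn K).comap φ) (N := X.comap φ) (Subgroup.comap_mono x1) (fun z hz => by
      rw [Subgroup.mem_comap, show φ z = 1 from MulEquiv.ext fun k => Subtype.ext (by
        change z * k * z⁻¹ = k
        rw [← Subgroup.mem_center_iff.1 hz, mul_inv_cancel_right])]
      exact one_mem _)
    (fun h => h1 fun _ ⟨y, e⟩ => e ▸ x2 (show y ∈ X.comap φ from h ▸ Subgroup.mem_top y))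
    (fun h => Cmp.not_ab ⟨Subgroup.Normal.isSubnormal inferInstance, hK⟩ (h.mono hKN))
    (IsPGroup.iff_card.1 fun y => by
      obtain ⟨y, rfl⟩ := QuotientGroup.mk_surjective y
      obtain ⟨j, hj⟩ := x5 _ y.2
      exact ⟨j, by
        rw [← QuotientGroup.mk_pow, QuotientGroup.eq_one_iff, Subgroup.mem_subgroupOf, Subgroup.mem_comap,
          Subgroup.coe_pow, map_pow]
        exact hj⟩)
    (fun x hx y hy => by
      rw [Subgroup.mem_comap, map_mul, map_mul, map_mul, map_inv, map_inv]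
      exact x4 (Subgroup.commutator_mem_commutator hx hy)) g hβ
  rwa [Subgroup.mem_comap, map_mul, map_mul, map_mul, map_inv, map_inv] at h2

/-- **[HT']** -/
theorem boxHT' (RZ : BoxRZ p M) (RT : BoxRT p M) : BoxHT' p M := by
  rintro G _ _ B D m hO K hN - hK ⟨δ, h1, h2, h3, h4, h5, ⟨e, h6⟩, h7⟩
  have := Local.isPrime_of_isPModular m.hM
  have hZ : ∀ z ∈ Subgroup.center K, (z : G) ∈ Subgroup.center G := fun z hz =>
    Cmp.le_center m hO ((Subgroup.center K).map K.subtype) (Ab.map (fun x _ y hy =>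
      Subgroup.mem_center_iff.1 hy x) _) ⟨z, hz, rfl⟩
  obtain ⟨χ, hχ⟩ := Basic.isPBlock_nonempty m.hB
  obtain ⟨c, hc, -⟩ := CharactersDeep.Extraspecial.exists_central_hom χ.2
  let lam : Subgroup.center K →* ℂˣ := c.comp ((K.subtype.comp (Subgroup.center K).subtype).codRestrict _ fun z => hZ _ z.2)
  have hl : ∀ z : Subgroup.center K, (χ : G → ℂ) (z : K) = (χ : G → ℂ) 1 * lam z := fun z => by
    have h9 := hc 1 ⟨_, hZ _ z.2⟩
    rwa [one_mul] at h9
  have hi : Function.Injective lam := (injective_iff_map_eq_one _).2 fun z hz =>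
    Subtype.ext (Subtype.ext (m.faith χ hχ _ (hZ _ z.2) (by rw [hl, hz, Units.val_one, mul_one])))
  obtain ⟨a1, a2, a3, k0, h10⟩ := Ht.ord_spec (Inn K) δ
  obtain ⟨X, Y, _, _, _, _, ⟨o⟩⟩ := Ht.exists_ovg lam hi a1 a3 h10.symm
    (h5 _ _ h10.symm) h2 hZ fun g => h4 _ ⟨g, rfl⟩
  refine o.main RZ RT m hK (fun h => ((Fact.out : p.Prime).dvd_mul.1 h).elim (fun h => h3 (h.trans a2)) m.zp) hi hχ hl
    h1 h6 ?_
  rw [← mul_assoc, mul_comm (Nat.card _), ← Subgroup.relIndex_mul_index (le_sup_right : _ ≤ K ⊔ Subgroup.center G),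
    Subgroup.relIndex_sup_right]
  refine Nat.mul_lt_mul_of_pos_right (h7.trans_le (Subgroup.index_antitone fun z hz => ?_))
    (Nat.pos_of_ne_zero Subgroup.index_ne_zero_of_finite)
  exact Subgroup.mem_center_iff.2 fun k => Subtype.ext (Subgroup.mem_center_iff.1 hz k)

/-- the conclusion of `BoxI` -/
def BI (p : ℕ) (M : Ideal AlgInt) : Prop :=
  ∀ (G : Type) [Group G] [Finite G] (B : Set (IrrCharacter G)) (D : Subgroup G), Min p M B D → pCore p G = ⊥ →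
    ∀ (L : Subgroup G) [L.Normal], L.index = p → ∀ (K : Subgroup G) [K.Normal], IsQuasisimple K → K ≤ L →
      D ≤ Ce (D ⊓ K)

/-- **[I]** from `AUT'` -/
theorem boxI' (RT : BoxRT p M) (REG : BoxREG p M) (RZ : BoxRZ p M) (hA : AUT' p M) : BI p M := by
  intro G _ _ B D m hO L _ hL K _ hK hKL
  have hp : p.Prime := Fact.out
  have := Local.isPrime_of_isPModular m.hM
  have hDp := H592.Defect.isPGroup_of_isDefectGroup m.hD
  have hLt : L ≠ ⊤ := fun h => hp.ne_one (by rw [← hL, h, Subgroup.index_top])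
  have hKt : K ≠ ⊤ := fun h => hLt (top_le_iff.1 (h ▸ hKL))
  have hc : IsComponent K := ⟨Subgroup.Normal.isSubnormal inferInstance, hK⟩
  -- the root
  obtain ⟨θ, r, hD, hZ⟩ : ∃ θ, Root p M K (cov B K) (D ⊓ K) θ ∧ D ≤ In (D ⊓ K) θ ∧ D ≤ Ce (Zr K (D ⊓ K) θ) := by
    have h1 : Subgroup.center G ≤ L := by
      by_contra h
      have h2 : (L ⊔ Subgroup.center G).index ∣ p := hL ▸ Subgroup.index_dvd_of_le le_sup_left
      have h3 := Subgroup.relIndex_mul_index (le_sup_left : L ≤ L ⊔ Subgroup.center G)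
      rw [Subgroup.relIndex_sup_left, hL] at h3
      rcases (Nat.dvd_prime hp).1 (Dvd.intro _ h3) with h4 | h4
      · exact h (Subgroup.relIndex_eq_one.1 h4)
      · exact m.zp (h4 ▸ Subgroup.relIndex_dvd_card L _)
    have hN : K ⊔ Subgroup.center G ≠ ⊤ := fun h => hLt (top_le_iff.1 (h ▸ sup_le hKL h1))
    have hN' : K ⊔ Subgroup.center G ≤ layer G ⊔ Subgroup.center G := sup_le_sup_right (component_le_layer hc) _
    obtain ⟨θ, r, h2, h3⟩ := Cmp.cen_zr RZ RT m _ le_sup_right hN fun h =>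
      Cmp.not_ab hc ((Cmp.ab_of (m.ab _ hN) h).mono le_sup_left)
    have h4 : D ⊓ (K ⊔ Subgroup.center G) ⊓ K = D ⊓ K := by
      rw [inf_assoc, inf_eq_right.2 (le_sup_left : K ≤ K ⊔ Subgroup.center G)]
    obtain ⟨θ', a, ha, h5, r'⟩ := Cmp.root_down le_sup_left (hN'.trans (Cmp.layer_le hc)) r fun x hx =>
      h4 ▸ Cmp.key m hO hc hx.1 (hN' hx.2)
    have h6 := Cmp.zr_le (Q := D ⊓ (K ⊔ Subgroup.center G)) (hN'.trans (Cmp.layer_le hc)) ha h5 r'.zero
    rw [h4, ← Cmp.cov_eq] at r'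
    rw [h4] at h6
    exact ⟨θ', r', fun d hd => h4 ▸ Cmp.mem_In ha h5 r'.zero (h2 hd)
      (Subgroup.le_normalizer_of_normal (Subgroup.mem_top d)), h3.trans (Subgroup.centralizer_le h6)⟩
  have hH := (RT m.hM G K B D m.hB m.hD (m.blk K) (m.stab K) (m.ab K hKt)).2 θ r
  have hla := la_iff r.le r.zero
  have hin := in_iff r.le r.zero
  have := normal_sup hH (In_le (D ⊓ K) θ)
  obtain ⟨n, hn, hn'⟩ := reg_sub REG m hKL hLt r hD
  set Q := D ⊓ K with hQ
  set φ : G →* MulAut K := MulAut.conjNormal with hφ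
  have c0 : ∀ α ∈ L.map φ ⊓ LA (Q.subgroupOf K) (fun x : K => θ x), PElt p α → ∀ u ∈ Q.subgroupOf K, α u = u := by
    rintro _ ⟨⟨g, hg, rfl⟩, h1⟩ h2 u hu
    have h3 := (hla g).1 h1
    obtain ⟨k, hk, c, hc, h4⟩ := Subgroup.mem_sup_of_normal_left.1 (hn' g hg)
    have h5 : k ∈ In Q θ := (mul_mem_cancel_right (Subgroup.mem_inf.1 hc).1).1 (h4 ▸ pow_mem h3 n)
    have := Cn.normal_Ce (D := Q) (θ := θ)
    have := Cn.normal_Ce (D := Q.subgroupOf K) (θ := fun x : K => θ x)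
    have h6 := Subgroup.pow_index_mem ((Ce (Q.subgroupOf K)).subgroupOf (In (Q.subgroupOf K) fun x : K => θ x))
      ⟨⟨k, hk⟩, (hin _).2 h5⟩
    set e := ((Ce (Q.subgroupOf K)).subgroupOf (In (Q.subgroupOf K) fun x : K => θ x)).index with he
    have h7 : k ^ e ∈ Ce Q := (ce_iff r.le (⟨k, hk⟩ ^ e)).1 h6
    have h8 : (⟨g, h3⟩ : In Q θ) ^ (n * e) ∈ (Ce Q).subgroupOf (In Q θ) := by
      rw [← QuotientGroup.eq_one_iff, pow_mul, show (⟨g, h3⟩ : In Q θ) ^ n = ⟨k, h5⟩ * ⟨c, hc.1⟩ from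
        Subtype.ext h4.symm, QuotientGroup.mk_pow, QuotientGroup.mk_mul,
        (QuotientGroup.eq_one_iff (⟨c, hc.1⟩ : In Q θ)).2 hc.2, mul_one, ← QuotientGroup.mk_pow,
        QuotientGroup.eq_one_iff]
      exact h7
    refine mem_of_pow (F := FixE u) h2 (n := n * e) (fun h => (hp.dvd_mul.1 h).elim hn r.can.idx) ?_
    rw [← map_pow]
    refine Subtype.ext ?_
    change g ^ (n * e) * u * (g ^ (n * e))⁻¹ = u
    rw [← show (u : G) * g ^ (n * e) = g ^ (n * e) * u from h8 u hu, mul_inv_cancel_right]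
  have cen : Cen p (Q.subgroupOf K) (fun x : K => θ x) φ.range → D ≤ Ce Q := by
    intro h d hd u hu
    obtain ⟨k, hk⟩ := hDp ⟨d, hd⟩
    have h1 : φ d ^ p ^ k = 1 := by rw [← map_pow, show d ^ p ^ k = 1 from congrArg Subtype.val hk, map_one]
    obtain ⟨j, -, hj⟩ := (Nat.dvd_prime_pow hp).1 (orderOf_dvd_of_pow_eq_one h1)
    have h2 : d * u * d⁻¹ = u :=
      congrArg Subtype.val (h (φ d) ⟨⟨d, rfl⟩, (hla d).2 (hD hd)⟩ ⟨j, hj⟩ ⟨u, hu.2⟩ hu)
    exact (mul_inv_eq_iff_eq_mul.1 h2).symm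
  have hidx : (L.map φ).relIndex φ.range ∣ p := by
    rw [← Subgroup.index_comap, ← hL]
    exact Subgroup.index_dvd_of_le (Subgroup.le_comap_map φ L)
  rcases (Nat.dvd_prime hp).1 hidx with h1 | h1
  · exact cen fun α hα => c0 α ⟨Subgroup.relIndex_eq_one.1 h1 hα.1, hα.2⟩
  obtain ⟨-, -, -, θ₀, -, q, -⟩ := (boxCMP RZ RT G B D m hO).2.2 K hc hKt
  have inn : Inn K ≤ L.map φ := by
    rintro _ ⟨k, rfl⟩
    exact ⟨k, hKL k.2, (conj_eq k).symm⟩
  have stab : φ.range ≤ Stab (cov B K) := by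
    rintro _ ⟨g, rfl⟩
    obtain ⟨ψ, hψ⟩ := Basic.isPBlock_nonempty (m.blk K)
    exact Orb.stab_of m.hM (m.blk K) ⟨ψ, hψ, rfl⟩ ⟨_, ((m.stab K).mem_iff g).1 (Subgroup.mem_top g) ψ hψ, rfl⟩
  have fx : ∀ y ∈ K ⊔ (In Q θ ⊓ Ce Q), PElt p y → ∀ χ ∈ Fn (cov B K), φ y ∈ FixF χ := by
    rintro y hy ⟨k, hk⟩ _ ⟨ψ, hψ, rfl⟩
    exact (fixF_iff _ y).2 ((REG m.hM G K B D m.hB m.hD (m.blk K) (m.stab K) Q θ r).2.2 y hy
      ⟨k, by rw [← hk, pow_orderOf_eq_one]; exact one_mem _⟩ ψ hψ)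
  have orb : ∀ χ ∈ Fn (cov B K), ¬ p ∣ ((FixF χ).comap φ).index := by
    intro χ hχ
    obtain ⟨ψ, hψ, rfl⟩ := id hχ
    obtain ⟨g, h2, -⟩ := m.ext K ψ hψ
    have h3 := (REG m.hM G K B _ m.hB (Basic.isDefectGroup_conj m.hD g) (m.blk K) (m.stab K) Q θ r).2.1 _ le_rfl
      (m.blk _) (m.stab _)
    have h4 := relIndex_eq (F := (FixF ψ.1).comap φ) (le_sup_left : K ⊔ (In Q θ ⊓ Ce Q) ≤ _ ⊔ cj g D)
      fun x hx => by
        obtain ⟨y, hy, d, hd, rfl⟩ := Subgroup.mem_sup_of_normal_left.1 hx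
        exact ⟨y, hy, by rw [inv_mul_cancel_left]; exact (fixF_iff _ d).2 (h2 d hd)⟩
    have h5 := not_dvd_relIndex (p := p) (F := (FixF ψ.1).comap φ) fun y hy h6 => fx y hy h6 _ hχ
    rw [← h4] at h5
    intro h6
    have h7 := h6.trans (Subgroup.index_dvd_of_le (inf_le_left : _ ⊓ (K ⊔ (In Q θ ⊓ Ce Q) ⊔ cj g D) ≤ _))
    rw [← Subgroup.relIndex_mul_index inf_le_right, Subgroup.inf_relIndex_right] at h7
    exact (hp.dvd_mul.1 h7).elim h5 h3
  have ho : ∀ α ∈ φ.range, ∀ χ ∈ Fn (cov B K), ∃ β ∈ L.map φ, χ ∘ α = χ ∘ β := by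
    rintro _ ⟨g, rfl⟩ χ hχ
    have h2 : (FixF χ).comap φ ⊔ L = ⊤ := by
      rw [← Subgroup.index_eq_one]
      exact ((Nat.dvd_prime hp).1 (hL ▸ Subgroup.index_dvd_of_le le_sup_right)).resolve_right fun h3 =>
        orb χ hχ (h3 ▸ Subgroup.index_dvd_of_le le_sup_left)
    obtain ⟨t, ht, l, hl, rfl⟩ := Subgroup.mem_sup_of_normal_right.1 (h2 ▸ Subgroup.mem_top g)
    refine ⟨φ l, ⟨l, hl, rfl⟩, funext fun x => ?_⟩
    rw [map_mul]
    exact ht.2 (φ l x)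
  have hcz : In Q θ ≤ Ce (Zr K Q θ) := by
    have h2 : In Q θ ≤ Subgroup.normalizer (Zr K Q θ : Set G) :=
      (le_inf (In_le Q θ) fun x hx => H649.mem_normalizer_centralizer (Subgroup.inf_normalizer_le_normalizer_inf
        ⟨Subgroup.le_normalizer hx, Subgroup.le_normalizer_of_normal (Subgroup.mem_top x)⟩)).trans
        Subgroup.inf_normalizer_le_normalizer_inf
    have := normal_sup hH h2
    have h3 := m.gen _ ((le_inf hD hZ).trans (le_sup_right : _ ≤ K ⊔ (In Q θ ⊓ Ce (Zr K Q θ))))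
    intro g hg z hz
    obtain ⟨k, hk, c, hc, rfl⟩ := Subgroup.mem_sup_of_normal_left.1 (h3 ▸ Subgroup.mem_top g)
    rw [← mul_assoc, ← hz.2 k ⟨(mul_mem_cancel_right (Subgroup.mem_inf.1 hc).1).1 hg, hk⟩, mul_assoc, hc.2 z hz, mul_assoc]
  refine (hA K _ _ _ _ _ { q with can := r.can } φ.range (L.map φ) ⟨inn, Subgroup.map_le_range φ L, stab, ?_, ?_, h1,
    c0, ?_, fun χ hχ => Subgroup.index_comap _ φ ▸ orb χ hχ, fun u hu => ?_, ?_⟩
    (boxCT RZ RT G B D m hO K hK _ (fun h => hp.ne_one (h1.symm.trans (Subgroup.relIndex_eq_one.2 h)))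
      (Subgroup.map_le_range φ L))).elim cen (boxHT' RZ RT G B D m hO K hK hKt)
  · rintro _ ⟨g, rfl⟩ z hz
    refine Subtype.ext ?_
    change g * z * g⁻¹ = z
    rw [show g * z = z * g from Subgroup.mem_center_iff.1 (Cmp.center_inj m hO hc ⟨z, hz, rfl⟩) g,
      mul_inv_cancel_right]
  · refine ⟨?_⟩
    rintro ⟨_, _⟩ ⟨l, hl, rfl⟩ ⟨_, g, rfl⟩
    exact ⟨g * l * g⁻¹, Subgroup.Normal.conj_mem inferInstance l hl g, by rw [map_mul, map_mul, map_inv]; rfl⟩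
  · rintro _ ⟨g, hg, rfl⟩ h2 χ hχ
    have h3 : orderOf g ≠ 0 := (orderOf_pos g).ne'
    have h4 := fx ((g ^ n) ^ ordCompl[p] (orderOf g)) (pow_mem (hn' g hg) _) (by
      have h5 : ((g ^ n) ^ ordCompl[p] (orderOf g)) ^ p ^ (orderOf g).factorization p = 1 := by
        rw [← pow_mul, mul_comm, Nat.ordProj_mul_ordCompl_eq_self, ← pow_mul, mul_comm, pow_mul, pow_orderOf_eq_one,
          one_pow]
      obtain ⟨j, -, hj⟩ := (Nat.dvd_prime_pow hp).1 (orderOf_dvd_of_pow_eq_one h5)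
      exact ⟨j, hj⟩) χ hχ
    rw [← pow_mul, map_pow] at h4
    exact funext (mem_of_pow h2 (fun h => (hp.dvd_mul.1 h).elim hn (Nat.not_dvd_ordCompl hp h3)) h4).2
  · rw [relIndex_eq (inf_le_inf_right _ (Subgroup.map_le_range φ L)) fun α hα => by
      obtain ⟨β, hβ, h2⟩ := Orb.orb r.can inn ((Subgroup.map_le_range φ L).trans stab) hα.2 (ho α hα.1) hu
      refine ⟨β, hβ, ?_⟩
      change β⁻¹ (α u) = u
      rw [h2, MulAut.inv_apply_self]]
    exact not_dvd_relIndex fun α hα h2 => c0 α hα h2 u hu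
  · rintro _ ⟨⟨g, rfl⟩, h2⟩ z hz
    have h3 : (z : G) ∈ Zr K Q θ := ⟨hz.1, fun y hy => congrArg Subtype.val (hz.2 ⟨y, hy.2⟩ ((hin _).2 hy.1))⟩
    refine Subtype.ext ?_
    change g * z * g⁻¹ = z
    rw [← hcz ((hla g).1 h2) z h3, mul_inv_cancel_right]

theorem bhg_step' (hMin : BoxMin p M) (hOP : BoxOP p M) (hCMP : BoxCMP p M) (hPERM : BoxPERM p M) (hI : BI p M)
    (hFIN : BoxFIN p M) (hT : TRI p M) (hQ : QSb p M) (hK : KMa p) (hM : IsPModular p M)
    {G : Type} [Group G] [Finite G] (ih : ∀ (H : Type) [Group H] [Finite H], Lt H G → BHg p M H) : BHg p M G := by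
  intro B D hB hD hz
  by_contra hna
  have m := hMin G B D ⟨hM, hB, hD, hz, hna, hK, ih⟩
  have hO := hOP G B D m
  obtain ⟨c1, c2, -⟩ := hCMP G B D m hO
  have hG0 := hPERM hT G B D m hO
  have hn : ∀ K : Subgroup G, IsComponent K → K.Normal := fun K hK => by
    rw [← Subgroup.normalizer_eq_top_iff, eq_top_iff]
    exact fun g _ => mem_G0.1 (hG0 ▸ Subgroup.mem_top g) K hK
  have hne : ∀ K : Subgroup G, IsComponent K → K ≠ ⊤ := fun K hK h => hna (hQ G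
    (isQuasisimple_of_mulEquiv ((MulEquiv.subgroupCongr h).trans Subgroup.topEquiv) hK.2) B D hB hD hz)
  by_cases hL : ∃ L : Subgroup G, L.Normal ∧ L.index = p
  · obtain ⟨L, _, hL⟩ := hL
    obtain ⟨K, hK⟩ : ∃ K : Subgroup G, IsComponent K := by
      by_contra h3
      have h4 : layer G = ⊥ := le_bot_iff.1 (layer_le_iff.2 fun K hK => absurd ⟨K, hK⟩ h3)
      refine hna fun x _ y _ => Subgroup.mem_center_iff.1 (c1 ▸ ?_) x
      rw [h4]
      exact Subgroup.mem_centralizer_iff.2 fun z hz => by rw [Subgroup.mem_bot.1 hz, one_mul, mul_one]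
    have := hn K hK
    exact hFIN G B D m K (hne K hK) (fun h => not_le_Ce hK.2 (h.trans (Subgroup.center_le_centralizer _)))
      (hI G B D m hO L hL K hK.2 (le_of_index hK.2 hL))
  · have hperf := perfect_of (p := p) (G := G)
      (fun N _ h => m.gen N (le_of_not_dvd (H592.Defect.isPGroup_of_isDefectGroup hD) h))
      (fun N _ h => by
        obtain ⟨k, hk⟩ := h
        by_contra h1
        exact hL (exists_index hk h1))
    have h1 := layer_sup (G := G) fun K hK => by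
      have := hn K hK
      exact sup_centralizer_eq_top hperf hK
    rw [c1] at h1
    rw [h1, inf_top_eq] at c2
    have h2 : ∀ K : Subgroup G, IsComponent K → D ≤ Ce (D ⊓ K) := fun K hK => by
      conv_lhs => rw [c2]
      refine iSup₂_le fun L hL => ?_
      by_cases h3 : L = K
      · have := hn K hK
        rw [h3]
        exact (m.ab K (hne K hK)).le_centralizer
      · exact inf_le_right.trans ((component_le_centralizer_of_ne hL hK h3).trans
          (Subgroup.centralizer_le fun x hx => hx.2))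
    have h3 : D ≤ Ce D := by
      conv_lhs => rw [c2]
      exact iSup₂_le fun K hK => Subgroup.le_centralizer_iff.1 (h2 K hK)
    exact hna fun x hx y hy => Subgroup.mem_centralizer_iff.1 (h3 hy) x hx

/-- **All heights zero implies an abelian defect group**, from the boxes. -/
theorem bhg_all' (hMin : BoxMin p M) (hOP : BoxOP p M) (hCMP : BoxCMP p M) (hPERM : BoxPERM p M) (hI : BI p M)
    (hFIN : BoxFIN p M) (hT : TRI p M) (hQ : QSb p M) (hK : KMa p) (hM : IsPModular p M)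
    (G : Type) [Group G] [Finite G] : BHg p M G := by
  have key : ∀ (m n : ℕ) (G : Type) [Group G] [Finite G], (Subgroup.center G).index ≤ m → Nat.card G ≤ n →
      BHg p M G := by
    intro m
    induction m using Nat.strong_induction_on with
    | _ m ihm =>
      intro n
      induction n using Nat.strong_induction_on with
      | _ n ihn =>
        intro G _ _ h1 h2
        refine bhg_step' hMin hOP hCMP hPERM hI hFIN hT hQ hK hM fun H _ _ h => ?_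
        rcases h with h | ⟨h, h'⟩
        · exact ihm _ (h.trans_le h1) _ H le_rfl le_rfl
        · exact ihn _ (h'.trans_le h2) H (h.trans h1) le_rfl
  exact key _ _ G le_rfl le_rfl

/-- **S4524** from the boxes -/
theorem s4524_boxes'.{u} (hMin : BoxMin p M) (RT : BoxRT p M) (REG : BoxREG p M) (RZ : BoxRZ p M)
    (PERM : BoxPERM p M) (FIN : BoxFIN p M) (hT : TRI p M) (hA : AUT' p M) (hQ : QSb p M) (hK : KMa p)
    (hM : IsPModular p M) {G : Type u} [Group G] [Finite G] (B : Set (IrrCharacter G)) (hB : IsPBlock M B)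
    (D : Subgroup G) (hD : IsDefectGroup p M B D) :
    IsMulCommutative D ↔ ∀ χ ∈ B, blockHeight p B (χ : G → ℂ) = 0 :=
  s4524_of hK hM (bhg_all' hMin (boxOP RZ RT) (boxCMP RZ RT) PERM (boxI' RT REG RZ hA) FIN hT hQ hK hM) B hB D hD

end Cfsg.Agent.BH.R2
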